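import Cfsg.Agent.Lib.Walter.Interface
import Cfsg.Prelude.Def_Sz
import Cfsg.Prelude.Def_Classical
import Cfsg.Prelude.Def_Involutions

/-!
# Goldschmidt's theorem on strongly closed abelian 2-subgroups: interface

Captain: helper53 (`notes/goldschmidt_keystone.md`).  In a minimal counterexample `Hyp` the group
`A` is elementary, minimal strongly closed in `S`; the components of `C(B)`, `B ≤ A`, enter through
the pairs `(W, Q)` of `IsPair`.
-/

set_option autoImplicit false

universe u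

namespace Cfsg.Agent.Lib.Goldschmidt53

open Subgroup
open Cfsg.Agent.Lib.Walter (CBar liftBar coreC core IsKnownA IsJR)

/-- `Sz(q)` or `PSU(3, q)`, `q` even. -/
def IsBenderType (L : Type u) [Group L] : Prop :=
  Cfsg.Lie.IsoSuzuki L ∨
    ∃ (F : Type) (_ : Field F) (_ : Fintype F) (n : ℕ), 2 ≤ n ∧ Fintype.card F = (2 ^ n) ^ 2 ∧
      Nonempty (L ≃* Cfsg.PSU 3 F (2 ^ n))

/-- The simple groups of the conclusion. -/
def IsKnown (L : Type u) [Group L] : Prop :=
  IsKnownA L ∨ IsBenderType L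

/-- `Ω₁` of a Sylow 2-subgroup. -/
abbrev Om {L : Type u} [Group L] (P : Sylow 2 L) : Subgroup L :=
  Cfsg.omegaOne 2 (P : Subgroup L)

/-- What is used about the groups of the conclusion. -/
structure Facts (L : Type u) [Group L] : Prop where
  simple : IsSimpleGroup L
  nonabelian : ¬ IsMulCommutative L
  omega_elementary : ∀ P : Sylow 2 L, Cfsg.IsElementaryAbelian 2 (Om P)
  omega_central : ∀ P : Sylow 2 L, ∀ x ∈ Om P, ∀ y ∈ (P : Subgroup L), x * y = y * x
  four_le : ∀ P : Sylow 2 L, 4 ≤ Nat.card ↥(Om P)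
  conj : ∀ u v : L, orderOf u = 2 → orderOf v = 2 → IsConj u v
  torus : ∀ P : Sylow 2 L, ∃ n ∈ normalizer ((P : Subgroup L) : Set L), Odd (orderOf n) ∧
    ∀ x ∈ Om P, x ≠ 1 → ∀ y ∈ Om P, y ≠ 1 → ∃ k : ℕ, n ^ k * x * (n ^ k)⁻¹ = y
  /-- Outside the case of Janko–Ree type centralisers of involutions are solvable. -/
  solvable : ¬ IsJR L → ∀ u : L, orderOf u = 2 →
    Group.IsSolvable ↥(centralizer ({u} : Set L))
  /-- Large Sylow subgroup: centralisers of involutions have trivial odd core. -/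
  core : (∀ P : Sylow 2 L, 8 ≤ Nat.card ↥(P : Subgroup L)) → ∀ u : L, orderOf u = 2 →
    Cfsg.centralizerPPrimeCore 2 u = ⊥
  /-- An automorphism of odd order fixing the centraliser of an involution is trivial. -/
  aut : ∀ u : L, orderOf u = 2 → ∀ α : MulAut L, Odd (orderOf α) →
    (∀ x : L, x * u = u * x → α x = x) → α = 1
  /-- A 2-automorphism fixing `Ω₁(P)` and `P / Ω₁(P)` pointwise is induced by an element of `P`. -/
  split : ∀ P : Sylow 2 L, ∀ α : MulAut L, (∃ j : ℕ, orderOf α = 2 ^ j) →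
    (∀ x ∈ Om P, α x = x) → (∀ x ∈ (P : Subgroup L), x⁻¹ * α x ∈ Om P) →
    ∃ g ∈ (P : Subgroup L), ∀ x : L, α x = g * x * g⁻¹
  /-- If `|Ω₁(P)| = 4`, every element outside `Ω₁(P)` has all of it as commutators. -/
  full : ∀ P : Sylow 2 L, Nat.card ↥(Om P) = 4 → ∀ x ∈ (P : Subgroup L), x ∉ Om P →
    ∀ w ∈ Om P, ∃ y ∈ (P : Subgroup L), x * y * x⁻¹ * y⁻¹ = w
  /-- In a perfect double cover either some involution lifts to an element of order four or some
  lift of `Ω₁(P)` is not central in the preimage of `P`. -/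
  cover : ∀ (E : Type u) [Group E] [Finite E] (π : E →* L), Function.Surjective π →
    Group.IsPerfect E → π.ker ≤ Subgroup.center E → Nat.card π.ker = 2 → ∀ P : Sylow 2 L,
    (∀ x y : E, π x ∈ Om P → π y ∈ (P : Subgroup L) → x * y = y * x) →
    ∃ x : E, π x ≠ 1 ∧ π x * π x = 1 ∧ x * x ≠ 1
  /-- Only for `Sz(8)` all involutions can lift to involutions in a perfect double cover. -/
  cover_small : ∀ (E : Type u) [Group E] [Finite E] (π : E →* L), Function.Surjective π →
    Group.IsPerfect E → π.ker ≤ Subgroup.center E → Nat.card π.ker = 2 →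
    (∀ x : E, π x ≠ 1 → π x * π x = 1 → x * x = 1) →
    ∀ P : Sylow 2 L, Nat.card ↥(Om P) = 8 ∧ Nat.card ↥(P : Subgroup L) = 64

/-- The theorem for groups of order less than `m`. -/
def Below.{w} (m : ℕ) : Prop :=
  ∀ (L : Type w) [Group L] [Finite L], Nat.card L < m → IsSimpleGroup L → ¬ IsMulCommutative L →
    ∀ (S : Sylow 2 L) (A : Subgroup L), A ≠ ⊥ → Cfsg.IsElementaryAbelian 2 A →
      Cfsg.IsStronglyClosed A (S : Subgroup L) → IsKnown L ∧ A = Om S

variable {G : Type u} [Group G]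

/-- A minimal counterexample, without the assumption that it is one. -/
structure Hyp (S : Sylow 2 G) (A : Subgroup G) : Prop where
  simple : IsSimpleGroup G
  nonabelian : ¬ IsMulCommutative G
  below : Below.{u} (Nat.card G)
  ne : A ≠ ⊥
  elem : Cfsg.IsElementaryAbelian 2 A
  closed : Cfsg.IsStronglyClosed A (S : Subgroup G)
  minimal : ∀ U : Subgroup G, U ≤ A → U ≠ ⊥ → Cfsg.IsStronglyClosed U (S : Subgroup G) → U = A

/-- The layer part of the structure of a group with `O = 1` and an elementary strongly closed `A`. -/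
structure Decomp {X : Type u} [Group X] (A : Subgroup X) : Prop where
  /-- `A` normalises every component. -/
  normal : ∀ K : Subgroup X, Cfsg.IsComponent K → A ≤ normalizer (K : Set X)
  /-- A component not centralised by `A` is known modulo its centre, `A` covers `Ω₁`. -/
  cases : ∀ K : Subgroup X, Cfsg.IsComponent K → A ≤ centralizer (K : Set X) ∨
    IsKnown (↥K ⧸ Subgroup.center ↥K) ∧ ∃ P : Sylow 2 (↥K ⧸ Subgroup.center ↥K),
      (A.subgroupOf K).map (QuotientGroup.mk' (Subgroup.center ↥K)) = Om P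
  /-- With trivial centre it is known and meets `A` in `Ω₁` of a Sylow subgroup. -/
  simple : ∀ K : Subgroup X, Cfsg.IsComponent K → ¬ A ≤ centralizer (K : Set X) →
    Subgroup.center ↥K = ⊥ → IsKnown ↥K ∧ ∃ P : Sylow 2 ↥K, A ⊓ K = (Om P).map K.subtype
  /-- `A` is the product of its parts in the components and in `O₂(X)`. -/
  split : A ≤ (A ⊓ Cfsg.pCore 2 X) ⊔ ⨆ K : {K : Subgroup X // Cfsg.IsComponent K}, A ⊓ K.1
  /-- `X = E(X) N(A)`. -/
  frattini : ∀ g : X, ∃ k ∈ Cfsg.layer X, k * g ∈ normalizer (A : Set X)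

/-- `W` is the part of `A` in a component of `C(B)` modulo the core which `A` does not centralise,
and `Q` the part centralising that component. -/
def IsPair (A B W Q : Subgroup G) : Prop :=
  B ≤ A ∧ B ≠ ⊥ ∧ ∃ K : Subgroup (CBar B), Cfsg.IsComponent K ∧
    ¬ A ≤ liftBar B (Subgroup.centralizer (K : Set (CBar B))) ∧
    W = A ⊓ liftBar B K ∧ Q = A ⊓ liftBar B (Subgroup.centralizer (K : Set (CBar B)))

/-- No non-trivial proper subgroup of `A` is invariant under `N(A)`. -/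
def Irreducible (A : Subgroup G) : Prop :=
  ∀ U : Subgroup G, U ≤ A →
    (∀ n ∈ normalizer (A : Set G), ∀ x ∈ U, n * x * n⁻¹ ∈ U) → U = ⊥ ∨ U = A

/-- `N(A)` has no subgroup of index 2 containing `C(A)`. -/
def NoIndexTwo (A : Subgroup G) : Prop :=
  ∀ f : ↥(normalizer (A : Set G)) →* Multiplicative (ZMod 2),
    (∀ c : ↥(normalizer (A : Set G)), (c : G) ∈ centralizer (A : Set G) → f c = 1) → f = 1

/-- Elements of `N(A)` act on `A` with odd order. -/
def OddAction (A : Subgroup G) : Prop :=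
  ∀ n ∈ normalizer (A : Set G), ∃ m : ℕ, Odd m ∧ ∀ x ∈ A, n ^ m * x * (n ^ m)⁻¹ = x

/-- The properties of pairs used by the combinatorics. -/
structure PairSystem (A : Subgroup G) (P : Subgroup G → Subgroup G → Subgroup G → Prop) :
    Prop where
  le_Q : ∀ B W Q, P B W Q → B ≤ Q
  base_ne : ∀ B W Q, P B W Q → B ≠ ⊥
  W_le : ∀ B W Q, P B W Q → W ≤ A
  Q_le : ∀ B W Q, P B W Q → Q ≤ A
  disj : ∀ B W Q, P B W Q → W ⊓ Q = ⊥
  span : ∀ B W Q, P B W Q → W ⊔ Q = A
  four_le : ∀ B W Q, P B W Q → 4 ≤ Nat.card W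
  unique : ∀ B W Q Q', P B W Q → P B W Q' → Q = Q'
  orth : ∀ B W Q W' Q', P B W Q → P B W' Q' → W ≠ W' → W' ≤ Q
  up : ∀ B B' W Q, P B W Q → B ≤ B' → B' ≤ Q → P B' W Q
  down : ∀ B B' W' Q', P B' W' Q' → B ≤ B' → B ≠ ⊥ → ∃ W Q, P B W Q ∧ W' ≤ W ∧ Q ≤ Q' ∧
    (W' = W ∧ Q' = Q ∨ Nat.card W' = 4 ∧ Nat.card W = 8)
  torus : ∀ B W Q, P B W Q → ∃ n ∈ normalizer (A : Set G), Odd (orderOf n) ∧
    (∀ q ∈ Q, n * q * n⁻¹ = q) ∧ (∀ w ∈ W, n * w * n⁻¹ ∈ W) ∧
    ∀ x ∈ W, x ≠ 1 → ∀ y ∈ W, y ≠ 1 → ∃ k : ℕ, n ^ k * x * (n ^ k)⁻¹ = y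
  conj : ∀ n ∈ normalizer (A : Set G), ∀ B W Q, P B W Q →
    P (B.map (MulAut.conj n).toMonoidHom) (W.map (MulAut.conj n).toMonoidHom)
      (Q.map (MulAut.conj n).toMonoidHom)

/-- `(W, Q)` occurs in the centraliser of every involution of `Q`. -/
def IsBlock (P : Subgroup G → Subgroup G → Subgroup G → Prop) (W Q : Subgroup G) : Prop :=
  ∀ b ∈ Q, b ≠ 1 → P (zpowers b) W Q

/-- The small case: `|A| = 8`, every involution of `A` has a complementary four-group. -/
structure CaseSmall (A : Subgroup G) (P : Subgroup G → Subgroup G → Subgroup G → Prop) :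
    Prop where
  card : Nat.card ↥A = 8
  odd : OddAction A
  trans : ∀ a ∈ A, a ≠ 1 → ∀ b ∈ A, b ≠ 1 → ∃ n ∈ normalizer (A : Set G), n * a * n⁻¹ = b
  pair : ∀ a ∈ A, a ≠ 1 → ∃ W, P (zpowers a) W (zpowers a) ∧ Nat.card W = 4

/-- The monomial case: `A` is the direct sum of at least three blocks. -/
structure CaseMono (A : Subgroup G) (P : Subgroup G → Subgroup G → Subgroup G → Prop)
    (ι : Type) (W Q : ι → Subgroup G) : Prop where
  three : 3 ≤ Nat.card ι
  block : ∀ i, IsBlock P (W i) (Q i)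
  four_le : ∀ i, 4 ≤ Nat.card (W i)
  le : ∀ i, W i ≤ A
  le_Q : ∀ i j, i ≠ j → W j ≤ Q i
  span : (⨆ i, W i) = A
  disj : ∀ i, W i ⊓ Q i = ⊥
  Q_eq : ∀ i, (⨆ j : {j : ι // j ≠ i}, W j) = Q i
  card_eq : ∀ i j, Nat.card (W i) = Nat.card (W j)
  perm : ∀ n ∈ normalizer (A : Set G), ∀ i, ∃ j,
    (W i).map (MulAut.conj n).toMonoidHom = W j ∧ (Q i).map (MulAut.conj n).toMonoidHom = Q j
  all : ∀ B V R, P B V R → ∃ i, V ≤ W i ∧ Q i ≤ R

/-- The subgroup generated by the centralisers of the involutions of `A`. -/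
def centSpan (A : Subgroup G) : Subgroup G :=
  ⨆ t : {t : G // t ∈ A ∧ orderOf t = 2}, Subgroup.centralizer ({(t : G)} : Set G)

/-! ## The propositions of the sections -/

/-- Section B: fusion. -/
def PropBase : Prop :=
  ∀ (G : Type u) [Group G] [Finite G] (S : Sylow 2 G) (A : Subgroup G), Hyp S A →
    Irreducible A ∧ NoIndexTwo A ∧ 4 ≤ Nat.card ↥A ∧
    (∀ x ∈ (S : Subgroup G), ∀ g : G, g * x * g⁻¹ ∈ (S : Subgroup G) →
      ∃ n ∈ normalizer (A : Set G), n * x * n⁻¹ = g * x * g⁻¹) ∧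
    ∀ R : Subgroup G, R ≤ (S : Subgroup G) ⊓ centralizer (A : Set G) → R ⊓ A = ⊥ →
      Cfsg.IsStronglyClosed R (S : Subgroup G) → R = ⊥

/-- Section L: the known groups. -/
def PropFacts : Prop :=
  ∀ (L : Type u) [Group L] [Finite L], IsKnown L → Facts L

/-- Section X: groups without odd core. -/
def PropLocal : Prop :=
  ∀ (X : Type u) [Group X] [Finite X] (m : ℕ), Cfsg.oddCore X = ⊥ → Nat.card X < m →
    Below.{u} m → ∀ (T : Sylow 2 X) (A : Subgroup X), Cfsg.IsElementaryAbelian 2 A →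
      Cfsg.IsStronglyClosed A (T : Subgroup X) → Decomp A

/-- Section C: no covering group of `Sz(8)` is a component which `A` moves. -/
def PropNoCover : Prop :=
  ∀ (G : Type u) [Group G] [Finite G] (S : Sylow 2 G) (A : Subgroup G), Hyp S A →
    ∀ B : Subgroup G, B ≤ A → B ≠ ⊥ → ∀ K : Subgroup (CBar B), Cfsg.IsComponent K →
      ¬ A ≤ liftBar B (Subgroup.centralizer (K : Set (CBar B))) → Subgroup.center ↥K = ⊥

/-- Section P: pairs form a pair system. -/
def PropPairs : Prop :=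
  ∀ (G : Type u) [Group G] [Finite G] (S : Sylow 2 G) (A : Subgroup G), Hyp S A →
    PairSystem A (IsPair A)

/-- Section K: the combinatorics of a pair system with at least one pair. -/
def PropComb : Prop :=
  ∀ (G : Type u) [Group G] [Finite G] (A : Subgroup G)
    (P : Subgroup G → Subgroup G → Subgroup G → Prop),
    Cfsg.IsElementaryAbelian 2 A → Irreducible A → NoIndexTwo A → PairSystem A P →
    (∃ B W Q, P B W Q) →
    CaseSmall A P ∨ ∃ (ι : Type) (_ : Finite ι) (W Q : ι → Subgroup G), CaseMono A P ι W Q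

/-- Section J: the small case. -/
def PropSmall : Prop :=
  ∀ (G : Type u) [Group G] [Finite G] (S : Sylow 2 G) (A : Subgroup G), Hyp S A →
    CaseSmall A (IsPair A) → IsMulCommutative (S : Subgroup G)

/-- Section M: the monomial case. -/
def PropMono : Prop :=
  ∀ (G : Type u) [Group G] [Finite G] (S : Sylow 2 G) (A : Subgroup G), Hyp S A →
    ∀ (ι : Type) [Finite ι] (W Q : ι → Subgroup G), CaseMono A (IsPair A) ι W Q →
      centSpan A ≠ ⊤

/-- Section N: no component, rank at least three. -/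
def PropNoPair : Prop :=
  ∀ (G : Type u) [Group G] [Finite G] (S : Sylow 2 G) (A : Subgroup G), Hyp S A →
    (∀ B W Q, ¬ IsPair A B W Q) → 8 ≤ Nat.card ↥A → centSpan A ≠ ⊤

/-- Section R: rank two. -/
def PropRankTwo : Prop :=
  ∀ (G : Type u) [Group G] [Finite G] (S : Sylow 2 G) (A : Subgroup G), Hyp S A →
    Nat.card ↥A = 4 → IsMulCommutative (S : Subgroup G) ∨ centSpan A ≠ ⊤ ∨
      ∃ H : Subgroup G, Cfsg.IsStronglyEmbedded H

/-- Section R, an involution of `S` outside `A` (`notes/goldschmidt_helper72.md`, section 5). -/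
def PropRankTwoBig : Prop :=
  ∀ (G : Type u) [Group G] [Finite G] (S : Sylow 2 G) (A : Subgroup G), Hyp S A →
    Nat.card ↥A = 4 → A.subgroupOf (S : Subgroup G) ≤ commutator ↥(S : Subgroup G) →
    (∀ s ∈ (S : Subgroup G), ∀ a ∈ A, s * a = a * s) →
    (∃ x ∈ (S : Subgroup G), orderOf x = 2 ∧ x ∉ A) → centSpan A ≠ ⊤

/-- Section R, all involutions of `S` in `A`. -/
def PropRankTwoMin : Prop :=
  ∀ (G : Type u) [Group G] [Finite G] (S : Sylow 2 G) (A : Subgroup G), Hyp S A →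
    Nat.card ↥A = 4 → A.subgroupOf (S : Subgroup G) ≤ commutator ↥(S : Subgroup G) →
    (∀ s ∈ (S : Subgroup G), ∀ a ∈ A, s * a = a * s) →
    (∀ x ∈ (S : Subgroup G), orderOf x = 2 → x ∈ A) →
    centSpan A ≠ ⊤ ∨ ∃ H : Subgroup G, Cfsg.IsStronglyEmbedded H

/-- The criterion, in the form of S1174. -/
def PropCriterion : Prop :=
  ∀ (G : Type u) [Group G] [Finite G], IsSimpleGroup G → ∀ (S : Sylow 2 G) (A : Subgroup G),
    A ≠ ⊥ → Cfsg.IsStronglyClosed A (S : Subgroup G) → centSpan A ≠ ⊤ →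
      ∃ H : Subgroup G, Cfsg.IsStronglyEmbedded H

/-- Section W: the theorem for simple groups. -/
def PropSimple : Prop :=
  ∀ (m : ℕ), Below.{u} m

end Cfsg.Agent.Lib.Goldschmidt53
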