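import Cfsg.Agent.Lib.Goldschmidt53.Interface
import Cfsg.Agent.Lib.Walter.Main
import Cfsg.Agent.Lib.Walter.NoPair
import Cfsg.Agent.Lib.BenderOne.Final
import Cfsg.Agent.Lib.GorensteinWalter.Main
import Cfsg.Agent.Lib.BenderConsumers23.Simple
import Cfsg.Agent.Lib.BenderSuzuki.Main
import Cfsg.Agent.Lib.CITSuzuki.Lists
import Cfsg.Agent.Lib.PGroups.Omega
import Cfsg.Agent.Lib.PGroups.ElemAb

/-!
# Goldschmidt's theorem: assembly

The sections give that a minimal counterexample has an abelian Sylow 2-subgroup or a strongly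
embedded subgroup, so it is known by Walter, Bender and Suzuki.
-/

set_option autoImplicit false
set_option linter.style.haveILetI false

universe u

namespace Cfsg.Agent.Lib.Goldschmidt53

open Subgroup

/-- The hypotheses of the assembly. -/
structure Sections : Prop where
  base : PropBase.{u}
  facts : PropFacts.{u}
  pairs : PropPairs.{u}
  comb : PropComb.{u}
  small : PropSmall.{u}
  mono : PropMono.{u}
  noPair : PropNoPair.{u}
  rankTwo : PropRankTwo.{u}
  criterion : PropCriterion.{u}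

variable {G : Type u} [Group G] [Finite G]

/-- A minimal counterexample has an abelian Sylow subgroup or a strongly embedded subgroup. -/
theorem dichotomy (H : Sections.{u}) {S : Sylow 2 G} {A : Subgroup G} (h : Hyp S A) :
    IsMulCommutative (S : Subgroup G) ∨ ∃ M : Subgroup G, Cfsg.IsStronglyEmbedded M := by
  haveI : Fact (Nat.Prime 2) := ⟨Nat.prime_two⟩
  obtain ⟨hI, hN2, h4, -, -⟩ := H.base G S A h
  have hC : centSpan A ≠ ⊤ → ∃ M : Subgroup G, Cfsg.IsStronglyEmbedded M :=
    H.criterion G h.simple S A h.ne h.closed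
  by_cases hA : Nat.card ↥A = 4
  · rcases H.rankTwo G S A h hA with hS | hS | hS
    exacts [Or.inl hS, Or.inr (hC hS), Or.inr hS]
  have h8 : 8 ≤ Nat.card ↥A := by
    obtain ⟨k, hk⟩ := IsPGroup.iff_card.1 (S.2.to_le h.closed.1)
    rw [hk] at h4 hA ⊢
    rcases Nat.lt_or_ge k 3 with hk3 | hk3
    · interval_cases k <;> simp_all
    · exact le_trans (by norm_num) (Nat.pow_le_pow_right two_pos hk3)
  by_cases hp : ∃ B W Q, IsPair A B W Q
  · rcases H.comb G A (IsPair A) h.elem hI hN2 (H.pairs G S A h) hp with hs | ⟨ι, hι, W, Q, hm⟩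
    · exact Or.inl (H.small G S A h hs)
    · exact Or.inr (hC (H.mono G S A h ι W Q hm))
  · exact Or.inr (hC (H.noPair G S A h (fun B W Q hb => hp ⟨B, W, Q, hb⟩) h8))

theorem abelianSylow_of_comm {S : Sylow 2 G} (hS : IsMulCommutative (S : Subgroup G)) :
    Walter.AbelianSylow G := fun T => by
  haveI : Fact (Nat.Prime 2) := ⟨Nat.prime_two⟩
  haveI := hS
  refine ⟨⟨fun x y => (Sylow.equiv T S).injective ?_⟩⟩
  rw [map_mul, map_mul]
  exact mul_comm' _ _

/-- The groups of Bender and Suzuki are known. -/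
theorem isKnown_of_target (h : BenderConsumers23.Target G) : IsKnown G := by
  rcases h with ⟨F, i, j, n, hn, hF, he⟩ | hs | hu
  · rcases Nat.lt_or_ge n 3 with h3 | h3
    · obtain rfl : n = 2 := by omega
      obtain ⟨e⟩ := he
      obtain ⟨K, iK, jK, hK, he'⟩ :=
        CITSuzuki.Lists.psl_two_four_to_five (by rw [hF]; norm_num) e
      exact Or.inl (Or.inr (Or.inl ⟨K, iK, jK, by rw [hK]; norm_num, by rw [hK], he'⟩))
    · exact Or.inl (Or.inl ⟨n, F, i, j, h3, hF, he⟩)
  · exact Or.inr (Or.inl hs)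
  · exact Or.inr (Or.inr hu)

/-- Groups satisfying the dichotomy are known. -/
theorem isKnown_of_dichotomy [IsSimpleGroup G] (hG : ¬ IsMulCommutative G) {S : Sylow 2 G}
    (h : IsMulCommutative (S : Subgroup G) ∨ ∃ M : Subgroup G, Cfsg.IsStronglyEmbedded M) :
    IsKnown G := by
  rcases h with hS | ⟨M, hM⟩
  · exact Or.inl (Walter.propKnown BenderOne.propSplitFinal GorensteinWalter.propMainFinal G
      inferInstance hG (abelianSylow_of_comm hS))
  · exact isKnown_of_target (BenderConsumers23.simple_case BenderOne.propPartOneFinal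
      BenderSuzuki.propMain (BenderConsumers23.na_of_not_comm hG) hM).1

/-- A non-trivial strongly closed elementary subgroup contains a minimal one. -/
theorem exists_hyp (hbelow : Below.{u} (Nat.card G)) (hs : IsSimpleGroup G)
    (hG : ¬ IsMulCommutative G) {S : Sylow 2 G} {A : Subgroup G} (hA : A ≠ ⊥)
    (he : Cfsg.IsElementaryAbelian 2 A) (hc : Cfsg.IsStronglyClosed A (S : Subgroup G)) :
    ∃ U : Subgroup G, U ≤ A ∧ Hyp S U := by
  obtain ⟨U, ⟨hUA, hU1, hUc⟩, hmin⟩ := (Set.toFinite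
    {U : Subgroup G | U ≤ A ∧ U ≠ ⊥ ∧ Cfsg.IsStronglyClosed U (S : Subgroup G)}).exists_minimal
      ⟨A, le_rfl, hA, hc⟩
  have hcomm := he.1
  refine ⟨U, hUA, hs, hG, hbelow, hU1, ⟨⟨⟨fun x y => Subtype.ext ?_⟩⟩, fun a ha => he.2 a (hUA ha)⟩,
    hUc, fun V hV hV1 hVc => le_antisymm hV (hmin ⟨hV.trans hUA, hV1, hVc⟩ hV)⟩
  exact PGroups.elemAb_comm he (hUA x.2) (hUA y.2)

/-- Section W: the theorem for simple groups. -/
theorem simple_of_sections (H : Sections.{u}) : PropSimple.{u} := by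
  intro m
  induction m using Nat.strong_induction_on with
  | _ m ih =>
    intro L _ _ hm hs hL S A hA he hc
    haveI := hs
    obtain ⟨U, -, hU⟩ := exists_hyp (ih _ hm) hs hL hA he hc
    have hk := isKnown_of_dichotomy hL (dichotomy H hU)
    refine ⟨hk, le_antisymm (fun a ha => PGroups.mem_omegaOne_of_pow (hc.1 ha) (he.2 a ha)) ?_⟩
    obtain ⟨a, ha, ha1⟩ := A.bot_or_exists_ne_one.resolve_left hA
    refine (closure_le _).2 fun x ⟨hxS, hx2⟩ => ?_
    rcases eq_or_ne x 1 with rfl | hx1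
    · exact A.one_mem
    obtain ⟨c, hcx⟩ := isConj_iff.1 ((H.facts L hk).conj a x
      (orderOf_eq_prime (he.2 a ha) ha1) (orderOf_eq_prime hx2 hx1))
    have := hc.2 a ha c (by rw [hcx]; exact hxS)
    rwa [hcx] at this

/-- The statement of S1169. -/
theorem row1169 (H : Sections.{u}) [IsSimpleGroup G] (S : Sylow 2 G) (A : Subgroup G)
    (hA : A ≠ ⊥) (hAcomm : IsMulCommutative A) (hsc : Cfsg.IsStronglyClosed A (S : Subgroup G)) :
    IsMulCommutative (S : Subgroup G) ∨ ∃ M : Subgroup G, Cfsg.IsStronglyEmbedded M := by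
  haveI : Fact (Nat.Prime 2) := ⟨Nat.prime_two⟩
  by_cases hG : IsMulCommutative G
  · exact Or.inl ⟨⟨fun x y => Subtype.ext (mul_comm' (x : G) y)⟩⟩
  have hne : Cfsg.omegaOne 2 A ≠ ⊥ := PGroups.omegaOne_ne_bot (S.2.to_le hsc.1) hA
  have hcl : Cfsg.IsStronglyClosed (Cfsg.omegaOne 2 A) (S : Subgroup G) := by
    refine ⟨(PGroups.omegaOne_le 2 A).trans hsc.1, fun x hx g hg => ?_⟩
    obtain ⟨hxA, hx2⟩ := (PGroups.mem_omegaOne_iff_of_comm hAcomm).1 hx
    exact PGroups.mem_omegaOne_of_pow (hsc.2 x hxA g hg)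
      (by rw [conj_pow, hx2, mul_one, mul_inv_cancel])
  obtain ⟨U, -, hU⟩ := exists_hyp (simple_of_sections H (Nat.card G)) inferInstance hG hne
    (PGroups.elemAb_omegaOne hAcomm) hcl
  exact dichotomy H hU

end Cfsg.Agent.Lib.Goldschmidt53
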