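import Cfsg.Agent.Lib.Goldschmidt53.Interface
import Cfsg.Agent.Lib.ProductFusion.Main
import Cfsg.Agent.Lib.Transfer.Fusion
import Cfsg.Agent.Lib.ZStar.UniqueCase
import Cfsg.Agent.Lib.PGroups.ElemAb
import Cfsg.Agent.Lib.Involutions.Basic
import Cfsg.Agent.S2791

/-!
# Goldschmidt's theorem, section B: fusion

All fusion in `S` is induced in `N(A)`, so a minimal `A` is irreducible and `N(A)` has no subgroup
of index two over `C(A)`.
-/

set_option autoImplicit false
set_option linter.style.haveILetI false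
set_option linter.unusedSectionVars false

universe u

namespace Cfsg.Agent.Lib.Goldschmidt53

open Subgroup
open scoped commutatorElement

variable {G : Type u} [Group G] [Finite G] {S : Sylow 2 G} {A : Subgroup G}

theorem Hyp.commute (h : Hyp S A) {a b : G} (ha : a ∈ A) (hb : b ∈ A) : a * b = b * a :=
  PGroups.elemAb_comm h.elem ha hb

theorem Hyp.fusion (h : Hyp S A) {x : G} (hx : x ∈ (S : Subgroup G)) {g : G}
    (hg : g * x * g⁻¹ ∈ (S : Subgroup G)) :
    ∃ n ∈ normalizer (A : Set G), n * x * n⁻¹ = g * x * g⁻¹ := by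
  haveI : Fact (Nat.Prime 2) := ⟨Nat.prime_two⟩
  obtain ⟨m, hm, he⟩ := Cfsg.Agent.S2791.good_of_le A h.elem.1 S h.closed (zpowers x) g
    (zpowers_le.2 hx) (by
      rintro _ ⟨_, ⟨k, rfl⟩, rfl⟩
      rw [map_zpow]
      exact zpow_mem hg k)
  exact ⟨m, hm, (he x (mem_zpowers x)).symm⟩

theorem Hyp.sylow_le_normalizer (h : Hyp S A) :
    (S : Subgroup G) ≤ normalizer (A : Set G) := by
  intro s hs
  refine mem_normalizer_iff.2 fun a => ⟨fun ha => ?_, fun ha => ?_⟩
  · exact h.closed.2 a ha s (mul_mem (mul_mem hs (h.closed.1 ha)) (inv_mem hs))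
  · have := h.closed.2 _ ha s⁻¹
      (mul_mem (mul_mem (inv_mem hs) (h.closed.1 ha)) (inv_mem (inv_mem hs)))
    simpa [mul_assoc] using this

theorem Hyp.irreducible (h : Hyp S A) : Irreducible A := by
  intro U hU hUn
  by_cases hU1 : U = ⊥
  · exact Or.inl hU1
  refine Or.inr (h.minimal U hU hU1 ⟨hU.trans h.closed.1, fun x hx g hg => ?_⟩)
  obtain ⟨n, hn, e⟩ := h.fusion (h.closed.1 (hU hx)) hg
  rw [← e]
  exact hUn n hn x hx

theorem Hyp.center_eq_bot (h : Hyp S A) : center G = ⊥ := by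
  haveI := h.simple
  refine (IsSimpleGroup.eq_bot_or_eq_top_of_normal (center G) inferInstance).resolve_right
    fun e => h.nonabelian ⟨⟨fun a b => ?_⟩⟩
  exact (mem_center_iff.1 (e.symm ▸ mem_top b : b ∈ center G) a)

theorem Hyp.commutator_eq_top (h : Hyp S A) : commutator G = ⊤ := by
  haveI := h.simple
  refine (IsSimpleGroup.eq_bot_or_eq_top_of_normal (commutator G) inferInstance).resolve_left
    fun e => h.nonabelian ⟨⟨fun a b => ?_⟩⟩
  have : ⁅a, b⁆ ∈ commutator G := commutator_mem_commutator (mem_top a) (mem_top b)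
  rw [e, mem_bot] at this
  exact commutatorElement_eq_one_iff_mul_comm.1 this

theorem Hyp.oddCore_eq_bot (h : Hyp S A) : Cfsg.oddCore G = ⊥ := by
  haveI := h.simple
  haveI : Fact (Nat.Prime 2) := ⟨Nat.prime_two⟩
  refine (IsSimpleGroup.eq_bot_or_eq_top_of_normal (Cfsg.oddCore G) inferInstance).resolve_right
    fun e => ?_
  obtain ⟨a, ha, ha1⟩ := A.bot_or_exists_ne_one.resolve_left h.ne
  have h2 : orderOf a = 2 := orderOf_eq_prime (PGroups.elemAb_pow h.elem ha) ha1
  have h3 : orderOf a ∣ Nat.card (Cfsg.oddCore G) :=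
    Subgroup.orderOf_dvd_natCard _ (e.symm ▸ mem_top a)
  rw [h2] at h3
  exact Nat.not_odd_iff_even.2 (even_iff_two_dvd.2 h3) ZStar.Elements.oddCore_odd

theorem Hyp.four_le_card (h : Hyp S A) : 4 ≤ Nat.card ↥A := by
  classical
  haveI : Fact (Nat.Prime 2) := ⟨Nat.prime_two⟩
  obtain ⟨k, hk⟩ := IsPGroup.iff_card.1 (PGroups.elemAb_isPGroup h.elem)
  rcases k with _ | _ | k
  · exact absurd (Subgroup.card_eq_one.1 (by simpa using hk)) h.ne
  · exfalso
    obtain ⟨z, hz, hz1⟩ := A.bot_or_exists_ne_one.resolve_left h.ne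
    have hzo : orderOf z = 2 := orderOf_eq_prime (PGroups.elemAb_pow h.elem hz) hz1
    have hzA : zpowers z = A :=
      Subgroup.eq_of_le_of_card_ge (zpowers_le.2 hz) (by rw [Nat.card_zpowers, hzo, hk]; norm_num)
    have hiso : ∀ g : G, g * z * g⁻¹ ∈ (S : Subgroup G) → g * z * g⁻¹ = z := by
      intro g hg
      have h1 := h.closed.2 z hz g hg
      rw [← hzA] at h1
      obtain ⟨i, hi⟩ := h1
      rcases Int.emod_two_eq_zero_or_one i with h2 | h2
      · exfalso
        have : z ^ i = 1 := orderOf_dvd_iff_zpow_eq_one.1 (by rw [hzo]; exact Int.dvd_of_emod_eq_zero h2)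
        refine hz1 (conj_eq_one_iff.1 (show g * z * g⁻¹ = 1 from ?_))
        rw [← hi]; exact this
      · rw [← hi]
        show z ^ i = z
        rw [show i = 2 * (i / 2) + 1 by omega, zpow_add, zpow_mul, zpow_one,
          show z ^ (2 : ℤ) = 1 from orderOf_dvd_iff_zpow_eq_one.1 (by rw [hzo]; rfl), one_zpow,
          one_mul]
    obtain ⟨N, hN, hodd, hc⟩ := ZStar.UniqueCase.zstar S z hzo (h.closed.1 hz) hiso
    haveI := hN
    have hN1 : N = ⊥ := le_bot_iff.1 (h.oddCore_eq_bot ▸ ZStar.Elements.le_oddCore hodd)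
    have : z ∈ center G := mem_center_iff.2 fun g => by
      have h4 : z * g * z⁻¹ * g⁻¹ ∈ N := hc g
      rw [hN1, mem_bot] at h4
      exact (mul_inv_eq_iff_eq_mul.1 (mul_inv_eq_one.1 h4)).symm
    rw [h.center_eq_bot, mem_bot] at this
    exact hz1 this
  · rw [hk, pow_add, pow_add]
    have : 0 < 2 ^ k := by positivity
    omega

theorem Hyp.noIndexTwo (h : Hyp S A) : NoIndexTwo A := by
  haveI : Fact (Nat.Prime 2) := ⟨Nat.prime_two⟩
  intro f _
  have hSN := h.sylow_le_normalizer
  have hfoc := Transfer.Fusion.commutator_inf_sylow_eq_of_controls S (normalizer (A : Set G)) hSN fun x hx g hg =>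
    h.fusion hx hg
  have hker : (S : Subgroup G).subgroupOf (normalizer (A : Set G)) ≤ f.ker := by
    intro s hs
    have h1 : (s : G) ∈ ⁅(normalizer (A : Set G)), (normalizer (A : Set G))⁆ := by
      have : (s : G) ∈ commutator G ⊓ (S : Subgroup G) := ⟨by rw [h.commutator_eq_top]; trivial, hs⟩
      rw [hfoc] at this
      exact this.1
    rw [← Subgroup.map_subtype_commutator] at h1
    obtain ⟨s', hs', e⟩ := h1
    rw [← Subtype.ext e]
    exact Abelianization.commutator_subset_ker f hs'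
  have hodd : ¬ 2 ∣ f.ker.index := by
    intro h2
    have h3 := h2.trans (Subgroup.index_dvd_of_le hker)
    have h4 := (S.subtype hSN).not_dvd_index
    rw [Sylow.coe_subtype] at h4
    exact h4 h3
  have hle : f.ker.index ∣ 2 := by
    rw [Subgroup.index_ker]
    have := Subgroup.card_subgroup_dvd_card f.range
    rwa [Nat.card_congr Multiplicative.toAdd, Nat.card_zmod] at this
  have h1 : f.ker.index = 1 :=
    ((Nat.dvd_prime Nat.prime_two).1 hle).resolve_right fun e => hodd (by rw [e])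
  exact MonoidHom.ker_eq_top_iff.1 (Subgroup.index_eq_one.1 h1)

theorem Hyp.eq_bot_of_disjoint (h : Hyp S A) {R : Subgroup G}
    (hR : R ≤ (S : Subgroup G) ⊓ centralizer (A : Set G)) (hRA : R ⊓ A = ⊥)
    (hsc : Cfsg.IsStronglyClosed R (S : Subgroup G)) : R = ⊥ := by
  haveI := h.simple
  have hO : Cfsg.pPrimeCore 2 G = ⊥ := h.oddCore_eq_bot
  have hc := ProductFusion.commutator_normalClosure_eq_bot hO (P := S) (S₁ := A) (S₂ := R)
    ⟨h.closed, hsc, fun a ha b hb => mem_centralizer_iff.1 (hR hb).2 a ha, by rw [inf_comm, hRA]⟩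
  by_contra hR1
  have eA : normalClosure (A : Set G) = ⊤ :=
    (IsSimpleGroup.eq_bot_or_eq_top_of_normal _ normalClosure_normal).resolve_left fun e =>
      h.ne (le_bot_iff.1 (le_normalClosure.trans e.le))
  have eR : normalClosure (R : Set G) = ⊤ :=
    (IsSimpleGroup.eq_bot_or_eq_top_of_normal _ normalClosure_normal).resolve_left fun e =>
      hR1 (le_bot_iff.1 (le_normalClosure.trans e.le))
  rw [eA, eR] at hc
  exact top_ne_bot (h.commutator_eq_top.symm.trans hc)

theorem base : PropBase.{u} := fun _ _ _ _ _ h =>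
  ⟨h.irreducible, h.noIndexTwo, h.four_le_card, fun _ hx _ hg => h.fusion hx hg,
    fun _ hR hRA hsc => h.eq_bot_of_disjoint hR hRA hsc⟩

end Cfsg.Agent.Lib.Goldschmidt53
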