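import Cfsg.Agent.Lib.Goldschmidt53.Interface
import Cfsg.Agent.Lib.Goldschmidt1.Comb

/-!
# Section K: the combinatorics of a pair system

Owner: helper1.  The proof is in `Lib/Goldschmidt1/Comb*`; this file translates the interface.
-/

set_option autoImplicit false
set_option linter.unnecessarySeqFocus false

universe u

namespace Cfsg.Agent.Lib.Goldschmidt53

open Subgroup

/-- Section K: a pair system with a pair is of the small or the monomial type. -/
theorem comb : PropComb.{u} := by
  intro G _ _ A P helem hirr hno hsys hex
  classical
  have hone : ∀ {x : G}, x ∈ A → x * x = 1 := fun {x} hx => by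
    rw [← pow_two]; exact helem.2 x hx
  have H : Goldschmidt1.Setup A P :=
    { comm := fun x hx y hy => by have := helem.1; exact setLike_mul_comm hx hy
      two := fun x hx => hone hx
      irr := hirr
      perfect := fun L hL h2 => by
        let f : ↥(normalizer (A : Set G)) →* Multiplicative (ZMod 2) :=
          { toFun := fun n => if n ∈ L then 1 else Multiplicative.ofAdd 1
            map_one' := if_pos L.one_mem
            map_mul' := fun a b => by
              have hm := Subgroup.mul_mem_iff_of_index_two h2 (a := a) (b := b)
              by_cases ha : a ∈ L <;> by_cases hb : b ∈ L <;>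
                simp [ha, hb, hm] <;> decide }
        have h1 := hno f fun c hc => if_pos (hL (mem_subgroupOf.2 hc))
        obtain ⟨g, hg⟩ : ∃ g, g ∉ L := by
          by_contra hc
          push Not at hc
          rw [(eq_top_iff' L).2 hc, index_top] at h2
          omega
        have h3 := DFunLike.congr_fun h1 g
        rw [show f g = Multiplicative.ofAdd 1 from if_neg hg, MonoidHom.one_apply] at h3
        exact absurd h3 (by decide)
      sys :=
        { le_Q := hsys.le_Q
          base_ne := hsys.base_ne
          W_le := hsys.W_le
          Q_le := hsys.Q_le
          disj := hsys.disj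
          span := hsys.span
          four_le := hsys.four_le
          unique := hsys.unique
          orth := hsys.orth
          up := hsys.up
          down := hsys.down
          torus := fun B W Q h => by
            obtain ⟨n, hn, -, h1, h2, h3⟩ := hsys.torus B W Q h
            exact ⟨n, hn, h1, h2, h3⟩
          conj := hsys.conj } }
  rcases Goldschmidt1.comb H hex with h | ⟨ι, hι, W, Q, h⟩
  · exact Or.inl ⟨h.card, h.odd, h.trans, h.pair⟩
  · exact Or.inr ⟨ι, hι, W, Q,
      { three := h.three, block := h.block, four_le := h.four_le, le := h.le, le_Q := h.le_Q,
        span := h.span, disj := h.disj, Q_eq := h.Q_eq, card_eq := h.card_eq, perm := h.perm,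
        all := h.all }⟩

end Cfsg.Agent.Lib.Goldschmidt53
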