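import Cfsg.Agent.Lib.Goldschmidt53.Interface
import Cfsg.Agent.Lib.Crit59.Rows
import Cfsg.Agent.Lib.Crit8.Prod.KernelMain

/-!
# Goldschmidt's theorem: the single fixed point criterion
-/

set_option autoImplicit false

universe u

namespace Cfsg.Agent.Lib.Goldschmidt53

theorem criterion (hcore : Crit5.PropCore.{u}) : PropCriterion.{u} := by
  intro G _ _ hsimple S A hA hsc hprop
  haveI := hsimple
  exact Crit59.Rows.r1174 hcore Crit8.propKernel S A hA hsc hprop

end Cfsg.Agent.Lib.Goldschmidt53
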