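import Cfsg.Agent.Lib.Goldschmidt53.Interface
import Cfsg.Agent.Lib.U3Sylow.Aut
import Cfsg.Agent.Lib.LieTwisted.SuzukiSylow
import Cfsg.Agent.Lib.LieTwisted.SuzukiBruhat
import Cfsg.Agent.S2089
import Cfsg.Agent.S2111
import Cfsg.Agent.Lib.Thompson3Prime33.SupportSz

/-!
# Goldschmidt keystone, section L: the fields `full` and `cover` for `Sz(q)` and `U3(q)`

`full` only concerns `U3(4)`, since `|Ω₁ P| = q`.  `U3(q)` and `Sz(q)`, `q ≥ 32`, have no perfect
double cover; `Sz(8)` has (see `notes/goldschmidt_cover_helper51.md`), so its `Ω₁` has order `8`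
(`cover_small`), and a cover in which the lifts of `Ω₁` are central does not exist (`cover`).
-/

set_option autoImplicit false
set_option linter.unusedSectionVars false
set_option linter.style.haveILetI false

universe u v

namespace Cfsg.Agent.Lib.Goldschmidt53.FactsCover

open Cfsg.Agent.Lib

/-- With a multiplier of odd order there is no perfect central extension with kernel of order two,
whatever the universe. -/
theorem ker_ne_two {L : Type u} {M : Type v} [Group L] [Group M] (e : L ≃* M) {n : ℕ}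
    (hM : Cfsg.HasCyclicSchurMultiplier M n) (hn : Odd n) {E : Type u} [Group E] [Finite E]
    (π : E →* L) (hπ : Function.Surjective π) (hE : Group.IsPerfect E)
    (hc : π.ker ≤ Subgroup.center E) : Nat.card π.ker ≠ 2 := by
  haveI : Small.{v} E := Countable.toSmall E
  let j : Shrink.{v} E ≃* E := Shrink.mulEquiv
  haveI : Finite (Shrink.{v} E) := Finite.of_equiv _ j.symm.toEquiv
  let σ : Shrink.{v} E →* M := (e.toMonoidHom.comp π).comp j.toMonoidHom
  have hmem : ∀ x, x ∈ σ.ker ↔ j x ∈ π.ker := fun x => by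
    rw [MonoidHom.mem_ker, MonoidHom.mem_ker]
    exact e.map_eq_one_iff
  have hst : Cfsg.IsStemExtension σ := by
    refine ⟨(e.surjective.comp hπ).comp j.surjective, fun x hx => ?_, fun x _ => ?_⟩
    · refine Subgroup.mem_center_iff.2 fun y => j.injective ?_
      rw [map_mul, map_mul]
      exact Subgroup.mem_center_iff.1 (hc ((hmem x).1 hx)) (j y)
    · haveI := hE
      haveI : Group.IsPerfect (Shrink.{v} E) :=
        Group.IsPerfect.ofSurjective (f := j.symm.toMonoidHom) j.symm.surjective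
      rw [Group.IsPerfect.commutator_eq_top]
      exact Subgroup.mem_top x
  intro h2
  obtain ⟨p, hp⟩ := hM.2 _ σ hst
  have hcard : Nat.card σ.ker = 2 := by
    rw [← h2]
    exact Nat.card_congr (j.toEquiv.subtypeEquiv hmem)
  have hdvd := Subgroup.card_dvd_of_surjective p hp
  rw [hcard, Nat.card_congr Multiplicative.toAdd, Nat.card_zmod] at hdvd
  exact (Nat.not_even_iff_odd.2 hn) (even_iff_two_dvd.2 hdvd)

/-- `U3(q)`, `q` even, has no double cover. -/
theorem noDoubleCover_psu {L : Type u} [Group L] {F : Type} [Field F] [Fintype F] {n : ℕ}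
    (hn : 2 ≤ n) (hF : Fintype.card F = (2 ^ n) ^ 2) (e : L ≃* Cfsg.PSU 3 F (2 ^ n))
    {E : Type u} [Group E] [Finite E] (π : E →* L) (hπ : Function.Surjective π)
    (hE : Group.IsPerfect E) (hc : π.ker ≤ Subgroup.center E) : Nat.card π.ker ≠ 2 := by
  have h4 : 4 ≤ 2 ^ n := (Nat.pow_le_pow_right two_pos hn)
  refine ker_ne_two e (Cfsg.Agent.S2089.result 3 (2 ^ n) hF le_rfl (fun h => by omega)
    (fun h => ?_)) ?_ π hπ hE hc
  · simp only [Set.mem_insert_iff, Set.mem_singleton_iff, Prod.mk.injEq] at h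
    omega
  · exact (by decide : Odd 3).of_dvd_nat (Nat.gcd_dvd_left 3 _)

/-- `Sz(q)`, `q ≥ 32`, has no double cover. -/
theorem noDoubleCover_sz {L : Type u} [Group L] {F : Type} [Field F] [Fintype F] {m : ℕ}
    (hm : 2 ≤ m) (hF : Fintype.card F = 2 ^ (2 * m + 1))
    (e : L ≃* ↥(Cfsg.Lie.Sz F (2 ^ (m + 1)))) {E : Type u} [Group E] [Finite E] (π : E →* L)
    (hπ : Function.Surjective π) (hE : Group.IsPerfect E) (hc : π.ker ≤ Subgroup.center E) :
    Nat.card π.ker ≠ 2 :=
  ker_ne_two e (Cfsg.Agent.S2111.result hm hF) odd_one π hπ hE hc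

/-- A group of Bender type with a double cover is `Sz(8)`. -/
theorem eq_sz_eight {L : Type u} [Group L] (hL : IsBenderType L) {E : Type u} [Group E] [Finite E]
    (π : E →* L) (hπ : Function.Surjective π) (hE : Group.IsPerfect E)
    (hc : π.ker ≤ Subgroup.center E) (h2 : Nat.card π.ker = 2) :
    ∃ (F : Type) (_ : Field F) (_ : Fintype F), Fintype.card F = 8 ∧
      Nonempty (L ≃* ↥(Cfsg.Lie.Sz F 4)) := by
  rcases hL with ⟨F, i1, i2, m, hm, hF, ⟨e⟩⟩ | ⟨F, i1, i2, n, hn, hF, ⟨e⟩⟩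
  · obtain rfl : m = 1 := by
      by_contra h
      exact noDoubleCover_sz (by omega) hF e π hπ hE hc h2
    exact ⟨F, i1, i2, hF, ⟨e⟩⟩
  · exact absurd h2 (noDoubleCover_psu hn hF e π hπ hE hc)

/-- An isomorphism carries `Ω₁` of a Sylow subgroup to `Ω₁` of the image. -/
theorem map_omega {L : Type u} {M : Type v} [Group L] [Group M] (e : L ≃* M) (H : Subgroup L) :
    (Cfsg.omegaOne 2 H).map e.toMonoidHom = Cfsg.omegaOne 2 (H.map e.toMonoidHom) := by
  rw [Cfsg.omegaOne, MonoidHom.map_closure]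
  unfold Cfsg.omegaOne
  congr 1
  ext y
  simp only [Set.mem_image, Set.mem_setOf_eq, Subgroup.mem_map]
  constructor
  · rintro ⟨x, ⟨hx, h2⟩, rfl⟩
    exact ⟨⟨x, hx, rfl⟩, by rw [← map_pow, h2, map_one]⟩
  · rintro ⟨⟨x, hx, rfl⟩, h2⟩
    exact ⟨x, ⟨hx, e.injective (by rw [map_pow, map_one]; exact h2)⟩, rfl⟩

section Sylow

variable {F : Type*} [Field F] [Fintype F] {n : ℕ}

/-- `Ω₁` in the coordinates of a Sylow subgroup of `U3(q)`. -/
theorem omega_coords (hF : Fintype.card F = (2 ^ n) ^ 2) {M : Type v} [Group M] (P : Sylow 2 M)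
    (c : U3Sylow.Coords F (2 ^ n) ↥(P : Subgroup M)) (s : ↥(P : Subgroup M)) :
    (s : M) ∈ Om P ↔ c.a s = 0 := by
  constructor
  · intro hs
    suffices key : Om P ≤ (Subgroup.center ↥(P : Subgroup M)).map (P : Subgroup M).subtype by
      obtain ⟨z, hz, hzs⟩ := key hs
      obtain rfl : z = s := Subtype.ext hzs
      exact (c.mem_center_iff hF).1 hz
    refine (Subgroup.closure_le _).2 fun x hx => ⟨⟨x, hx.1⟩, ?_, rfl⟩
    refine (c.mem_center_iff hF).2 ((c.sq_eq_one_iff hF).1 (Subtype.ext ?_))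
    have h2 := hx.2
    rw [sq] at h2
    exact h2
  · intro hs
    refine Subgroup.subset_closure ⟨s.2, ?_⟩
    rw [sq]
    exact congrArg Subtype.val ((c.sq_eq_one_iff hF).2 hs)

/-- In a Sylow subgroup of `U3(4)`, or larger, commutation with an element outside `Ω₁` is onto
`Ω₁`. -/
theorem full_coords (hF : Fintype.card F = (2 ^ n) ^ 2) {M : Type v} [Group M] (P : Sylow 2 M)
    (c : U3Sylow.Coords F (2 ^ n) ↥(P : Subgroup M)) {x : M} (hx : x ∈ (P : Subgroup M))
    (hxo : x ∉ Om P) {w : M} (hw : w ∈ Om P) :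
    ∃ y ∈ (P : Subgroup M), x * y * x⁻¹ * y⁻¹ = w := by
  haveI := U3Sylow.charP_two hF
  have hwP : w ∈ (P : Subgroup M) := (Subgroup.closure_le _).2 (fun z hz => hz.1) hw
  set s : ↥(P : Subgroup M) := ⟨x, hx⟩
  set r : ↥(P : Subgroup M) := ⟨w, hwP⟩
  have hs : c.a s ≠ 0 := fun h => hxo ((omega_coords hF P c s).2 h)
  have hr : c.a r = 0 := (omega_coords hF P c r).1 hw
  obtain ⟨d, hd⟩ := Unitary.trace_surj hF (y := c.b r) (c.b_fixed hF hr)
  obtain ⟨t, ht⟩ := c.exists_a hF (d / c.a s ^ 2 ^ n)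
  refine ⟨(t : M), t.2, ?_⟩
  have key : s * t = r * (t * s) := by
    refine c.ext ?_ ?_
    · rw [c.a_mul, c.a_mul, c.a_mul, hr, zero_add, add_comm]
    · rw [c.b_mul, c.b_mul, c.b_mul, hr, zero_pow (by positivity), zero_mul, add_zero, ← hd]
      have h1 : c.a s ^ 2 ^ n * c.a t = d := by
        rw [ht]; field_simp
      have h2 : c.a t ^ 2 ^ n * c.a s = d ^ 2 ^ n := by
        rw [← h1, mul_pow, Unitary.pow_q_q hF, mul_comm]
      rw [h1, h2]
      linear_combination -(U3Sylow.Coords.add_self hF (d ^ 2 ^ n))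
  have := congrArg Subtype.val key
  simp only [Subgroup.coe_mul, s, r] at this
  rw [this]
  group

end Sylow

/-- The field `full`. -/
theorem full_of_bender {L : Type u} [Group L] (hL : IsBenderType L) (P : Sylow 2 L)
    (h4 : Nat.card ↥(Om P) = 4) (x : L) (hx : x ∈ (P : Subgroup L)) (hxo : x ∉ Om P)
    (w : L) (hw : w ∈ Om P) :
    ∃ y ∈ (P : Subgroup L), x * y * x⁻¹ * y⁻¹ = w := by
  classical
  haveI : Fact (Nat.Prime 2) := ⟨Nat.prime_two⟩
  rcases hL with ⟨F, i1, i2, m, hm, hF, ⟨e⟩⟩ | ⟨F, i1, i2, n, hn, hF, ⟨e⟩⟩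
  · exfalso
    have h : LieTwisted.Suzuki.IsSzField F m := ⟨hF⟩
    let e' : L ≃* Cfsg.Sz F m := e.trans (LieTwisted.Suzuki.szEquiv h hm).symm
    haveI : Finite L := Finite.of_equiv _ e'.symm.toEquiv
    let Q : Sylow 2 (Cfsg.Sz F m) := P.mapSurjective (f := e'.toMonoidHom) e'.surjective
    obtain ⟨g, hg⟩ := h.conj_sylow hm Q
    have hle : (LieTwisted.Suzuki.unipCenter h).map (MulAut.conj g).toMonoidHom ≤ Om Q := by
      rintro _ ⟨z, ⟨b, rfl⟩, rfl⟩
      refine Subgroup.subset_closure ⟨?_, ?_⟩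
      · rw [hg]
        exact ⟨_, h.uS_mem 0 b, rfl⟩
      · rw [← map_pow, sq, h.uS_mul, LieTwisted.Suzuki.sg_zero, zero_mul, add_zero]
        simp [← two_mul, h.two0, h.uS_zero]
    have hcard : Nat.card ↥(Om Q) = 4 := by
      rw [show Om Q = (Om P).map e'.toMonoidHom from (map_omega e' _).symm]
      exact (Nat.card_congr ((Om P).equivMapOfInjective _ e'.injective).toEquiv).symm.trans h4
    have h8 : Fintype.card F ≤ 4 := by
      rw [← hcard]
      refine le_trans (le_of_eq ?_) (Subgroup.card_le_of_le hle)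
      rw [← Nat.card_congr
        ((LieTwisted.Suzuki.unipCenter h).equivMapOfInjective _ (MulAut.conj g).injective).toEquiv,
        ← Nat.card_eq_fintype_card]
      refine Nat.card_congr (Equiv.ofBijective (fun b => ⟨LieTwisted.Suzuki.uS h 0 b, b, rfl⟩)
        ⟨fun a b hab => (h.uS_coords_inj (congrArg Subtype.val hab)).2, ?_⟩)
      rintro ⟨z, b, rfl⟩
      exact ⟨b, rfl⟩
    have : 2 ^ 3 ≤ Fintype.card F := hF ▸ Nat.pow_le_pow_right two_pos (by omega)
    omega
  · haveI : Finite L := Finite.of_equiv _ e.symm.toEquiv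
    let Q : Sylow 2 (Cfsg.PSU 3 F (2 ^ n)) := P.mapSurjective (f := e.toMonoidHom) e.surjective
    obtain ⟨c⟩ := U3Sylow.exists_coords_PSU hF Q
    have hOm : Om Q = (Om P).map e.toMonoidHom := (map_omega e _).symm
    obtain ⟨y, hy, hxy⟩ := full_coords hF Q c (x := e x) ⟨x, hx, rfl⟩
      (by rw [hOm, Subgroup.mem_map]; rintro ⟨z, hz, hze⟩; exact hxo (e.injective hze ▸ hz))
      (w := e w) (by rw [hOm]; exact ⟨w, hw, rfl⟩)
    obtain ⟨y', hy', rfl⟩ := hy
    refine ⟨y', hy', e.injective ?_⟩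
    simpa using hxy

/-- The order of `Ω₁` of a Sylow subgroup of `Sz(q)` and of the subgroup itself. -/
theorem card_sz {L : Type u} [Group L] {F : Type} [Field F] [Fintype F] {m : ℕ} (hm : 1 ≤ m)
    (hF : Fintype.card F = 2 ^ (2 * m + 1)) (e : L ≃* ↥(Cfsg.Lie.Sz F (2 ^ (m + 1))))
    (P : Sylow 2 L) :
    Nat.card ↥(Om P) = Fintype.card F ∧ Nat.card ↥(P : Subgroup L) = Fintype.card F ^ 2 := by
  classical
  haveI : Fact (Nat.Prime 2) := ⟨Nat.prime_two⟩
  have h : LieTwisted.Suzuki.IsSzField F m := ⟨hF⟩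
  haveI : Finite L :=
    Finite.of_equiv _ (e.trans (LieTwisted.Suzuki.szEquiv h hm).symm).symm.toEquiv
  obtain ⟨F', _, _, m', h', e', hm', he⟩ :=
    Thompson3Prime33.exists_model L ⟨F, inferInstance, inferInstance, m, hm, hF, ⟨e⟩⟩ P
  have hcF : Fintype.card F' = Fintype.card F := by
    let e₀ : L ≃* Cfsg.Sz F m := e.trans (LieTwisted.Suzuki.szEquiv h hm).symm
    obtain ⟨i⟩ := h.sylow_equiv hm (P.mapSurjective (f := e₀.toMonoidHom) e₀.surjective)
    obtain ⟨j⟩ := h'.sylow_equiv hm' (P.mapSurjective (f := e'.toMonoidHom) e'.surjective)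
    have h1 := Nat.card_congr
      (((P : Subgroup L).equivMapOfInjective e'.toMonoidHom e'.injective).trans j).toEquiv
    rw [Nat.card_congr
      (((P : Subgroup L).equivMapOfInjective e₀.toMonoidHom e₀.injective).trans i).toEquiv,
      h.card_unip, h'.card_unip] at h1
    exact Nat.pow_left_injective two_ne_zero h1.symm
  have hP : (P : Subgroup L).map e'.toMonoidHom = LieTwisted.Suzuki.unip h' := by
    ext y
    constructor
    · rintro ⟨x, hx, rfl⟩
      exact (he x).1 hx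
    · intro hy
      exact ⟨e'.symm y, (he _).2 (by rwa [e'.apply_symm_apply]), e'.apply_symm_apply y⟩
  have hOm : (Om P).map e'.toMonoidHom = LieTwisted.Suzuki.unipCenter h' := by
    refine le_antisymm ?_ ?_
    · rw [map_omega, hP]
      refine (Subgroup.closure_le _).2 fun y hy => ?_
      exact Thompson3Prime33.mem_unipCenter_of_sq hy.1 (by rw [← sq]; exact hy.2)
    · rw [map_omega, hP]
      rintro _ ⟨b, rfl⟩
      refine Subgroup.subset_closure ⟨h'.uS_mem 0 b, ?_⟩
      rw [sq, h'.uS_mul, LieTwisted.Suzuki.sg_zero, zero_mul, add_zero]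
      simp [← two_mul, h'.two0, h'.uS_zero]
  constructor
  · rw [← hcF, ← Nat.card_eq_fintype_card,
      Nat.card_congr ((Om P).equivMapOfInjective e'.toMonoidHom e'.injective).toEquiv]
    refine (congrArg (fun H : Subgroup _ => Nat.card ↥H) hOm).trans ?_
    refine (Nat.card_congr (Equiv.ofBijective
      (fun b => (⟨LieTwisted.Suzuki.uS h' 0 b, b, rfl⟩ : LieTwisted.Suzuki.unipCenter h'))
      ⟨fun a b hab => (h'.uS_coords_inj (congrArg Subtype.val hab)).2, ?_⟩)).symm
    rintro ⟨z, b, rfl⟩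
    exact ⟨b, rfl⟩
  · rw [← hcF, ← h'.card_unip,
      Nat.card_congr ((P : Subgroup L).equivMapOfInjective e'.toMonoidHom e'.injective).toEquiv]
    exact congrArg (fun H : Subgroup _ => Nat.card ↥H) hP

/-- The field `cover`. -/
theorem cover_of_bender {L : Type u} [Group L] (hL : IsBenderType L) {E : Type u} [Group E]
    [Finite E] (π : E →* L) (hπ : Function.Surjective π) (hE : Group.IsPerfect E)
    (hc : π.ker ≤ Subgroup.center E) (h2 : Nat.card π.ker = 2) (P : Sylow 2 L)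
    (hcomm : ∀ x y : E, π x ∈ Om P → π y ∈ (P : Subgroup L) → x * y = y * x) :
    ∃ x : E, π x ≠ 1 ∧ π x * π x = 1 ∧ x * x ≠ 1 := by
  exfalso
  haveI : Finite L := Finite.of_surjective π hπ
  haveI := hE
  obtain ⟨F, i1, i2, hF, ⟨e⟩⟩ := eq_sz_eight hL π hπ hE hc h2
  have hbot := Thompson3Prime33.szExtTrivial L ⟨F, i1, i2, 1, le_rfl, by rw [hF]; norm_num, ⟨e⟩⟩ P E π
    hπ hc (IsPGroup.of_card (n := 1) (by rw [h2, pow_one]))
    Group.IsPerfect.commutator_eq_top
    fun x y hx hx2 hy => hcomm x y (Subgroup.subset_closure ⟨hx, by rw [sq]; exact hx2⟩) hy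
  rw [hbot, Subgroup.card_bot] at h2
  omega

/-- The field `cover_small`. -/
theorem cover_small_of_bender {L : Type u} [Group L] (hL : IsBenderType L) {E : Type u} [Group E]
    [Finite E] (π : E →* L) (hπ : Function.Surjective π) (hE : Group.IsPerfect E)
    (hc : π.ker ≤ Subgroup.center E) (h2 : Nat.card π.ker = 2) (P : Sylow 2 L) :
    Nat.card ↥(Om P) = 8 ∧ Nat.card ↥(P : Subgroup L) = 64 := by
  obtain ⟨F, i1, i2, hF, ⟨e⟩⟩ := eq_sz_eight hL π hπ hE hc h2
  obtain ⟨h1, h3⟩ := card_sz le_rfl (m := 1) (by rw [hF]; norm_num) e P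
  rw [hF] at h1 h3
  exact ⟨h1, by rw [h3]; norm_num⟩

end Cfsg.Agent.Lib.Goldschmidt53.FactsCover
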