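import Cfsg.Agent.Lib.Goldschmidt53.Facts.Abelian
import Cfsg.Agent.Lib.Goldschmidt53.Facts.Suzuki
import Cfsg.Agent.Lib.Goldschmidt53.Facts.UnitaryModel
import Cfsg.Agent.Lib.Goldschmidt53.FactsCover
import Cfsg.Agent.Lib.Unitary.Simple

/-!
# Goldschmidt keystone, section L: the known groups

`theorem facts : PropFacts`.  Owner: helper72 (`full`, `cover`, `cover_small`: helper51).
-/

set_option autoImplicit false
set_option linter.style.haveILetI false

universe u

namespace Cfsg.Agent.Lib.Goldschmidt53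

open Subgroup
open scoped Pointwise

variable {L : Type u} [Group L] [Finite L]

theorem unitary_local {F : Type} [Field F] [Fintype F] {n : ℕ} (hn : 2 ≤ n)
    (hF : Fintype.card F = (2 ^ n) ^ 2) (e : L ≃* Cfsg.PSU 3 F (2 ^ n)) (P : Sylow 2 L) :
    BenderLocal L (P : Subgroup L) := by
  haveI : Fact (Nat.Prime 2) := ⟨Nat.prime_two⟩
  haveI : Finite (Cfsg.PSU 3 F (2 ^ n)) := Quotient.finite _
  obtain ⟨x, hx⟩ := Unitary.trace_surj hF (y := 1) (one_pow _)
  obtain ⟨T, hT⟩ := Inter3308.exists_sylow_tGroup hF hx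
  obtain ⟨g, hg⟩ := MulAction.exists_smul_eq (Cfsg.PSU 3 F (2 ^ n))
    (P.mapSurjective (f := e.toMonoidHom) e.surjective) T
  refine BenderLocal.congr (e.trans (MulAut.conj g)) (fun y => ?_)
    (UnitaryModel.bender_local hF hx hn)
  rw [← hT, ← hg, Sylow.coe_subgroup_smul]
  show MulAut.conj g (e y) ∈ MulAut.conj g • ((P : Subgroup L).map e.toMonoidHom) ↔ _
  constructor
  · intro hy
    obtain ⟨w, ⟨z, hz, rfl⟩, hzy⟩ := hy
    have h1 : MulAut.conj g (e z) = MulAut.conj g (e y) := hzy
    exact e.injective ((MulAut.conj g).injective h1) ▸ hz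
  · exact fun hy => Subgroup.smul_mem_pointwise_smul (a := MulAut.conj g) (e y) _ ⟨y, hy, rfl⟩

theorem bender_type_facts (hL : IsBenderType L) : Facts L := by
  have hfull := fun P h4 x hx hxo w hw => FactsCover.full_of_bender hL P h4 x hx hxo w hw
  have hcover := fun (E : Type u) (_ : Group E) (_ : Finite E) (π : E →* L) hs hp hk h2 P h =>
    FactsCover.cover_of_bender hL π hs hp hk h2 P h
  have hsmall := fun (E : Type u) (_ : Group E) (_ : Finite E) (π : E →* L) hs hp hk h2
      (_ : ∀ x : E, π x ≠ 1 → π x * π x = 1 → x * x = 1) P =>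
    FactsCover.cover_small_of_bender hL π hs hp hk h2 P
  rcases hL with hSz | ⟨F, _, _, n, hn, hF, ⟨e⟩⟩
  · obtain ⟨P⟩ : Nonempty (Sylow 2 L) := inferInstance
    obtain ⟨q, Z, τ, h⟩ := Thompson3Prime33.szFacts L hSz P
    exact bender_facts h.simple (suzuki_local hSz) hfull hcover hsmall
  · haveI : Finite (Cfsg.PSU 3 F (2 ^ n)) := Quotient.finite _
    haveI := Unitary.isSimpleGroup_PSU hF le_rfl (fun h => by
      have : 2 ^ 2 ≤ 2 ^ n := Nat.pow_le_pow_right two_pos hn
      omega)
    exact bender_facts e.isSimpleGroup (unitary_local hn hF e) hfull hcover hsmall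

/-- Section L. -/
theorem facts : PropFacts.{u} := fun _ _ _ hL =>
  hL.elim abelian_facts bender_type_facts

end Cfsg.Agent.Lib.Goldschmidt53
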