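import Cfsg.Agent.Lib.Goldschmidt53.Interface
import Cfsg.Agent.Lib.Walter.PairsX
import Cfsg.Agent.Lib.ZStar.StronglyClosed
import Cfsg.Agent.Lib.Components.GenFitting
import Cfsg.Agent.Lib.Balance.Permute
import Cfsg.Agent.Lib.OddOrder.FeitThompson
import Cfsg.Agent.S0215
import Cfsg.Agent.S1249
import Cfsg.Agent.S1250

/-!
# Strongly closed elementary subgroups in groups without odd core

helper53, section X of `notes/goldschmidt_keystone.md`: `local_ : PropFacts → PropLocal`.
-/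

set_option autoImplicit false
set_option linter.style.haveILetI false
set_option linter.unusedSectionVars false

universe u

namespace Cfsg.Agent.Lib.Goldschmidt53

open Subgroup Cfsg.Agent.Lib.Components
open scoped commutatorElement IsMulCommutative

theorem pCore_normal (X : Type u) [Group X] [Finite X] : (Cfsg.pCore 2 X).Normal := by
  haveI : (Cfsg.pCore 2 X).Characteristic :=
    Subgroup.characteristic_iff_map_eq.2 fun e => Cores.map_pCore_equiv e
  infer_instance

theorem orderOf_conj53 {X : Type u} [Group X] (g u : X) : orderOf (g * u * g⁻¹) = orderOf u :=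
  orderOf_injective (MulAut.conj g).toMonoidHom (MulAut.conj g).injective u

/-- The setting of section X. -/
structure LocalSetting {X : Type u} [Group X] (T : Sylow 2 X) (A : Subgroup X) (m : ℕ) : Prop where
  core : Cfsg.oddCore X = ⊥
  card : Nat.card X < m
  below : Below.{u} m
  elem : Cfsg.IsElementaryAbelian 2 A
  closed : Cfsg.IsStronglyClosed A (T : Subgroup X)

namespace LocalSetting

variable {X : Type u} [Group X] [Finite X] {T : Sylow 2 X} {A : Subgroup X} {m : ℕ}
  (h : LocalSetting T A m)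
include h

theorem inv_eq {a : X} (ha : a ∈ A) : a⁻¹ = a :=
  inv_eq_of_mul_eq_one_right (by rw [← pow_two]; exact h.elem.2 a ha)

theorem comm {a b : X} (ha : a ∈ A) (hb : b ∈ A) : a * b = b * a :=
  haveI := h.elem.1
  setLike_mul_comm ha hb

/-- `A` is normal in `T`. -/
theorem conj_mem {t a : X} (ht : t ∈ (T : Subgroup X)) (ha : a ∈ A) : t * a * t⁻¹ ∈ A :=
  h.closed.2 a ha t (mul_mem (mul_mem ht (h.closed.1 ha)) (inv_mem ht))

theorem comm_mem {t a : X} (ht : t ∈ (T : Subgroup X)) (ha : a ∈ A) : t * a * t⁻¹ * a⁻¹ ∈ A :=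
  mul_mem (h.conj_mem ht ha) (inv_mem ha)

theorem fitting : Cfsg.fittingSubgroup X = Cfsg.pCore 2 X := by
  haveI : Fact (Nat.Prime 2) := ⟨Nat.prime_two⟩
  exact Balance.fitting_eq_pCore h.core

/-- `A ∩ O₂(X)` is normal. -/
theorem conj_core {g a : X} (ha : a ∈ A) (ha' : a ∈ Cfsg.pCore 2 X) :
    g * a * g⁻¹ ∈ A ⊓ Cfsg.pCore 2 X := by
  haveI : Fact (Nat.Prime 2) := ⟨Nat.prime_two⟩
  haveI : (Cfsg.pCore 2 X).Normal := pCore_normal X
  have hg : g * a * g⁻¹ ∈ Cfsg.pCore 2 X := Subgroup.Normal.conj_mem inferInstance a ha' g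
  exact ⟨h.closed.2 a ha g (Cores.pCore_le_sylow T hg), hg⟩

variable {K : Subgroup X} (hK : Cfsg.IsComponent K)
include hK

/-- The centre of a component lies in every Sylow 2-subgroup. -/
theorem center_mem {z : ↥K} (hz : z ∈ Subgroup.center ↥K) :
    (z : X) ∈ Cfsg.pCore 2 X := by
  rw [← h.fitting]
  refine Cores.IsSubnormal.le_fittingSubgroup
    ((Subgroup.Normal.isSubnormal inferInstance).trans' hK.1) ?_ (mem_map_of_mem K.subtype hz)
  exact Cores.isNilpotent_map K.subtype CommGroup.isNilpotent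

theorem center_mem_sylow {z : ↥K} (hz : z ∈ Subgroup.center ↥K) : (z : X) ∈ (T : Subgroup X) :=
  haveI : Fact (Nat.Prime 2) := ⟨Nat.prime_two⟩
  Cores.pCore_le_sylow T (h.center_mem hK hz)

/-- Fusion in a component is not trivial modulo the centre. -/
theorem noncentral : ∃ t k : ↥K, (t : X) ∈ (T : Subgroup X) ∧
    ((k * t * k⁻¹ : ↥K) : X) ∈ (T : Subgroup X) ∧ k * t * k⁻¹ * t⁻¹ ∉ Subgroup.center ↥K := by
  classical
  haveI : Fact (Nat.Prime 2) := ⟨Nat.prime_two⟩
  haveI := hK.2.2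
  by_contra hno
  push Not at hno
  obtain ⟨P, hP⟩ := Walter.Pairs.exists_sylow_subnormal T hK.1
  set q := QuotientGroup.mk' (Subgroup.center ↥K)
  let PQ := P.mapSurjective (QuotientGroup.mk'_surjective (Subgroup.center ↥K))
  have hnab : ¬ IsMulCommutative (↥K ⧸ Subgroup.center ↥K) := fun hc => by
    refine Component.not_isSolvable hK ?_
    rw [Group.isSolvable_iff_subgroup_quotient (Subgroup.center ↥K)]
    exact ⟨isSolvable_of_comm fun a b => Subtype.ext (Subgroup.mem_center_iff.1 b.2 a),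
      isSolvable_of_comm fun a b => hc.is_comm.comm a b⟩
  have h2 : 2 ∣ Nat.card (↥K ⧸ Subgroup.center ↥K) := by
    by_contra hodd
    refine hnab ?_
    haveI : Group.IsSolvable (↥K ⧸ Subgroup.center ↥K) :=
      OddOrder.FeitThompson.isSolvable_of_odd_card
        (by rwa [← Nat.not_even_iff_odd, even_iff_two_dvd])
    exact ⟨⟨fun a b => IsSimpleGroup.comm_iff_isSolvable.2 inferInstance a b⟩⟩
  obtain ⟨u, hu⟩ := exists_prime_orderOf_dvd_card' 2 h2
  obtain ⟨U, hU⟩ := (IsPGroup.of_card (n := 1) (by rw [Nat.card_zpowers, hu, pow_one]) :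
    IsPGroup 2 ↥(zpowers u)).exists_le_sylow
  obtain ⟨g, hg⟩ := MulAction.exists_smul_eq (↥K ⧸ Subgroup.center ↥K) U PQ
  have huP : g * u * g⁻¹ ∈ (PQ : Subgroup _) :=
    ZStar.Elements.smul_mem hg (hU (mem_zpowers u))
  set v := g * u * g⁻¹ with hv
  have hv2 : orderOf v = 2 := (orderOf_conj53 g u).trans hu
  have hmem : ∀ w : ↥K, q w ∈ (PQ : Subgroup _) → (w : X) ∈ (T : Subgroup X) := by
    intro w hw
    rw [Sylow.coe_mapSurjective] at hw
    obtain ⟨p, hp, hpw⟩ := hw
    have hz : p⁻¹ * w ∈ Subgroup.center ↥K := QuotientGroup.eq.1 hpw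
    have hp' : (p : X) ∈ (T : Subgroup X) := by rw [hP] at hp; exact hp
    have := mul_mem hp' (h.center_mem_sylow hK hz)
    simpa using this
  obtain ⟨N, hN, hodd, hcomm⟩ := Cfsg.Agent.S0215.result PQ v hv2 huP fun x hx => by
    obtain ⟨k, rfl⟩ := QuotientGroup.mk'_surjective _ x
    obtain ⟨t, ht⟩ := QuotientGroup.mk'_surjective (Subgroup.center ↥K) v
    rw [← ht] at hx huP ⊢
    rw [← map_inv, ← map_mul, ← map_mul] at hx ⊢
    have hc := hno t k (hmem t huP) (hmem _ hx)
    rw [← QuotientGroup.eq_one_iff] at hc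
    have h1 : q (k * t * k⁻¹) * (q t)⁻¹ = 1 := by rw [← map_inv, ← map_mul]; exact hc
    exact mul_inv_eq_one.1 h1
  haveI := hN
  rcases hN.eq_bot_or_eq_top with rfl | rfl
  · have hvc : v ∈ Subgroup.center (↥K ⧸ Subgroup.center ↥K) := Subgroup.mem_center_iff.2 fun x => by
      have h1 := hcomm x
      rw [Subgroup.mem_bot] at h1
      exact (mul_inv_eq_iff_eq_mul.1 (mul_inv_eq_one.1 h1)).symm
    rcases (inferInstance : (Subgroup.center (↥K ⧸ Subgroup.center ↥K)).Normal).eq_bot_or_eq_top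
      with hb | ht
    · rw [hb, Subgroup.mem_bot] at hvc
      rw [hvc, orderOf_one] at hv2
      omega
    · exact hnab ⟨⟨fun a b => Subgroup.mem_center_iff.1 (ht ▸ mem_top b) a⟩⟩
  · rw [Subgroup.card_top] at hodd
    exact hodd.not_two_dvd_nat h2

/-- `A` normalises every component. -/
theorem le_normalizer : A ≤ normalizer (K : Set X) := by
  haveI : Fact (Nat.Prime 2) := ⟨Nat.prime_two⟩
  intro a ha
  set K' := K.map (MulAut.conj a).toMonoidHom with hK'
  have hK'c : Cfsg.IsComponent K' := Component.conj hK a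
  have haT := h.closed.1 ha
  by_cases he : K' = K
  · refine Subgroup.mem_normalizer_iff.2 fun x => ⟨fun hx => ?_, fun hx => ?_⟩
    · rw [← he]; exact mem_map_of_mem _ hx
    · have h1 : a * (a * x * a⁻¹) * a⁻¹ ∈ K := by rw [← he]; exact mem_map_of_mem _ hx
      have h2 : a * (a * x * a⁻¹) * a⁻¹ = x := by
        calc a * (a * x * a⁻¹) * a⁻¹ = (a * a) * x * (a * a)⁻¹ := by group
          _ = x := by rw [← pow_two, h.elem.2 a ha, one_mul, inv_one, mul_one]
      rwa [h2] at h1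
  exfalso
  obtain ⟨t, k, htT, hkT, hnc⟩ := h.noncentral hK
  set t' : X := a * (t : X)⁻¹ * a⁻¹ with ht'
  have ht'K : t' ∈ K' := mem_map_of_mem _ (inv_mem t.2)
  have hcen : ∀ y ∈ K, y * t' = t' * y := fun y hy =>
    (mem_centralizer_iff.1 (Component.le_centralizer_of_ne hK'c hK he ht'K) y hy)
  have ht'T : t' ∈ (T : Subgroup X) := mul_mem (mul_mem haT (inv_mem htT)) (inv_mem haT)
  have hu : (t : X) * t' ∈ A := by
    have := h.comm_mem htT ha
    rwa [show (t : X) * a * (t : X)⁻¹ * a⁻¹ = (t : X) * t' by rw [ht']; group] at this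
  set s : X := (k : X) * t * (k : X)⁻¹ with hs
  have hsT : s ∈ (T : Subgroup X) := by simpa [hs] using hkT
  have hsA : s * t' ∈ A := by
    have h1 : (k : X) * ((t : X) * t') * (k : X)⁻¹ = s * t' := by
      calc (k : X) * ((t : X) * t') * (k : X)⁻¹ = (k : X) * t * (t' * (k : X)⁻¹) := by group
        _ = (k : X) * t * ((k : X)⁻¹ * t') := by rw [hcen _ (inv_mem k.2)]
        _ = s * t' := by rw [hs]; group
    rw [← h1]
    exact h.closed.2 _ hu k (by rw [h1]; exact mul_mem hsT ht'T)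
  have hd : ((k * t * k⁻¹ * t⁻¹ : ↥K) : X) ∈ A := by
    have h1 := mul_mem hsA (inv_mem hu)
    rwa [show s * t' * ((t : X) * t')⁻¹ = ((k * t * k⁻¹ * t⁻¹ : ↥K) : X) by
      simp [hs, mul_assoc]] at h1
  refine hnc (Subgroup.mem_center_iff.2 fun y => Subtype.ext ?_)
  set d := k * t * k⁻¹ * t⁻¹ with hd'
  have hdK' : (d : X) ∈ K' := by
    refine ⟨(d : X), d.2, ?_⟩
    show a * (d : X) * a⁻¹ = d
    rw [h.comm ha hd, mul_inv_cancel_right]
  rw [Subgroup.coe_mul, Subgroup.coe_mul]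
  exact (mem_centralizer_iff.1 (Component.le_centralizer_of_ne hK'c hK he hdK') y y.2)

omit h in
/-- An element centralising a component modulo its centre centralises it. -/
theorem mem_centralizer_of_mod {a : X} (h1 : ∀ k ∈ K, (a * k * a⁻¹ * k⁻¹) ∈ K ∧
    ∀ y ∈ K, y * (a * k * a⁻¹ * k⁻¹) = (a * k * a⁻¹ * k⁻¹) * y) :
    a ∈ centralizer (K : Set X) := by
  -- a perfect group has no non-trivial homomorphism to its centre
  let c : ↥K →* ↥(Subgroup.center ↥K) :=
    { toFun := fun k => ⟨⟨_, (h1 k k.2).1⟩,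
        Subgroup.mem_center_iff.2 fun y => Subtype.ext ((h1 k k.2).2 y y.2)⟩
      map_one' := Subtype.ext (Subtype.ext (by simp))
      map_mul' := fun k l => Subtype.ext (Subtype.ext (by
        show a * ((k : X) * l) * a⁻¹ * ((k : X) * l)⁻¹ =
          (a * k * a⁻¹ * (k : X)⁻¹) * (a * l * a⁻¹ * (l : X)⁻¹)
        calc a * ((k : X) * l) * a⁻¹ * ((k : X) * l)⁻¹
            = (a * k * a⁻¹ * (k : X)⁻¹) * ((k : X) * (a * l * a⁻¹ * (l : X)⁻¹)) * (k : X)⁻¹ := by
              group
          _ = (a * k * a⁻¹ * (k : X)⁻¹) * ((a * l * a⁻¹ * (l : X)⁻¹) * k) * (k : X)⁻¹ := by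
              rw [(h1 l l.2).2 k k.2]
          _ = _ := by group)) }
  refine mem_centralizer_iff.2 fun k hk => ?_
  have hker : c.ker = ⊤ := by
    haveI := hK.2.1
    rw [eq_top_iff, ← (inferInstance : Group.IsPerfect ↥K).commutator_eq_top]
    exact Abelianization.commutator_subset_ker c
  have := congrArg (fun z : ↥(Subgroup.center ↥K) => ((z : ↥K) : X))
    (MonoidHom.mem_ker.1 (hker ▸ mem_top (⟨k, hk⟩ : ↥K) : (⟨k, hk⟩ : ↥K) ∈ c.ker))
  exact (mul_inv_eq_iff_eq_mul.1 (mul_inv_eq_one.1 this)).symm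

/-- If `A ∩ K` is central in `K`, then `A` centralises `K`. -/
theorem le_centralizer (hc : ∀ x : ↥K, (x : X) ∈ A → x ∈ Subgroup.center ↥K) :
    A ≤ centralizer (K : Set X) := by
  classical
  haveI : Fact (Nat.Prime 2) := ⟨Nat.prime_two⟩
  haveI := hK.2.2
  set Y := K ⊔ A with hY
  have hKY : K ≤ Y := le_sup_left
  have hAY : A ≤ Y := le_sup_right
  have hYN : Y ≤ normalizer (K : Set X) := sup_le Subgroup.le_normalizer (h.le_normalizer hK)
  set Z : Subgroup Y := (Subgroup.center ↥K).map (inclusion hKY) with hZ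
  haveI hZn : Z.Normal := by
    constructor
    rintro _ ⟨z, hz, rfl⟩ g
    have hgz : (g : X) * z * (g : X)⁻¹ ∈ K :=
      (Subgroup.mem_normalizer_iff.1 (hYN g.2) z).1 z.2
    refine ⟨⟨_, hgz⟩, Subgroup.mem_center_iff.2 fun y => Subtype.ext ?_, Subtype.ext (by simp)⟩
    have hy' : (g : X)⁻¹ * y * g ∈ K :=
      (Subgroup.mem_normalizer_iff''.1 (hYN g.2) y).1 y.2
    have h1 : ((g : X)⁻¹ * y * g) * z = z * ((g : X)⁻¹ * y * g) :=
      congrArg Subtype.val (Subgroup.mem_center_iff.1 hz ⟨_, hy'⟩)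
    show (y : X) * (g * z * (g : X)⁻¹) = g * z * (g : X)⁻¹ * y
    calc (y : X) * (g * z * (g : X)⁻¹) = g * (((g : X)⁻¹ * y * g) * z) * (g : X)⁻¹ := by group
      _ = g * (z * ((g : X)⁻¹ * y * g)) * (g : X)⁻¹ := by rw [h1]
      _ = g * z * (g : X)⁻¹ * y := by group
  -- a Sylow subgroup of `Y` inside a conjugate of `T`
  obtain ⟨TY, hTY⟩ := (((T.2.to_le h.closed.1)).of_equiv
    (subgroupOfEquivOfLe hAY).symm).exists_le_sylow
  obtain ⟨R, hR⟩ := (TY.2.map Y.subtype).exists_le_sylow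
  have hAR : A ≤ (R : Subgroup X) := fun a ha => hR ⟨⟨a, hAY ha⟩, hTY ha, rfl⟩
  obtain ⟨-, hclR⟩ := Cfsg.Agent.S1249.result T R A hAR h.closed
  have hclY : Cfsg.IsStronglyClosed (A.subgroupOf Y) (TY : Subgroup Y) :=
    ⟨hTY, fun x hx g hg => hclR (x : X) hx (g : X) (hR ⟨_, hg, rfl⟩)⟩
  have hclQ' := Cfsg.Agent.S1250.result TY (A.subgroupOf Y) hclY Z
  let TQ : Sylow 2 (Y ⧸ Z) := TY.mapSurjective (QuotientGroup.mk'_surjective Z)
  have hclQ : Cfsg.IsStronglyClosed ((A.subgroupOf Y).map (QuotientGroup.mk' Z))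
      (TQ : Subgroup (Y ⧸ Z)) := by rw [Sylow.coe_mapSurjective]; exact hclQ'
  set q := QuotientGroup.mk' Z
  set H : Subgroup (Y ⧸ Z) := (K.subgroupOf Y).map q with hH
  have hZK : ∀ y : Y, y ∈ Z → (y : X) ∈ K := by
    rintro _ ⟨z, -, rfl⟩; exact z.2
  let φ : ↥K →* ↥H := (q.comp (inclusion hKY)).codRestrict H fun k =>
    mem_map_of_mem q (mem_subgroupOf.2 k.2)
  have hφs : Function.Surjective φ := by
    rintro ⟨_, y, hy, rfl⟩
    exact ⟨⟨y, hy⟩, rfl⟩
  have hφk : φ.ker = Subgroup.center ↥K := by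
    ext k
    rw [MonoidHom.mem_ker]
    constructor
    · intro hk
      have h1 : q (inclusion hKY k) = 1 := congrArg Subtype.val hk
      obtain ⟨z, hz, hzk⟩ := (QuotientGroup.eq_one_iff _).1 h1
      rwa [inclusion_injective hKY hzk] at hz
    · intro hk
      exact Subtype.ext ((QuotientGroup.eq_one_iff _).2 (mem_map_of_mem _ hk))
  let e : ↥K ⧸ Subgroup.center ↥K ≃* ↥H :=
    (QuotientGroup.quotientMulEquivOfEq hφk.symm).trans
      (QuotientGroup.quotientKerEquivOfSurjective φ hφs)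
  haveI : IsSimpleGroup ↥H := e.symm.isSimpleGroup
  have hHc : Cfsg.oddCore ↥H = ⊥ := by
    rcases (show (Cfsg.oddCore ↥H).Normal by
      unfold Cfsg.oddCore; infer_instance).eq_bot_or_eq_top with hb | ht
    · exact hb
    · exfalso
      have hodd := Cores.oddCore_odd (G := ↥H)
      rw [ht, Subgroup.card_top] at hodd
      obtain ⟨t, k, htT, -, hnc⟩ := h.noncentral hK
      obtain ⟨j, hj⟩ := IsPGroup.iff_orderOf.1 T.2 ⟨(t : X), htT⟩
      rw [Subgroup.orderOf_mk, Subgroup.orderOf_coe] at hj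
      have h1 : φ t = 1 := orderOf_eq_one_iff.1 (Nat.eq_one_of_dvd_coprimes
        ((Nat.coprime_two_right.2 (hodd.of_dvd_nat (orderOf_dvd_natCard (φ t)))).pow_right j)
        dvd_rfl ((orderOf_map_dvd φ t).trans hj.dvd))
      refine hnc ?_
      rw [← hφk, MonoidHom.mem_ker, map_mul, map_mul, map_mul, map_inv, map_inv, h1]
      group
  have hAH : (A.subgroupOf Y).map q ⊓ H = ⊥ := by
    rw [eq_bot_iff]
    rintro _ ⟨⟨a, ha, rfl⟩, ⟨y, hy, he⟩⟩
    have hz := hZK _ (QuotientGroup.eq.1 he)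
    have haK : (a : X) ∈ K := by
      have h1 : (y : X) * ((y⁻¹ * a : Y) : X) = a := by simp
      rw [← h1]; exact mul_mem hy hz
    refine Subgroup.mem_bot.2 ((QuotientGroup.eq_one_iff a).2 ⟨⟨a, haK⟩, ?_, Subtype.ext rfl⟩)
    exact hc ⟨a, haK⟩ ha
  have hnormH : (A.subgroupOf Y).map q ≤ normalizer (H : Set (Y ⧸ Z)) := by
    haveI : (K.subgroupOf Y).Normal := ⟨fun y hy g =>
      (Subgroup.mem_normalizer_iff.1 (hYN g.2) _).1 hy⟩
    haveI : H.Normal := Subgroup.Normal.map inferInstance q (QuotientGroup.mk'_surjective Z)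
    rw [Subgroup.normalizer_eq_top]; exact le_top
  have key := ZStar.StronglyClosed.le_centralizer TQ _
    (show Cfsg.IsStronglyClosed _ _ from hclQ) H hnormH hHc hAH
  -- commutators are central, so trivial
  intro a ha
  have h1 : ∀ k ∈ K, (a * k * a⁻¹ * k⁻¹) ∈ K ∧ ∀ y ∈ K, y * (a * k * a⁻¹ * k⁻¹) =
      (a * k * a⁻¹ * k⁻¹) * y := by
    intro k hk
    have hc1 := mem_centralizer_iff.1 (key (mem_map_of_mem q (x := (⟨a, hAY ha⟩ : Y)) ha))
      (q ⟨k, hKY hk⟩) (mem_map_of_mem q hk)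
    rw [← map_mul, ← map_mul] at hc1
    have hc2 : (⟨a, hAY ha⟩ : Y) * ⟨k, hKY hk⟩ * (⟨a, hAY ha⟩)⁻¹ * (⟨k, hKY hk⟩)⁻¹ ∈ Z := by
      rw [← QuotientGroup.eq_one_iff]
      show q _ = 1
      rw [map_mul, map_mul, map_mul, map_inv, map_inv, ← map_mul q (⟨a, _⟩ : Y) ⟨k, _⟩, ← hc1,
        map_mul]
      group
    obtain ⟨z, hz, hze⟩ := hc2
    have e : (z : X) = a * k * a⁻¹ * k⁻¹ := congrArg Subtype.val hze
    exact ⟨e ▸ z.2, fun y hy => e ▸ congrArg Subtype.val (Subgroup.mem_center_iff.1 hz ⟨y, hy⟩)⟩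
  exact mem_centralizer_of_mod hK h1

/-- A component meeting `A` outside its centre is known modulo its centre. -/
theorem known (hc : ¬ ∀ x : ↥K, (x : X) ∈ A → x ∈ Subgroup.center ↥K) :
    IsKnown (↥K ⧸ Subgroup.center ↥K) ∧ ∃ P : Sylow 2 (↥K ⧸ Subgroup.center ↥K),
      (∀ x : ↥K, (x : X) ∈ (T : Subgroup X) →
        QuotientGroup.mk' (Subgroup.center ↥K) x ∈ (P : Subgroup _)) ∧
      (∀ y ∈ (P : Subgroup _), ∃ x : ↥K, (x : X) ∈ (T : Subgroup X) ∧
        QuotientGroup.mk' (Subgroup.center ↥K) x = y) ∧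
      (A.subgroupOf K).map (QuotientGroup.mk' (Subgroup.center ↥K)) = Om P := by
  classical
  haveI : Fact (Nat.Prime 2) := ⟨Nat.prime_two⟩
  haveI := hK.2.2
  obtain ⟨P, hP⟩ := Walter.Pairs.exists_sylow_subnormal T hK.1
  have hcl : Cfsg.IsStronglyClosed (A.subgroupOf K) (P : Subgroup ↥K) := by
    refine ⟨fun x hx => hP ▸ h.closed.1 hx, fun x hx g hg => ?_⟩
    rw [hP] at hg
    exact h.closed.2 (x : X) hx (g : X) hg
  have hcard : Nat.card ↥K < m :=
    lt_of_le_of_lt (Subgroup.card_le_card_group K) h.card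
  set Z := Subgroup.center ↥K with hZdef
  set q := QuotientGroup.mk' Z
  have hclQ' := Cfsg.Agent.S1250.result P (A.subgroupOf K) hcl Z
  let PQ : Sylow 2 (↥K ⧸ Z) := P.mapSurjective (QuotientGroup.mk'_surjective Z)
  have hclQ : Cfsg.IsStronglyClosed ((A.subgroupOf K).map (QuotientGroup.mk' Z))
      (PQ : Subgroup (↥K ⧸ Z)) := by rw [Sylow.coe_mapSurjective]; exact hclQ'
  have hneQ : (A.subgroupOf K).map q ≠ ⊥ := fun e => hc fun x hx =>
    (QuotientGroup.eq_one_iff x).1 (Subgroup.mem_bot.1 (e ▸ mem_map_of_mem q (show x ∈ A.subgroupOf K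
      from hx) : q x ∈ (⊥ : Subgroup _)))
  have helQ : Cfsg.IsElementaryAbelian 2 ((A.subgroupOf K).map q) := by
    refine ⟨⟨⟨?_⟩⟩, ?_⟩
    · rintro ⟨_, x, hx, rfl⟩ ⟨_, y, hy, rfl⟩
      apply Subtype.ext
      show q x * q y = q y * q x
      rw [← map_mul, ← map_mul, show x * y = y * x from Subtype.ext (h.comm hx hy)]
    · rintro _ ⟨x, hx, rfl⟩
      rw [← map_pow, show x ^ 2 = 1 from Subtype.ext (h.elem.2 (x : X) hx), map_one]
  have hnabQ : ¬ IsMulCommutative (↥K ⧸ Z) := fun hab => by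
    refine Component.not_isSolvable hK ?_
    rw [Group.isSolvable_iff_subgroup_quotient Z]
    exact ⟨isSolvable_of_comm fun a b => Subtype.ext (Subgroup.mem_center_iff.1 b.2 a),
      isSolvable_of_comm fun a b => hab.is_comm.comm a b⟩
  obtain ⟨hkQ, hAQ⟩ := h.below _ (lt_of_le_of_lt (Nat.card_le_card_of_surjective q
    (QuotientGroup.mk'_surjective Z)) hcard) inferInstance hnabQ PQ _ hneQ helQ hclQ
  refine ⟨hkQ, PQ, fun x hx => ?_, fun y hy => ?_, hAQ⟩
  · show q x ∈ (PQ : Subgroup _)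
    rw [Sylow.coe_mapSurjective]
    exact mem_map_of_mem q (by rw [hP]; exact hx)
  · rw [Sylow.coe_mapSurjective] at hy
    obtain ⟨x, hx, rfl⟩ := hy
    rw [hP] at hx
    exact ⟨x, hx, rfl⟩

/-- A simple component meeting `A` is known. -/
theorem known_simple (hc : ¬ ∀ x : ↥K, (x : X) ∈ A → x ∈ Subgroup.center ↥K)
    (hZ : Subgroup.center ↥K = ⊥) :
    IsKnown ↥K ∧ ∃ P : Sylow 2 ↥K, A.subgroupOf K = Om P := by
  haveI : Fact (Nat.Prime 2) := ⟨Nat.prime_two⟩
  haveI := hK.2.2
  obtain ⟨P, hP⟩ := Walter.Pairs.exists_sylow_subnormal T hK.1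
  have hcl : Cfsg.IsStronglyClosed (A.subgroupOf K) (P : Subgroup ↥K) := by
    refine ⟨fun x hx => hP ▸ h.closed.1 hx, fun x hx g hg => ?_⟩
    rw [hP] at hg
    exact h.closed.2 (x : X) hx (g : X) hg
  haveI : IsSimpleGroup ↥K :=
    (((QuotientGroup.quotientMulEquivOfEq hZ).trans QuotientGroup.quotientBot).symm).isSimpleGroup
  have hne : A.subgroupOf K ≠ ⊥ := fun e => hc fun x hx => by
    have : x ∈ A.subgroupOf K := hx
    rw [e, Subgroup.mem_bot] at this
    rw [this]; exact one_mem _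
  obtain ⟨hk, hA⟩ := h.below ↥K (lt_of_le_of_lt (Subgroup.card_le_card_group K) h.card)
    inferInstance (Component.not_isMulCommutative hK) P _ hne
    ⟨⟨⟨fun x y => Subtype.ext (Subtype.ext (h.comm x.2 y.2))⟩⟩,
      fun x hx => Subtype.ext (h.elem.2 (x : X) hx)⟩ hcl
  exact ⟨hk, P, hA⟩

omit hK

/-- The layer decomposition of `A`. -/
theorem split (hF : PropFacts.{u}) :
    A ≤ (A ⊓ Cfsg.pCore 2 X) ⊔ ⨆ K : {K : Subgroup X // Cfsg.IsComponent K}, A ⊓ K.1 := by
  classical
  haveI : Fact (Nat.Prime 2) := ⟨Nat.prime_two⟩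
  haveI : Fintype (Subgroup X) := Fintype.ofFinite _
  intro a ha
  set U := ⨆ K : {K : Subgroup X // Cfsg.IsComponent K}, A ⊓ K.1
  suffices ∀ s : Finset (Subgroup X), (∀ K ∈ s, Cfsg.IsComponent K) →
      ∃ e ∈ U, ∃ c ∈ A, a = e * c ∧ ∀ K ∈ s, c ∈ centralizer (K : Set X) by
    obtain ⟨e, he, c, hc, rfl, hall⟩ := this (Finset.univ.filter fun K => Cfsg.IsComponent K)
      (fun K hK => (Finset.mem_filter.1 hK).2)
    refine mul_mem (mem_sup_right he) (mem_sup_left ⟨hc, ?_⟩)
    -- the elements centralising the layer and the chain below `O₂(X)` form a normal 2-subgroup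
    set R := Cfsg.pCore 2 X with hR
    haveI hRn : R.Normal := pCore_normal X
    let A₀ : Subgroup X := A ⊓ R
    haveI hA₀n : A₀.Normal := ⟨fun x hx g => h.conj_core hx.1 hx.2⟩
    let Y : Subgroup X :=
      centralizer (Cfsg.layer X : Set X) ⊓ centralizer (A₀ : Set X) ⊓
        (centralizer ((R.map (QuotientGroup.mk' A₀) : Subgroup _) : Set (X ⧸ A₀))).comap
          (QuotientGroup.mk' A₀)
    haveI : (R.map (QuotientGroup.mk' A₀)).Normal :=
      hRn.map _ (QuotientGroup.mk'_surjective A₀)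
    haveI hYn : Y.Normal := by
      haveI : (Cfsg.layer X).Normal := Layer.layer_normal
      infer_instance
    have hYp : IsPGroup 2 ↥Y := by
      refine IsPGroup.iff_orderOf.2 fun y => ?_
      obtain ⟨i, d, hd, hdi⟩ :=
        Nat.exists_eq_two_pow_mul_odd (orderOf_pos (y : X)).ne'
      refine ⟨i, ?_⟩
      rw [← Subgroup.orderOf_coe, hdi]
      suffices hd1 : d = 1 by rw [hd1, mul_one]
      set w : X := (y : X) ^ 2 ^ i with hw
      have hwY : w ∈ Y := Subgroup.pow_mem _ y.2 _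
      have hwo : orderOf w = d := by
        rw [hw, orderOf_pow' _ (pow_ne_zero i two_ne_zero), hdi, Nat.gcd_comm,
          Nat.gcd_mul_right_right, Nat.mul_div_cancel_left _ (pow_pos two_pos i)]
      have hwR : ∀ r ∈ R, r * w = w * r := by
        intro r hr
        set e := w * r * w⁻¹ * r⁻¹ with hedef
        have he0 : e ∈ A₀ := by
          rw [← QuotientGroup.eq_one_iff]
          show QuotientGroup.mk' A₀ _ = 1
          rw [hedef, map_mul, map_mul, map_mul, map_inv, map_inv,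
            ← mem_centralizer_iff.1 hwY.2 _ (mem_map_of_mem _ hr)]
          group
        have hwe : w * e * w⁻¹ = e := by
          rw [← mem_centralizer_iff.1 hwY.1.2 e he0, mul_inv_cancel_right]
        have hwr : w * r * w⁻¹ = e * r := (inv_mul_cancel_right _ _).symm
        have hpow : ∀ n : ℕ, w ^ n * r * (w ^ n)⁻¹ = e ^ n * r := by
          intro n
          induction n with
          | zero => simp
          | succ n ih =>
            rw [show w ^ (n + 1) * r * (w ^ (n + 1))⁻¹ = w * (w ^ n * r * (w ^ n)⁻¹) * w⁻¹ by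
              rw [pow_succ']; group, ih]
            calc w * (e ^ n * r) * w⁻¹ = (w * e * w⁻¹) ^ n * (w * r * w⁻¹) := by
                  rw [conj_pow]; group
              _ = e ^ n * (e * r) := by rw [hwe, hwr]
              _ = e ^ (n + 1) * r := by rw [pow_succ]; exact (mul_assoc _ _ _).symm
        have h1 := hpow (orderOf w)
        rw [pow_orderOf_eq_one, one_mul, inv_one, mul_one, eq_comm, mul_eq_right, hwo] at h1
        have he1 : e = 1 := by
          obtain ⟨j, rfl⟩ := hd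
          rw [pow_add, pow_mul, h.elem.2 e he0.1, one_pow, one_mul, pow_one] at h1
          exact h1
        rw [hedef, mul_inv_eq_one, mul_inv_eq_iff_eq_mul] at he1
        exact he1.symm
      have hwF : w ∈ centralizer (Cfsg.generalizedFittingSubgroup X : Set X) := by
        rw [mem_centralizer_iff]
        intro z hz
        have hle : Cfsg.generalizedFittingSubgroup X ≤ centralizer ({w} : Set X) := sup_le
          (fun k hk => mem_centralizer_singleton_iff.2 (mem_centralizer_iff.1 hwY.1.1 k hk))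
          (fun k hk => mem_centralizer_singleton_iff.2 (hwR k (h.fitting.le hk)))
        exact mem_centralizer_singleton_iff.1 (hle hz)
      -- `C(F*(X))` is an abelian normal subgroup, so a 2-group
      haveI : (Cfsg.generalizedFittingSubgroup X).Normal := by
        haveI : (Cfsg.layer X).Normal := Layer.layer_normal
        haveI : (Cfsg.fittingSubgroup X).Normal := by
          rw [h.fitting]; exact pCore_normal X
        unfold Cfsg.generalizedFittingSubgroup; infer_instance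
      set C := centralizer (Cfsg.generalizedFittingSubgroup X : Set X) with hC
      haveI : IsMulCommutative ↥C := ⟨⟨fun x z => Subtype.ext
        (mem_centralizer_iff.1 z.2 x (GenFitting.centralizer_le x.2))⟩⟩
      have hCR : C ≤ R := by
        rw [hR, ← h.fitting]
        exact Cores.le_fittingSubgroup CommGroup.isNilpotent
      obtain ⟨j, hj⟩ := IsPGroup.iff_orderOf.1 ((Cores.pCore_isPGroup 2).to_le hCR) ⟨w, hwF⟩
      rw [Subgroup.orderOf_mk, hwo] at hj
      rcases j with _ | j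
      · simpa using hj
      · exact absurd (hj ▸ dvd_pow_self 2 j.succ_ne_zero) hd.not_two_dvd_nat
    have hcE : c ∈ centralizer (Cfsg.layer X : Set X) :=
      Walter.Pairs.mem_centralizer_layer fun K hK => hall K (by simp [hK])
    refine Cores.le_pCore hYp ⟨⟨hcE, mem_centralizer_iff.2 fun x hx => h.comm hx.1 hc⟩, ?_⟩
    refine mem_centralizer_iff.2 ?_
    rintro _ ⟨r, hr, rfl⟩
    have hrT := Cores.pCore_le_sylow T hr
    have h1 : r * c * r⁻¹ * c⁻¹ ∈ A₀ := by
      refine ⟨h.comm_mem hrT hc, ?_⟩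
      rw [show r * c * r⁻¹ * c⁻¹ = r * (c * r⁻¹ * c⁻¹) by group]
      exact mul_mem hr (hRn.conj_mem _ (inv_mem hr) c)
    rw [← QuotientGroup.eq_one_iff] at h1
    have h2 : QuotientGroup.mk' A₀ (r * c * r⁻¹ * c⁻¹) = 1 := h1
    rw [map_mul, map_mul, map_mul, map_inv, map_inv, mul_inv_eq_one, mul_inv_eq_iff_eq_mul] at h2
    exact h2
  intro s
  induction s using Finset.induction with
  | empty => exact fun _ => ⟨1, one_mem _, a, ha, (one_mul a).symm, by simp⟩
  | @insert K s hKs ih =>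
    intro hs
    obtain ⟨e, he, c, hc, hac, hall⟩ := ih fun L hL => hs L (Finset.mem_insert_of_mem hL)
    have hK := hs K (Finset.mem_insert_self K s)
    by_cases hcen : ∀ x : ↥K, (x : X) ∈ A → x ∈ Subgroup.center ↥K
    · exact ⟨e, he, c, hc, hac, fun L hL => (Finset.mem_insert.1 hL).elim
        (fun e' => e' ▸ h.le_centralizer hK hcen hc) (hall L)⟩
    obtain ⟨hkn, P, hTP, hPT, hOm⟩ := h.known hK hcen
    have hf := hF _ hkn
    haveI := hf.simple
    set Z := Subgroup.center ↥K with hZ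
    set q := QuotientGroup.mk' Z with hq
    let β : MulAut ↥K := K.normalizerMonoidHom ⟨c, h.le_normalizer hK hc⟩
    have hβ : ∀ x : ↥K, ((β x : ↥K) : X) = c * x * c⁻¹ := fun x => rfl
    have hβZ : Z.map β.toMonoidHom = Z :=
      Subgroup.characteristic_iff_map_eq.1 inferInstance β
    let α : MulAut (↥K ⧸ Z) := QuotientGroup.congr Z Z β hβZ
    have hα : ∀ x : ↥K, α (q x) = q (β x) := fun x => rfl
    have hαα : ∀ x, α (α x) = x := fun x => by
      obtain ⟨x, rfl⟩ := QuotientGroup.mk'_surjective Z x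
      rw [hα, hα]
      refine congrArg q (Subtype.ext ?_)
      rw [hβ, hβ]
      calc c * (c * x * c⁻¹) * c⁻¹ = (c * c) * x * (c * c)⁻¹ := by group
        _ = (x : X) := by rw [← pow_two, h.elem.2 c hc, one_mul, inv_one, mul_one]
    obtain ⟨g, hgP, hg⟩ := hf.split P α (by
        obtain ⟨j, -, hj⟩ := (Nat.dvd_prime_pow Nat.prime_two).1
          (orderOf_dvd_of_pow_eq_one (x := α) (n := 2 ^ 1) (by
            rw [pow_one, pow_two]; exact MulEquiv.ext hαα))
        exact ⟨j, hj⟩)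
      (fun x hx => by
        rw [← hOm] at hx
        obtain ⟨y, hy, rfl⟩ := hx
        refine congrArg q (Subtype.ext ?_)
        show c * (y : X) * c⁻¹ = y
        rw [h.comm hc (show (y : X) ∈ A from hy), mul_inv_cancel_right])
      (fun x hx => by
        obtain ⟨y, hy, rfl⟩ := hPT x hx
        rw [← hOm, hα, ← map_inv, ← map_mul]
        refine mem_map_of_mem q (mem_subgroupOf.2 ?_)
        rw [Subgroup.coe_mul, InvMemClass.coe_inv, hβ]
        have h1 := mul_mem (h.conj_mem (inv_mem hy) hc) (inv_mem hc)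
        rw [inv_inv] at h1
        simpa [mul_assoc] using h1)
    have hg2 : g * g = 1 := by
      have hmem : g * g ∈ Subgroup.center (↥K ⧸ Z) := Subgroup.mem_center_iff.2 fun x => by
        have h1 := hαα x
        rw [hg, hg] at h1
        calc x * (g * g) = g * (g * x * g⁻¹) * g⁻¹ * (g * g) := by rw [h1]
          _ = g * g * x := by group
      rcases (inferInstance : (Subgroup.center (↥K ⧸ Z)).Normal).eq_bot_or_eq_top with hb | ht
      · rwa [hb, Subgroup.mem_bot] at hmem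
      · exact absurd ⟨⟨fun x y => Subgroup.mem_center_iff.1 (ht ▸ mem_top y) x⟩⟩ hf.nonabelian
    obtain ⟨w, hwA, rfl⟩ : g ∈ (A.subgroupOf K).map q := by
      rw [hOm]; exact Subgroup.subset_closure ⟨hgP, by rw [pow_two]; exact hg2⟩
    refine ⟨e * w, mul_mem he (mem_iSup_of_mem ⟨K, hK⟩ ⟨hwA, w.2⟩), (w : X)⁻¹ * c,
      mul_mem (inv_mem hwA) hc, by rw [hac]; group, fun L hL => ?_⟩
    rcases Finset.mem_insert.1 hL with rfl | hL
    · refine mem_centralizer_of_mod hK fun y hy => ?_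
      have h1 : q (β ⟨y, hy⟩) = q (w * ⟨y, hy⟩ * w⁻¹) := by
        rw [← hα, hg, map_mul, map_mul, map_inv]
      set k' : ↥L := w⁻¹ * β ⟨y, hy⟩ * w * (⟨y, hy⟩ : ↥L)⁻¹ with hk'
      have hkZ : k' ∈ Z := by
        rw [← QuotientGroup.eq_one_iff]
        show q _ = 1
        rw [hk', map_mul, map_mul, map_mul, h1, map_mul, map_mul, map_inv, map_inv]
        group
      have e1 : (w : X)⁻¹ * c * y * ((w : X)⁻¹ * c)⁻¹ * y⁻¹ = k' := by
        rw [hk']; simp [hβ, mul_assoc]
      exact ⟨e1 ▸ k'.2, fun z hz => e1 ▸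
        congrArg Subtype.val (Subgroup.mem_center_iff.1 hkZ ⟨z, hz⟩)⟩
    · exact mul_mem (inv_mem (Component.le_centralizer_of_ne hK (hs L (Finset.mem_insert_of_mem hL))
        (fun e' => hKs (e' ▸ hL)) w.2)) (hall L hL)

/-- `X = E(X) N(A)`. -/
theorem frattini (hF : PropFacts.{u}) (g : X) :
    ∃ k ∈ Cfsg.layer X, k * g ∈ normalizer (A : Set X) := by
  classical
  haveI : Fact (Nat.Prime 2) := ⟨Nat.prime_two⟩
  haveI : Fintype (Subgroup X) := Fintype.ofFinite _
  suffices ∀ s : Finset (Subgroup X), (∀ K ∈ s, Cfsg.IsComponent K) →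
      ∃ k ∈ Cfsg.layer X, ∀ K ∈ s, ∀ x ∈ A, x ∈ K → (k * g) * x * (k * g)⁻¹ ∈ A by
    obtain ⟨k, hk, hall⟩ := this (Finset.univ.filter fun K => Cfsg.IsComponent K)
      (fun K hK => (Finset.mem_filter.1 hK).2)
    refine ⟨k, hk, ?_⟩
    set f := (MulAut.conj (k * g)).toMonoidHom with hf
    have hle : A.map f ≤ A := by
      refine (map_mono (h.split hF)).trans ?_
      rw [Subgroup.map_sup, Subgroup.map_iSup]
      refine sup_le ?_ (iSup_le fun K => ?_)
      · rintro _ ⟨x, hx, rfl⟩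
        exact (h.conj_core hx.1 hx.2).1
      · rintro _ ⟨x, hx, rfl⟩
        exact hall K.1 (by simp [K.2]) x hx.1 hx.2
    have heq : A.map f = A := Subgroup.eq_of_le_of_card_ge hle
      (Subgroup.card_map_of_injective (MulAut.conj (k * g)).injective).ge
    refine Subgroup.mem_normalizer_iff.2 fun x => ⟨fun hx => ?_, fun hx => ?_⟩
    · rw [← heq]; exact mem_map_of_mem f hx
    · rw [← heq] at hx
      obtain ⟨y, hy, hyx⟩ := hx
      rwa [← (MulAut.conj (k * g)).injective hyx]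
  intro s
  induction s using Finset.induction with
  | empty => exact fun _ => ⟨1, one_mem _, by simp⟩
  | @insert K s hKs ih =>
    intro hs
    obtain ⟨k, hk, hall⟩ := ih fun L hL => hs L (Finset.mem_insert_of_mem hL)
    have hK := hs K (Finset.mem_insert_self K s)
    set b := k * g
    set K' := K.map (MulAut.conj b).toMonoidHom
    have hK' : Cfsg.IsComponent K' := Component.conj hK b
    obtain ⟨P, hP⟩ := Walter.Pairs.exists_sylow_subnormal T hK'.1
    -- conjugate the image of `T ∩ K` into `T`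
    set R : Subgroup ↥K' :=
      (((T : Subgroup X) ⊓ K).map (MulAut.conj b).toMonoidHom).subgroupOf K'
    have hR : IsPGroup 2 ↥R :=
      ((T.2.to_le inf_le_left).map _).comap_of_injective _ K'.subtype_injective
    obtain ⟨U, hU⟩ := hR.exists_le_sylow
    obtain ⟨k', hk'⟩ := MulAction.exists_smul_eq ↥K' U P
    refine ⟨k' * k, mul_mem (Layer.component_le_layer hK' k'.2) hk, fun L hL x hxA hxL => ?_⟩
    have hb : b * x * b⁻¹ ∈ L.map (MulAut.conj b).toMonoidHom := mem_map_of_mem _ hxL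
    have hrw : (k' : X) * k * g * x * ((k' : X) * k * g)⁻¹ = (k' : X) * (b * x * b⁻¹) * (k' : X)⁻¹ := by
      show _ = (k' : X) * (k * g * x * (k * g)⁻¹) * (k' : X)⁻¹
      group
    rw [hrw]
    rcases Finset.mem_insert.1 hL with rfl | hL
    · have hmem : (⟨b * x * b⁻¹, hb⟩ : ↥K') ∈ R :=
        mem_map_of_mem _ (⟨h.closed.1 hxA, hxL⟩ : x ∈ (T : Subgroup X) ⊓ L)
      have h1 : ((k' : ↥K') * ⟨b * x * b⁻¹, hb⟩ * k'⁻¹ : ↥K') ∈ (P : Subgroup ↥K') :=
        ZStar.Elements.smul_mem hk' (hU hmem)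
      rw [hP, mem_subgroupOf] at h1
      have e : (k' : X) * (b * x * b⁻¹) * (k' : X)⁻¹ = ((k' : X) * b) * x * ((k' : X) * b)⁻¹ := by
        group
      rw [e]
      refine h.closed.2 x hxA _ ?_
      rw [← e]
      simpa using h1
    · have hne : K' ≠ L.map (MulAut.conj b).toMonoidHom := fun e => hKs (by
        rwa [Subgroup.map_injective (MulAut.conj b).injective e])
      rw [← mem_centralizer_iff.1 (Component.le_centralizer_of_ne hK'
        (Component.conj (hs L (Finset.mem_insert_of_mem hL)) b) hne k'.2) _ hb, mul_inv_cancel_right]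
      exact hall L hL x hxA hxL

end LocalSetting

/-- Section X. -/
theorem local_ (hF : PropFacts.{u}) : PropLocal.{u} := by
  intro X _ _ m hO hcard hbel T A hel hsc
  have h : LocalSetting T A m := ⟨hO, hcard, hbel, hel, hsc⟩
  refine ⟨fun K hK => h.le_normalizer hK, fun K hK => ?_, fun K hK hAK hZ => ?_, h.split hF,
    h.frattini hF⟩
  · by_cases hc : ∀ x : ↥K, (x : X) ∈ A → x ∈ Subgroup.center ↥K
    · exact Or.inl (h.le_centralizer hK hc)
    · obtain ⟨hk, P, -, -, hOm⟩ := h.known hK hc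
      exact Or.inr ⟨hk, P, hOm⟩
  · obtain ⟨hk, P, hOm⟩ := h.known_simple hK (fun hc => hAK (h.le_centralizer hK hc)) hZ
    refine ⟨hk, P, ?_⟩
    rw [← hOm]
    exact (Subgroup.subgroupOf_map_subtype A K).symm

end Cfsg.Agent.Lib.Goldschmidt53
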