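import Cfsg.Agent.Lib.Goldschmidt53.MonoData

/-!
# Goldschmidt, section M: in the monomial case the centralisers of `A` generate a proper subgroup

`mono : PropMono` from sections L, X and C.
Owner: helper67.
-/

set_option autoImplicit false
set_option linter.style.haveILetI false
set_option linter.unusedSectionVars false

universe u

namespace Cfsg.Agent.Lib.Goldschmidt53.Mono

open Subgroup
open Cfsg.Agent.Lib.Walter (CBar liftBar coreC core proj imageBar mem_liftBar mem_imageBar
  proj_surjective proj_eq_one_iff conj_mem_of_le_normalizer centralizer_zpowers coreC_zpowers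
  odd_core odd_coreC core_le coreC_le centralizer_le_normalizer_core centralizer_le_normalizer_coreC
  inf_centralizer_le_normalizer imageBar_le_normalizer imageBar_mono)

variable {G : Type u} [Group G] [Finite G] {S : Sylow 2 G} {A : Subgroup G}
  {ι : Type} [Finite ι] {W Q : ι → Subgroup G}

/-- The closure of `W i` under conjugation by `C(Q i)`. -/
def blockGroup (W Q : ι → Subgroup G) (i : ι) : Subgroup G :=
  ⨆ g : ↥(centralizer (Q i : Set G)), (W i).map (MulAut.conj (g : G)).toMonoidHom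

theorem W_le_blockGroup (i : ι) : W i ≤ blockGroup W Q i := fun w hw =>
  le_iSup (fun g : ↥(centralizer (Q i : Set G)) => (W i).map (MulAut.conj (g : G)).toMonoidHom) 1
    ⟨w, hw, by simp⟩

theorem centralizer_le_normalizer_blockGroup (i : ι) :
    centralizer (Q i : Set G) ≤ normalizer (blockGroup W Q i : Set G) := by
  intro h hh
  refine mem_normalizer_of_map_le ?_
  rw [blockGroup, Subgroup.map_iSup]
  refine iSup_le fun g => le_trans ?_
    (le_iSup (fun g : ↥(centralizer (Q i : Set G)) => (W i).map (MulAut.conj (g : G)).toMonoidHom)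
      (⟨h, hh⟩ * g))
  rintro _ ⟨_, ⟨w, hw, rfl⟩, rfl⟩
  exact ⟨w, hw, by simp [mul_assoc]⟩

/-- A component not centralised by `A` shares no non-trivial element with another component. -/
theorem component_eq_of_mem {B : Subgroup G} (hg : Good B A) (hL : PropFacts.{u})
    {K K' : Subgroup (CBar B)} (hK : Cfsg.IsComponent K) (hK' : Cfsg.IsComponent K')
    (hnc : ¬ bar B A ≤ centralizer (K : Set (CBar B))) {x : CBar B}
    (hx : x ∈ K) (hx' : x ∈ K') (h1 : x ≠ 1) : K = K' := by
  by_contra hne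
  exact h1 (hg.eq_one_of_centralizes hL hK hnc hx (mem_centralizer_iff.2 fun k hk =>
    (mem_centralizer_iff.1 (Components.Component.le_centralizer_of_ne hK hK' hne hk) x hx').symm))

namespace Data

/-- A component not centralised by `A` carries a non-trivial element of some block. -/
theorem exists_elem_component (d : Data S A ι W Q) {B : Subgroup G} (hB : B ≤ A) (hB1 : B ≠ ⊥)
    {K : Subgroup (CBar B)} (hK : Cfsg.IsComponent K)
    (hnc : ¬ bar B A ≤ centralizer (K : Set (CBar B))) :
    ∃ j, Q j ≤ liftBar B (centralizer (K : Set (CBar B))) ∧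
      ∃ w ∈ W j, ∃ hw : w ∈ centralizer (B : Set G),
        proj B ⟨w, hw⟩ ∈ K ∧ proj B ⟨w, hw⟩ ≠ 1 := by
  obtain ⟨j, hj, hj'⟩ := d.exists_block hB hB1 hK hnc
  have h4 := (d.good hB hB1).four_le d.facts hK hnc
  obtain ⟨⟨v, hv, hvK⟩, hv1⟩ := Subgroup.ne_bot_iff_exists_ne_one.1
    (show (bar B A ⊓ K : Subgroup (CBar B)) ≠ ⊥ from fun e => by
      rw [e, card_bot] at h4; omega)
  obtain ⟨⟨w, hwC⟩, hw, rfl⟩ := hv
  exact ⟨j, hj', w, hj ⟨mem_subgroupOf.1 hw, mem_liftBar.2 ⟨hwC, hvK⟩⟩, hwC, hvK,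
    fun e => hv1 (Subtype.ext e)⟩

/-- At `c ∈ W l` the component of the block `i ≠ l` is normalised by `C(Q i)`. -/
theorem conj_mem_component (d : Data S A ι W Q) {i l : ι} (hil : l ≠ i) {c : G} (hc : c ∈ W l)
    {K : Subgroup (CBar (zpowers c))} (hK : Cfsg.IsComponent K) (hc1 : c ≠ 1)
    (hnc : ¬ bar (zpowers c) A ≤ centralizer (K : Set (CBar (zpowers c))))
    (hWK : W i = A ⊓ liftBar (zpowers c) K) {g : G} (hg : g ∈ centralizer (Q i : Set G))
    {w : G} (hw : w ∈ W i) : g * w * g⁻¹ ∈ liftBar (zpowers c) K := by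
  have hcA := d.mono.le l hc
  have hB : zpowers c ≤ A := zpowers_le.2 hcA
  have hB1 : zpowers c ≠ ⊥ := zpowers_ne_bot.2 hc1
  have hG := d.good hB hB1
  have hgC : g ∈ centralizer (zpowers c : Set G) :=
    centralizer_le (zpowers_le.2 (d.mono.le_Q i l hil.symm hc)) hg
  set γ := proj (zpowers c) ⟨g, hgC⟩ with hγ
  -- a component of another block is fixed
  have hfix : ∀ (K' : Subgroup (CBar (zpowers c))), Cfsg.IsComponent K' → K' ≠ K →
      ¬ bar (zpowers c) A ≤ centralizer (K' : Set (CBar (zpowers c))) →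
      K'.map (MulAut.conj γ).toMonoidHom = K' := by
    intro K' hK' hne hnc'
    obtain ⟨j, -, v, hv, hvC, hvK, hv1⟩ := d.exists_elem_component hB hB1 hK' hnc'
    rcases eq_or_ne i j with rfl | hji
    · obtain ⟨_, hvK'⟩ := mem_liftBar.1 (hWK ▸ hv :).2
      exact absurd (component_eq_of_mem hG d.facts hK' hK hnc' hvK hvK' hv1) hne
    have hcomm : g * v = v * g := (mem_centralizer_iff.1 hg v (d.mono.le_Q i j hji hv)).symm
    refine (component_eq_of_mem hG d.facts hK' (Components.Component.conj hK' γ) hnc' hvK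
      ⟨_, hvK, ?_⟩ hv1).symm
    show γ * proj (zpowers c) ⟨v, hvC⟩ * γ⁻¹ = _
    rw [hγ, ← map_inv, ← map_mul, ← map_mul]
    exact congrArg _ (Subtype.ext (show g * v * g⁻¹ = v by rw [hcomm, mul_inv_cancel_right]))
  have hKg : K.map (MulAut.conj γ).toMonoidHom = K := by
    by_contra hne
    exact hne (map_injective (MulAut.conj γ).injective
      (hfix _ (Components.Component.conj hK γ) hne
        (hG.not_le_centralizer_conj d.facts d.elem hK hnc γ)))
  obtain ⟨hwC, hwK⟩ := mem_liftBar.1 (hWK ▸ hw :).2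
  refine mem_liftBar.2 ⟨mul_mem (mul_mem hgC hwC) (inv_mem hgC), ?_⟩
  rw [← hKg]
  refine ⟨_, hwK, ?_⟩
  show γ * proj (zpowers c) ⟨w, hwC⟩ * γ⁻¹ = _
  rw [hγ, ← map_inv, ← map_mul, ← map_mul]
  rfl

/-- The odd core of `C(Q i)` centralises `A`. -/
theorem coreC_le_centralizer (d : Data S A ι W Q) (h0 : deltaSpan A = ⊥) (i : ι) :
    coreC (Q i) ≤ centralizer (A : Set G) := by
  have hA := d.elem
  intro z hz
  have hzC := coreC_le _ hz
  have hsp : A ≤ centralizer ({z} : Set G) := by
    rw [← d.mono.span]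
    refine iSup_le fun j w hw => mem_centralizer_singleton_iff.2 ?_
    rcases eq_or_ne i j with rfl | hji
    swap
    · exact (mem_centralizer_iff.1 hzC w (d.mono.le_Q i j hji hw))
    symm
    refine d.commute_of_mem_cores h0 (d.Q_le i) (le_trans (by norm_num) (d.sixteen_le i))
      fun b hb hb1 => ?_
    have hB : zpowers b ≤ A := zpowers_le.2 (d.Q_le i hb)
    have hB1 : zpowers b ≠ ⊥ := zpowers_ne_bot.2 hb1
    have hCb : centralizer (Q i : Set G) ≤ centralizer (zpowers b : Set G) :=
      centralizer_le (zpowers_le.2 hb)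
    have hAD : centralizer (A : Set G) ≤ normalizer (coreC (Q i) : Set G) :=
      (centralizer_le_centralizer (d.Q_le i)).trans (centralizer_le_normalizer_coreC _)
    rw [← coreC_zpowers]
    refine commutator_mem_coreC hA hB (d.good hB hB1) d.facts
      ((coreC_le _).trans hCb) (odd_coreC _) hAD hz (d.mono.le i hw) fun K hK hnc => ?_
    obtain ⟨j, -, hj⟩ := d.exists_block hB hB1 hK hnc
    rcases eq_or_ne j i with rfl | hji
    · exact Or.inl ((component_le_image hA hB (d.Q_le j) hj).trans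
        (imageBar_le_normalizer (inf_le_left.trans (centralizer_le_normalizer_coreC _))))
    · exact Or.inr ⟨1, one_mem _, by rw [one_mul, mul_one],
        by rw [mul_one]; exact hj (d.mono.le_Q j i hji hw)⟩
  exact mem_centralizer_iff.2 fun a ha => mem_centralizer_singleton_iff.1 (hsp ha)

/-- `W i` centralises the core of the centraliser of an element of another block. -/
theorem commute_core_other (d : Data S A ι W Q) (h0 : deltaSpan A = ⊥) {i l : ι}
    (hil : l ≠ i) {c w : G} (hc : c ∈ W l) (hw : w ∈ W i) :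
    core c ≤ centralizer ({w} : Set G) := by
  have hA := d.elem
  have hcA := d.mono.le l hc
  refine le_of_hyperplanes hA (odd_core c)
    (((le_centralizer hA le_rfl).trans (centralizer_le_centralizer_singleton hcA)).trans
      (centralizer_le_normalizer_core c)) fun H hH hi x hx => ?_
  refine mem_centralizer_singleton_iff.2 (d.commute_of_mem_cores h0 hH
    (le_trans (by norm_num) (d.thirtytwo_le_hyperplane hH hi)) fun b hb hb1 => ?_)
  have hbA := hH hb
  have hB : zpowers b ≤ A := zpowers_le.2 hbA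
  have hB1 : zpowers b ≠ ⊥ := zpowers_ne_bot.2 hb1
  rw [← coreC_zpowers]
  refine commutator_mem_coreC hA hB (d.good hB hB1) d.facts
    (D := core c ⊓ centralizer ({b} : Set G))
    (inf_le_right.trans (centralizer_zpowers b).ge)
    ((odd_core c).of_dvd_nat (card_dvd_of_le inf_le_left))
    (centralizer_le_normalizer_inf hcA hbA)
    ⟨hx.1, mem_centralizer_singleton_iff.2 (mem_centralizer_iff.1 hx.2 b hb).symm⟩
    (d.mono.le i hw) fun K hK hnc => ?_
  obtain ⟨j, -, hj⟩ := d.exists_block hB hB1 hK hnc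
  rcases eq_or_ne j l with rfl | hjl
  · exact Or.inr ⟨1, one_mem _, by rw [one_mul, mul_one],
      by rw [mul_one]; exact hj (d.mono.le_Q j i hil hw)⟩
  · refine Or.inl ((component_le_image hA hB (zpowers_le.2 hcA)
      (zpowers_le.2 (hj (d.mono.le_Q j l hjl hc)))).trans (imageBar_le_normalizer ?_))
    rw [centralizer_zpowers, centralizer_zpowers]
    exact inf_centralizer_le_normalizer c b

theorem blockGroup_commute (d : Data S A ι W Q) (h0 : deltaSpan A = ⊥) {i j : ι}
    (hij : i ≠ j) : blockGroup W Q j ≤ centralizer (blockGroup W Q i : Set G) := by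
  have hA := d.elem
  obtain ⟨l, hli, hlj⟩ := d.exists_other i j
  obtain ⟨⟨c, hc⟩, hc'⟩ := Subgroup.ne_bot_iff_exists_ne_one.1 (d.W_ne_bot l)
  have hc1 : c ≠ 1 := fun e => hc' (Subtype.ext e)
  have hB : zpowers c ≤ A := zpowers_le.2 (d.mono.le l hc)
  obtain ⟨-, -, Ki, hKi, hnci, hWi, -⟩ := d.mono.block i c (d.mono.le_Q i l hli.symm hc) hc1
  obtain ⟨-, -, Kj, hKj, hncj, hWj, -⟩ := d.mono.block j c (d.mono.le_Q j l hlj.symm hc) hc1
  have hnci' : ¬ bar (zpowers c) A ≤ centralizer (Ki : Set (CBar (zpowers c))) :=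
    fun h => hnci (le_liftBar_of_bar_le hA hB h)
  have hncj' : ¬ bar (zpowers c) A ≤ centralizer (Kj : Set (CBar (zpowers c))) :=
    fun h => hncj (le_liftBar_of_bar_le hA hB h)
  have hne : Ki ≠ Kj := fun e => by
    have h1 : W i = W j := by rw [hWi, hWj, e]
    have h2 := d.disjoint_blocks hij
    rw [h1, inf_idem] at h2
    exact d.W_ne_bot j h2
  have hcore : ∀ m, l ≠ m → ∀ g ∈ centralizer (Q m : Set G), ∀ w ∈ W m, ∀ o ∈ core c,
      g * w * g⁻¹ * o = o * (g * w * g⁻¹) := by
    intro m hlm g hg w hw o ho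
    have hgc : g ∈ centralizer ({c} : Set G) :=
      mem_centralizer_singleton_iff.2
        (mem_centralizer_iff.1 hg c (d.mono.le_Q m l hlm.symm hc)).symm
    have ho' : g⁻¹ * o * g ∈ core c := by
      simpa using conj_mem_of_le_normalizer (inv_mem (centralizer_le_normalizer_core c hgc)) ho
    have h := mem_centralizer_singleton_iff.1 (d.commute_core_other h0 hlm hc hw ho')
    calc g * w * g⁻¹ * o = g * (w * (g⁻¹ * o * g)) * g⁻¹ := by group
      _ = g * ((g⁻¹ * o * g) * w) * g⁻¹ := by rw [h]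
      _ = _ := by group
  have key : ∀ g ∈ centralizer (Q i : Set G), ∀ w ∈ W i, ∀ g' ∈ centralizer (Q j : Set G),
      ∀ w' ∈ W j, g * w * g⁻¹ * (g' * w' * g'⁻¹) = g' * w' * g'⁻¹ * (g * w * g⁻¹) := by
    intro g hg w hw g' hg' w' hw'
    obtain ⟨hxC, hxK⟩ := mem_liftBar.1 (d.conj_mem_component hli hc hKi hc1 hnci' hWi hg hw)
    obtain ⟨hyC, hyK⟩ := mem_liftBar.1 (d.conj_mem_component hlj hc hKj hc1 hncj' hWj hg' hw')
    set x := g * w * g⁻¹ with hx
    set y := g' * w' * g'⁻¹ with hy
    have hbar := mem_centralizer_iff.1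
      (Components.Component.le_centralizer_of_ne hKi hKj hne hxK) _ hyK
    have ho : x * y * x⁻¹ * y⁻¹ ∈ core c := by
      rw [← coreC_zpowers]
      refine (proj_eq_one_iff
        (mul_mem (mul_mem (mul_mem hxC hyC) (inv_mem hxC)) (inv_mem hyC))).1 ?_
      show proj (zpowers c) (⟨x, hxC⟩ * ⟨y, hyC⟩ * ⟨x, hxC⟩⁻¹ * ⟨y, hyC⟩⁻¹) = 1
      rw [map_mul, map_mul, map_mul, map_inv, map_inv, ← hbar, mul_inv_cancel_right,
        mul_inv_cancel]
    set o := x * y * x⁻¹ * y⁻¹ with ho'
    have hxo : x * o = o * x := hcore i hli g hg w hw o ho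
    have hx2 : x * x = 1 := by
      rw [hx]
      calc g * w * g⁻¹ * (g * w * g⁻¹) = g * (w * w) * g⁻¹ := by group
        _ = 1 := by rw [sq_mem hA (d.mono.le i hw), mul_one, mul_inv_cancel]
    have hoy : x * y = o * y * x := by rw [ho']; group
    have h1 : y = o * o * y := by
      calc y = x * x * y := by rw [hx2, one_mul]
        _ = x * o * y * x := by rw [mul_assoc, hoy]; group
        _ = o * (x * y) * x := by rw [hxo]; group
        _ = o * o * y * (x * x) := by rw [hoy]; group
        _ = o * o * y := by rw [hx2, mul_one]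
    have ho2 : o ^ 2 = 1 := by rw [pow_two]; exact mul_eq_right.1 h1.symm
    have ho1 : o = 1 := orderOf_eq_one_iff.1 (Nat.eq_one_of_dvd_coprimes
      (Nat.coprime_two_right.2 (odd_core c)) (Subgroup.orderOf_dvd_natCard _ ho)
      (orderOf_dvd_of_pow_eq_one ho2))
    rw [hoy, ho1, one_mul]
  refine iSup_le fun g' => ?_
  rintro _ ⟨w', hw', rfl⟩
  have hle : blockGroup W Q i ≤ centralizer ({(g' : G) * w' * (g' : G)⁻¹} : Set G) := by
    refine iSup_le fun g => ?_
    rintro _ ⟨w, hw, rfl⟩
    exact mem_centralizer_singleton_iff.2 (key g g.2 w hw g' g'.2 w' hw')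
  exact mem_centralizer_iff.2 fun x hx => mem_centralizer_singleton_iff.1 (hle hx)

theorem normalizer_le_normalizer_blocks (d : Data S A ι W Q) :
    normalizer (A : Set G) ≤ normalizer ((⨆ i, blockGroup W Q i : Subgroup G) : Set G) := by
  intro n hn
  refine mem_normalizer_of_map_le ?_
  rw [Subgroup.map_iSup]
  refine iSup_le fun i => ?_
  obtain ⟨j, hWj, hQj⟩ := d.mono.perm n hn i
  refine le_trans ?_ (le_iSup (blockGroup W Q) j)
  rw [blockGroup, Subgroup.map_iSup]
  refine iSup_le fun g => ?_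
  rintro _ ⟨_, ⟨w, hw, rfl⟩, rfl⟩
  have hg : n * (g : G) * n⁻¹ ∈ centralizer (Q j : Set G) := by
    rw [← hQj, mem_centralizer_iff]
    rintro _ ⟨q, hq, rfl⟩
    show n * q * n⁻¹ * (n * (g : G) * n⁻¹) = n * (g : G) * n⁻¹ * (n * q * n⁻¹)
    calc n * q * n⁻¹ * (n * (g : G) * n⁻¹) = n * (q * (g : G)) * n⁻¹ := by group
      _ = n * ((g : G) * q) * n⁻¹ := by rw [mem_centralizer_iff.1 g.2 q hq]
      _ = _ := by group
  refine le_iSup (fun g : ↥(centralizer (Q j : Set G)) =>
    (W j).map (MulAut.conj (g : G)).toMonoidHom) ⟨_, hg⟩ ⟨n * w * n⁻¹, ?_, ?_⟩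
  · rw [← hWj]
    exact mem_map_of_mem _ hw
  · simp [mul_assoc]

theorem normalizer_blocks_ne_top (d : Data S A ι W Q) (h0 : deltaSpan A = ⊥) :
    normalizer ((⨆ i, blockGroup W Q i : Subgroup G) : Set G) ≠ ⊤ := by
  intro htop
  haveI := d.hyp.simple
  set P := ⨆ i, blockGroup W Q i with hP
  haveI : P.Normal := normalizer_eq_top_iff.1 htop
  obtain ⟨i⟩ := d.nonempty
  have hWP : ∀ m, W m ≤ P := fun m => (W_le_blockGroup m).trans (le_iSup (blockGroup W Q) m)
  rcases (inferInstance : P.Normal).eq_bot_or_eq_top with h | h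
  · exact d.W_ne_bot i (le_bot_iff.1 (h ▸ hWP i))
  haveI : (blockGroup W Q i).Normal := by
    refine normalizer_eq_top_iff.1 (top_le_iff.1 ?_)
    rw [← h]
    refine iSup_le fun j => ?_
    rcases eq_or_ne i j with rfl | hij
    · exact le_normalizer
    · exact (d.blockGroup_commute h0 hij).trans (centralizer_le_normalizer _)
  rcases (inferInstance : (blockGroup W Q i).Normal).eq_bot_or_eq_top with h' | h'
  · exact d.W_ne_bot i (le_bot_iff.1 ((W_le_blockGroup i).trans h'.le))
  obtain ⟨j, hj, -⟩ := d.exists_other i i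
  obtain ⟨w, hw⟩ := Subgroup.ne_bot_iff_exists_ne_one.1 (d.W_ne_bot j)
  have hcen : (w : G) ∈ Subgroup.center G := mem_center_iff.2 fun g =>
    mem_centralizer_iff.1 (d.blockGroup_commute h0 hj.symm (W_le_blockGroup j w.2)) g
      (h' ▸ mem_top g)
  rcases (inferInstance : (Subgroup.center G).Normal).eq_bot_or_eq_top with hb | hb
  · rw [hb, mem_bot] at hcen
    exact hw (Subtype.ext hcen)
  · exact d.hyp.nonabelian ⟨⟨fun a b => mem_center_iff.1 (hb ▸ mem_top b) a⟩⟩

theorem centralizer_le_normalizer_blocks (d : Data S A ι W Q) (h0 : deltaSpan A = ⊥) (i : ι) :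
    centralizer (Q i : Set G) ≤ normalizer ((⨆ i, blockGroup W Q i : Subgroup G) : Set G) := by
  have hA := d.elem
  have hN := d.normalizer_le_normalizer_blocks
  refine centralizer_le_of_cover hA (d.Q_le i) (d.good (d.Q_le i) (d.Q_ne_bot i))
    (((d.coreC_le_centralizer h0 i).trans (centralizer_le_normalizer_self A)).trans hN) hN
    fun K hK hnc => ?_
  have hG := d.good (d.Q_le i) (d.Q_ne_bot i)
  obtain ⟨j, -, v, hv, hvC, hvK, hv1⟩ :=
    d.exists_elem_component (d.Q_le i) (d.Q_ne_bot i) hK hnc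
  rcases eq_or_ne i j with rfl | hji
  swap
  · refine absurd (hG.eq_one_of_centralizes d.facts hK hnc hvK
      (mem_centralizer_iff.2 fun k _ => ?_)) hv1
    obtain ⟨⟨z, hz⟩, rfl⟩ := proj_surjective (Q i) k
    rw [← map_mul, ← map_mul]
    exact congrArg _ (Subtype.ext (mem_centralizer_iff.1 hz v (d.mono.le_Q i j hji hv)).symm)
  have hnorm : (⊤ : Subgroup (CBar (Q i))) ≤
      normalizer (imageBar (Q i) (blockGroup W Q i) : Set (CBar (Q i))) := by
    refine le_trans ?_ (imageBar_le_normalizer (M := ⊤)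
      (inf_le_right.trans (centralizer_le_normalizer_blockGroup i)))
    intro y _
    obtain ⟨x, rfl⟩ := proj_surjective (Q i) y
    exact mem_map_of_mem _ (mem_subgroupOf.2 (mem_top _))
  haveI : (imageBar (Q i) (blockGroup W Q i)).Normal :=
    normalizer_eq_top_iff.1 (top_le_iff.1 hnorm)
  haveI := (d.facts ↥K (hG.case hK hnc).1).simple
  refine le_trans ?_ (imageBar_mono ((le_iSup (blockGroup W Q) i).trans le_normalizer))
  rcases (inferInstance : ((imageBar (Q i) (blockGroup W Q i)).subgroupOf K).Normal).eq_bot_or_eq_top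
    with h | h
  · exfalso
    refine hv1 ?_
    have h2 : (⟨_, hvK⟩ : ↥K) ∈ (imageBar (Q i) (blockGroup W Q i)).subgroupOf K :=
      mem_subgroupOf.2 (mem_imageBar hvC (W_le_blockGroup i hv))
    rw [h, mem_bot] at h2
    exact congrArg Subtype.val h2
  · exact subgroupOf_eq_top.1 h

theorem ne_top_of_trivial (d : Data S A ι W Q) (h0 : deltaSpan A = ⊥) : centSpan A ≠ ⊤ := by
  have hA := d.elem
  have hN := d.normalizer_le_normalizer_blocks
  have hQM := d.centralizer_le_normalizer_blocks h0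
  refine fun htop => d.normalizer_blocks_ne_top h0 (top_le_iff.1 (htop ▸ d.centSpan_le hN hQM ?_))
  intro a ha _
  refine le_of_hyperplanes hA (odd_core a)
    (((le_centralizer hA le_rfl).trans (centralizer_le_centralizer_singleton ha)).trans
      (centralizer_le_normalizer_core a)) fun H hH hi => ?_
  by_cases hcase : ∃ i, Q i ≤ H
  · obtain ⟨i, hiH⟩ := hcase
    exact inf_le_right.trans ((centralizer_le hiH).trans (hQM i))
  intro x hx
  refine hN (centralizer_le_normalizer_self A ?_)
  have hsp : A ≤ centralizer ({x} : Set G) := by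
    rw [← d.mono.span]
    refine iSup_le fun i w hw => mem_centralizer_singleton_iff.2 ?_
    symm
    refine d.commute_of_mem_cores h0 hH
      (le_trans (by norm_num) (d.thirtytwo_le_hyperplane hH hi)) fun b hb hb1 => ?_
    have hbA := hH hb
    have hB : zpowers b ≤ A := zpowers_le.2 hbA
    have hB1 : zpowers b ≠ ⊥ := zpowers_ne_bot.2 hb1
    rw [← coreC_zpowers]
    refine commutator_mem_coreC hA hB (d.good hB hB1) d.facts
      (D := core a ⊓ centralizer ({b} : Set G))
      (inf_le_right.trans (centralizer_zpowers b).ge)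
      ((odd_core a).of_dvd_nat (card_dvd_of_le inf_le_left))
      (centralizer_le_normalizer_inf ha hbA)
      ⟨hx.1, mem_centralizer_singleton_iff.2 (mem_centralizer_iff.1 hx.2 b hb).symm⟩
      (d.mono.le i hw) fun K hK hnc => Or.inr ?_
    obtain ⟨m, -, hm⟩ := d.exists_block hB hB1 hK hnc
    obtain ⟨q, hq, hqH⟩ := SetLike.not_le_iff_exists.1 fun h : Q m ≤ H => hcase ⟨m, h⟩
    have hw2 := sq_mem hA (d.mono.le i hw)
    by_cases hwH : w ∈ H
    · exact ⟨w, hH hwH, mem_centralizer_iff.1 hx.2 w hwH, by rw [hw2]; exact one_mem _⟩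
    have hqA := d.Q_le m hq
    have hwq : w * q ∈ H := by
      have h2 : (H.subgroupOf A).index = 2 := by
        have h0 : (H.subgroupOf A).index ≠ 0 := Subgroup.index_ne_zero_of_finite
        have h1 : (H.subgroupOf A).index ≠ 1 := fun e =>
          hwH (mem_subgroupOf.1 (index_eq_one.1 e ▸ mem_top (⟨w, d.mono.le i hw⟩ : ↥A)))
        change (H.subgroupOf A).index ≤ 2 at hi
        omega
      have h3 := (Subgroup.mul_mem_iff_of_index_two h2 (a := (⟨w, d.mono.le i hw⟩ : ↥A))
        (b := ⟨q, hqA⟩)).2 (iff_of_false (fun h => hwH (mem_subgroupOf.1 h))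
          fun h => hqH (mem_subgroupOf.1 h))
      exact mem_subgroupOf.1 h3
    exact ⟨w * q, hH hwq, mem_centralizer_iff.1 hx.2 _ hwq,
      by rw [← mul_assoc, hw2, one_mul]; exact hm hq⟩
  exact mem_centralizer_iff.2 fun y hy => mem_centralizer_singleton_iff.1 (hsp hy)

end Data

end Cfsg.Agent.Lib.Goldschmidt53.Mono

namespace Cfsg.Agent.Lib.Goldschmidt53

/-- Section M. -/
theorem mono (hL : PropFacts.{u}) (hX : PropLocal.{u}) (hN : PropNoCover.{u}) : PropMono.{u} := by
  intro G _ _ S A h ι _ W Q hM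
  have d : Mono.Data S A ι W Q := ⟨h, hL, hX, hN, hM⟩
  by_cases h0 : Mono.deltaSpan A = ⊥
  · exact d.ne_top_of_trivial h0
  · exact d.ne_top_of_deltaSpan h0

end Cfsg.Agent.Lib.Goldschmidt53
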