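import Cfsg.Agent.Lib.Goldschmidt53.Interface
import Cfsg.Agent.Lib.Walter.PairsY
import Cfsg.Agent.Lib.PGroups.ElemAb
import Cfsg.Agent.S1301

/-!
# Goldschmidt's theorem, section P: components of centralisers of subgroups of `A`

helper34.  `X` without odd core, `A` decomposed (`Decomp`), `D ≤ A`, `q : C(D) →* Z` onto a group
without odd core, with kernel of odd order.  By L-balance a component of `Z` not centralised by the
image of `A` lies in the image of `K ∩ C(D)` for a component `K` of `X`.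
-/

set_option autoImplicit false
set_option linter.style.haveILetI false
set_option linter.unusedSectionVars false

universe u

namespace Cfsg.Agent.Lib.Goldschmidt53.Pairs

open Subgroup Cfsg.Agent.Lib.Components
open Cfsg.Agent.Lib.Walter (IsJR)

variable {X : Type u} [Group X] [Finite X]

/-- The 2-layer of a group without odd core is its layer. -/
theorem pLayer_eq_layer (hO : Cfsg.pPrimeCore 2 X = ⊥) : Cfsg.pLayer 2 X = Cfsg.layer X := by
  set q := QuotientGroup.mk' (Cfsg.pPrimeCore 2 X) with hq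
  have hinj : Function.Injective q := by
    rw [← MonoidHom.ker_eq_bot_iff, hq, QuotientGroup.ker_mk', hO]
  let e : X ≃* X ⧸ Cfsg.pPrimeCore 2 X :=
    MulEquiv.ofBijective q ⟨hinj, QuotientGroup.mk'_surjective _⟩
  refine Subgroup.map_injective hinj ?_
  rw [hq, PComponent.map_pLayer]
  exact (Layer.map_layer e).symm

/-- The layer of an image with kernel of odd order comes from the 2-layer. -/
theorem layer_le_map {Y Z : Type u} [Group Y] [Finite Y] [Group Z] [Finite Z] (q : Y →* Z)
    (hq : Function.Surjective q) (hker : Odd (Nat.card q.ker)) (hZ : Cfsg.pPrimeCore 2 Z = ⊥) :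
    Cfsg.layer Z ≤ (Cfsg.pLayer 2 Y).map q := by
  haveI : Fact (Nat.Prime 2) := ⟨Nat.prime_two⟩
  set N := Cfsg.pPrimeCore 2 Y
  have hker' : q.ker = N := by
    refine le_antisymm (Cores.le_pPrimeCore (Nat.coprime_two_right.2 hker)) fun y hy => ?_
    have h := Cores.map_pPrimeCore_le (p := 2) q hq (mem_map_of_mem q hy)
    rw [hZ, mem_bot] at h
    exact h
  let e : Y ⧸ N ≃* Z :=
    (QuotientGroup.quotientMulEquivOfEq hker'.symm).trans
      (QuotientGroup.quotientKerEquivOfSurjective q hq)
  have he : q = e.toMonoidHom.comp (QuotientGroup.mk' N) := MonoidHom.ext fun y => rfl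
  rw [he, ← Subgroup.map_map, PComponent.map_pLayer]
  exact (Layer.map_layer e).ge

/-- `Decomp`, where the components moved by `A` have trivial centre. -/
structure GoodX (A : Subgroup X) : Prop where
  decomp : Decomp A
  center : ∀ K : Subgroup X, Cfsg.IsComponent K → ¬ A ≤ centralizer (K : Set X) →
    Subgroup.center ↥K = ⊥

theorem GoodX.known {A : Subgroup X} (h : GoodX A) {K : Subgroup X} (hK : Cfsg.IsComponent K)
    (hn : ¬ A ≤ centralizer (K : Set X)) :
    IsKnown ↥K ∧ ∃ P : Sylow 2 ↥K, A ⊓ K = (Om P).map K.subtype :=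
  h.decomp.simple K hK hn (h.center K hK hn)

variable {A : Subgroup X} (hd : GoodX A) (hF : PropFacts.{u})
include hd hF

section Component

variable {K : Subgroup X} (hK : Cfsg.IsComponent K)
include hK

theorem inf_centralizer (hn : ¬ A ≤ centralizer (K : Set X)) {x : X} (hx : x ∈ K)
    (hc : x ∈ centralizer (K : Set X)) : x = 1 := by
  have hf := hF _ (hd.known hK hn).1
  haveI := hf.simple
  have hz : (⟨x, hx⟩ : K) ∈ Subgroup.center ↥K := mem_center_iff.2 fun y =>
    Subtype.ext (mem_centralizer_iff.1 hc y y.2)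
  rcases (inferInstance : (Subgroup.center ↥K).Normal).eq_bot_or_eq_top with hb | ht
  · rw [hb, mem_bot] at hz
    exact congrArg Subtype.val hz
  · exact absurd ⟨⟨fun x y => mem_center_iff.1 (ht ▸ mem_top y) x⟩⟩ hf.nonabelian

theorem four_le_inf (hn : ¬ A ≤ centralizer (K : Set X)) : 4 ≤ Nat.card ↥(A ⊓ K) := by
  obtain ⟨hk, P, hP⟩ := hd.known hK hn
  rw [hP, card_map_of_injective K.subtype_injective]
  exact (hF _ hk).four_le P

omit hF in
/-- `A` is the product of its parts in `K` and centralising `K`. -/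
theorem exists_split {a : X} (ha : a ∈ A) :
    ∃ k ∈ A ⊓ K, ∃ c ∈ A ⊓ centralizer (K : Set X), a = k * c := by
  haveI : Fact (Nat.Prime 2) := ⟨Nat.prime_two⟩
  refine Coprime.exists_mul_of_mem_sup (fun x hx => ?_) ((hd.decomp.split.trans ?_) ha)
  · refine mem_normalizer_iff.2 fun y => ?_
    have hyc : ∀ y ∈ A ⊓ centralizer (K : Set X), x * y * x⁻¹ = y := fun y hy => by
      rw [mem_centralizer_iff.1 hy.2 x hx.2, mul_inv_cancel_right]
    constructor
    · intro hy
      rw [hyc y hy]; exact hy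
    · intro hy
      have h1 := hyc _ hy
      have h2 : x * y * x⁻¹ = y := by
        calc x * y * x⁻¹ = x⁻¹ * (x * (x * y * x⁻¹) * x⁻¹) * x := by group
          _ = x⁻¹ * (x * y * x⁻¹) * x := by rw [h1]
          _ = y := by group
      rwa [h2] at hy
  · refine sup_le (le_trans (le_inf inf_le_left ?_) le_sup_right) (iSup_le fun L => ?_)
    · refine inf_le_right.trans
        ((Cores.le_fittingSubgroup (N := Cfsg.pCore 2 X)
          (Cores.pCore_isPGroup 2).isNilpotent).trans ?_)
      exact Component.fittingSubgroup_le_centralizer hK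
    · by_cases he : L.1 = K
      · exact he ▸ le_sup_left
      · exact (inf_le_inf_left A (Component.le_centralizer_of_ne L.2 hK he)).trans le_sup_right

/-- An element of odd order in `K ∩ N(A)` transitive on the involutions of `A ∩ K`. -/
theorem exists_torus (hn : ¬ A ≤ centralizer (K : Set X)) :
    ∃ ν ∈ K, ν ∈ normalizer (A : Set X) ∧ Odd (orderOf ν) ∧
      ∀ x ∈ A ⊓ K, x ≠ 1 → ∀ y ∈ A ⊓ K, y ≠ 1 → ∃ k : ℕ, ν ^ k * x * (ν ^ k)⁻¹ = y := by
  obtain ⟨hk, P, hP⟩ := hd.known hK hn
  obtain ⟨n, hnN, hodd, htr⟩ := (hF _ hk).torus P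
  have hnOm : ∀ p ∈ Om P, n * p * n⁻¹ ∈ Om P := by
    intro p hp
    refine Subgroup.closure_induction (p := fun p _ => n * p * n⁻¹ ∈ Om P) ?_ ?_ ?_ ?_ hp
    · intro p hp
      refine Subgroup.subset_closure ⟨(mem_normalizer_iff.1 hnN p).1 hp.1, ?_⟩
      rw [conj_pow, hp.2, mul_one, mul_inv_cancel]
    · simp
    · intro p p' _ _ h1 h2
      have e : n * (p * p') * n⁻¹ = n * p * n⁻¹ * (n * p' * n⁻¹) := by group
      rw [e]; exact mul_mem h1 h2
    · intro p _ h1
      have e : n * p⁻¹ * n⁻¹ = (n * p * n⁻¹)⁻¹ := by group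
      rw [e]; exact inv_mem h1
  refine ⟨n, n.2, ?_, by rwa [Subgroup.orderOf_coe], fun x hx hx1 y hy hy1 => ?_⟩
  · have hle : ∀ a ∈ A, (n : X) * a * (n : X)⁻¹ ∈ A := by
      intro a ha
      obtain ⟨k, hkm, c, hc, rfl⟩ := exists_split hd hK ha
      rw [hP] at hkm
      obtain ⟨p, hp, rfl⟩ := hkm
      rw [show (n : X) * (K.subtype p * c) * (n : X)⁻¹ =
        ((n * p * n⁻¹ : K) : X) * ((n : X) * c * (n : X)⁻¹) by push_cast; simp [mul_assoc],
        mem_centralizer_iff.1 hc.2 n n.2, mul_inv_cancel_right]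
      exact mul_mem ((hP ▸ mem_map_of_mem K.subtype (hnOm p hp) : K.subtype _ ∈ A ⊓ K).1) hc.1
    let φ : ↥A → ↥A := fun a => ⟨n * a * (n : X)⁻¹, hle a a.2⟩
    have hφ : Function.Surjective φ := Finite.injective_iff_surjective.1 fun a b e => by
      simpa [φ] using e
    refine mem_normalizer_iff.2 fun a => ⟨hle a, fun ha => ?_⟩
    obtain ⟨b, hb⟩ := hφ ⟨_, ha⟩
    have e : (n : X) * b * (n : X)⁻¹ = n * a * (n : X)⁻¹ := congrArg Subtype.val hb
    exact mul_left_cancel (mul_right_cancel e) ▸ b.2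
  · rw [hP] at hx hy
    obtain ⟨p, hp, rfl⟩ := hx
    obtain ⟨p', hp', rfl⟩ := hy
    obtain ⟨k, hk⟩ := htr p hp (fun e => hx1 (by rw [e, map_one])) p' hp'
      (fun e => hy1 (by rw [e, map_one]))
    exact ⟨k, by rw [← hk]; simp⟩

end Component

section Step

variable (hel : Cfsg.IsElementaryAbelian 2 A) {Z : Type u} [Group Z] [Finite Z] {D : Subgroup X}
  (hDA : D ≤ A) (q : centralizer (D : Set X) →* Z) (hq : Function.Surjective q)
  (hker : Odd (Nat.card q.ker))
include hel hDA

omit hd hF in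
theorem le_cent : A ≤ centralizer (D : Set X) := fun _ ha =>
  mem_centralizer_iff.2 fun _ hx => PGroups.elemAb_comm hel (hDA hx) ha

include hker

omit hd hF in
/-- An involution commuting with `y` and equal to it modulo the kernel lies in the group of `y`. -/
theorem mem_of_eq {H : Subgroup X} {c y : centralizer (D : Set X)} (hc : (c : X) ∈ A)
    (hy : (y : X) ∈ H) (hcy : c * y = y * c) (h : q c = q y) : (c : X) ∈ H := by
  obtain ⟨j, hj⟩ := hker
  have hm : (c⁻¹ * y) ^ (2 * j + 1) = 1 := by
    rw [← hj]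
    exact congrArg Subtype.val (pow_card_eq_one' (x := (⟨c⁻¹ * y,
      MonoidHom.mem_ker.2 (by rw [map_mul, map_inv, h, inv_mul_cancel])⟩ : q.ker)))
  have hc2 : (c⁻¹ : centralizer (D : Set X)) ^ 2 = 1 := by
    rw [inv_pow, inv_eq_one]
    exact Subtype.ext (PGroups.elemAb_pow hel hc)
  rw [(show Commute c y from hcy).inv_left.mul_pow, pow_succ, pow_mul, hc2, one_pow, one_mul,
    inv_mul_eq_one] at hm
  rw [hm]
  exact pow_mem hy _

theorem restrict_injective {K : Subgroup X} (hK : Cfsg.IsComponent K)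
    (hn : ¬ A ≤ centralizer (K : Set X)) (hKY : K ≤ centralizer (D : Set X)) :
    Function.Injective (q.comp (inclusion hKY)) := by
  haveI := (hF _ (hd.known hK hn).1).simple
  rw [← MonoidHom.ker_eq_bot_iff]
  refine (MonoidHom.normal_ker (q.comp (inclusion hKY))).eq_bot_or_eq_top.resolve_right
    fun htop => ?_
  obtain ⟨⟨x, hxA, hxK⟩, hx1⟩ := Subgroup.ne_bot_iff_exists_ne_one.1
    (show A ⊓ K ≠ ⊥ from fun e => by
      have := four_le_inf hd hF hK hn
      rw [e, card_bot] at this; omega)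
  have h1 : q ⟨x, hKY hxK⟩ = q 1 := by
    rw [map_one]
    exact MonoidHom.mem_ker.1 (htop ▸ mem_top _ : (⟨x, hxK⟩ : K) ∈ (q.comp (inclusion hKY)).ker)
  have := mem_of_eq hel hDA q hker (H := ⊥) (c := ⟨x, hKY hxK⟩) (y := 1) hxA (one_mem _) (by simp) h1
  exact hx1 (Subtype.ext (mem_bot.1 this))

include hq

/-- A component centralised by `D` gives a component of `Z`, with the same part in `A` and the same
centraliser in `A`. -/
theorem component_image {K : Subgroup X} (hK : Cfsg.IsComponent K)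
    (hn : ¬ A ≤ centralizer (K : Set X)) (hKY : K ≤ centralizer (D : Set X)) :
    Cfsg.IsComponent ((K.subgroupOf (centralizer (D : Set X))).map q) ∧
      (∀ a : centralizer (D : Set X), (a : X) ∈ A →
        (q a ∈ (K.subgroupOf (centralizer (D : Set X))).map q ↔ (a : X) ∈ K) ∧
        (q a ∈ centralizer ((K.subgroupOf (centralizer (D : Set X))).map q : Set Z) ↔
          (a : X) ∈ centralizer (K : Set X))) ∧
      ¬ (A.subgroupOf (centralizer (D : Set X))).map q ≤
        centralizer ((K.subgroupOf (centralizer (D : Set X))).map q : Set Z) := by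
  have hinj := restrict_injective hd hF hel hDA q hker hK hn hKY
  set K' := (K.subgroupOf (centralizer (D : Set X))).map q
  have hrange : (q.comp (inclusion hKY)).range = K' := by
    rw [MonoidHom.range_comp, Subgroup.inclusion_range]
  have hK' : Cfsg.IsComponent K' := ⟨hK.1.subgroupOf.map hq, Quasisimple.of_mulEquiv hK.2
    ((MonoidHom.ofInjective hinj).trans (MulEquiv.subgroupCongr hrange))⟩
  have hcen : ∀ k : X, ∀ hk : k ∈ K, k ≠ 1 → q ⟨k, hKY hk⟩ ∉ centralizer (K' : Set Z) := by
    intro k hk hk1 hc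
    refine hk1 (inf_centralizer hd hF hK hn hk (mem_centralizer_iff.2 fun y hy => ?_))
    have h1 := mem_centralizer_iff.1 hc (q ⟨y, hKY hy⟩) (mem_map_of_mem q (mem_subgroupOf.2 hy))
    have h2 : (q.comp (inclusion hKY)) (⟨y, hy⟩ * ⟨k, hk⟩) =
        (q.comp (inclusion hKY)) (⟨k, hk⟩ * ⟨y, hy⟩) := by
      simp only [map_mul, MonoidHom.comp_apply]
      exact h1
    exact congrArg Subtype.val (hinj h2)
  have hcc : ∀ {c : X} (hcY : c ∈ centralizer (D : Set X)), c ∈ centralizer (K : Set X) →
      q ⟨c, hcY⟩ ∈ centralizer (K' : Set Z) := by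
    intro c hcY hc
    refine mem_centralizer_iff.2 ?_
    rintro _ ⟨y, hy, rfl⟩
    rw [← map_mul, ← map_mul]
    exact congrArg q (Subtype.ext (mem_centralizer_iff.1 hc _ (mem_subgroupOf.1 hy)))
  have hAY := le_cent hel hDA
  have hsplit : ∀ a : centralizer (D : Set X), (a : X) ∈ A → ∃ k, ∃ hk : k ∈ A ⊓ K,
      ∃ c, ∃ hc : c ∈ A ⊓ centralizer (K : Set X), a = ⟨k, hAY hk.1⟩ * ⟨c, hAY hc.1⟩ := by
    intro a ha
    obtain ⟨k, hk, c, hc, e⟩ := exists_split hd hK ha
    exact ⟨k, hk, c, hc, Subtype.ext e⟩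
  refine ⟨hK', fun a ha => ?_, fun hle => ?_⟩
  · obtain ⟨k, hk, c, hc, rfl⟩ := hsplit a ha
    refine ⟨⟨fun h => ?_, fun h => mem_map_of_mem q (mem_subgroupOf.2 h)⟩,
      ⟨fun h => ?_, fun h => hcc _ h⟩⟩
    · have h1 : q ⟨c, hAY hc.1⟩ ∈ K' := by
        rw [map_mul] at h
        exact (mul_mem_cancel_left (mem_map_of_mem q (mem_subgroupOf.2 hk.2))).1 h
      obtain ⟨y, hy, hyc⟩ := h1
      have h2 := mem_of_eq hel hDA q hker (c := ⟨c, hAY hc.1⟩) (y := y) hc.1 (mem_subgroupOf.1 hy)
        (Subtype.ext (mem_centralizer_iff.1 hc.2 _ (mem_subgroupOf.1 hy)).symm) hyc.symm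
      exact mul_mem hk.2 h2
    · have h1 : q ⟨k, hKY hk.2⟩ ∈ centralizer (K' : Set Z) := by
        rw [map_mul] at h
        exact (mul_mem_cancel_right (hcc _ hc.2)).1 h
      have hk1 : k = 1 := by
        by_contra hne
        exact hcen k hk.2 hne h1
      show k * c ∈ _
      rw [hk1, one_mul]
      exact hc.2
  · obtain ⟨⟨k, hk⟩, hk1⟩ := Subgroup.ne_bot_iff_exists_ne_one.1
      (show A ⊓ K ≠ ⊥ from fun e => by
        have := four_le_inf hd hF hK hn
        rw [e, card_bot] at this; omega)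
    exact hcen k hk.2 (fun e => hk1 (Subtype.ext e))
      (hle (mem_map_of_mem q (x := ⟨k, hKY hk.2⟩) (mem_subgroupOf.2 hk.1)))

variable (hO : Cfsg.oddCore X = ⊥) (hOZ : Cfsg.oddCore Z = ⊥)
include hO hOZ

/-- A component of `Z` lies in the image of a component of `X`. -/
theorem exists_covering {K' : Subgroup Z} (hK' : Cfsg.IsComponent K') :
    ∃ K : Subgroup X, Cfsg.IsComponent K ∧
      K' ≤ (K.subgroupOf (centralizer (D : Set X))).map q := by
  classical
  haveI : Fact (Nat.Prime 2) := ⟨Nat.prime_two⟩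
  haveI : Fintype (Subgroup X) := Fintype.ofFinite _
  by_contra hno
  push Not at hno
  set U := centralizer (K' : Set Z)
  have hcomm : ∀ K : Subgroup X, Cfsg.IsComponent K →
      (K.subgroupOf (centralizer (D : Set X))).map q ≤ U := fun K hK =>
    commutator_eq_bot_iff_le_centralizer.1
      ((Component.le_or_commutator_eq_bot hK' (hK.1.subgroupOf.map hq)).resolve_left (hno K hK))
  -- the product of components
  have hall : ∀ s : Finset (Subgroup X), (∀ K ∈ s, Cfsg.IsComponent K) →
      ∀ e : centralizer (D : Set X), (e : X) ∈ s.sup id → q e ∈ U := by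
    intro s
    induction s using Finset.induction with
    | empty =>
      intro _ e he
      rw [Finset.sup_empty, mem_bot] at he
      rw [show e = 1 from Subtype.ext he, map_one]
      exact one_mem _
    | @insert K s hKs ih =>
      intro hs e he
      rw [Finset.sup_insert, id_eq] at he
      have hK := hs K (Finset.mem_insert_self K s)
      have hsc : s.sup id ≤ centralizer (K : Set X) := Finset.sup_le fun L hL =>
        Component.le_centralizer_of_ne (hs L (Finset.mem_insert_of_mem hL)) hK fun e => hKs (e ▸ hL)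
      obtain ⟨k, hk, c, hc, hkc⟩ := Coprime.exists_mul_of_mem_sup (A := K) (K := s.sup id)
        (fun k hk => mem_normalizer_iff.2 fun y => by
          have hyc : ∀ y ∈ s.sup id, k * y * k⁻¹ = y := fun y hy => by
            rw [mem_centralizer_iff.1 (hsc hy) k hk, mul_inv_cancel_right]
          refine ⟨fun hy => (hyc y hy).symm ▸ hy, fun hy => ?_⟩
          have h1 := hyc _ hy
          have h2 : k * y * k⁻¹ = y := mul_left_cancel (mul_right_cancel h1)
          rwa [h2] at hy) he
      have hkD : k ∈ centralizer (D : Set X) := by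
        refine mem_centralizer_iff.2 fun d hdD => ?_
        rcases hd.decomp.cases K hK with hAc | ⟨hknown, -⟩
        · exact (mem_centralizer_iff.1 (hAc (hDA hdD)) k hk).symm
        by_cases hAc : A ≤ centralizer (K : Set X)
        · exact (mem_centralizer_iff.1 (hAc (hDA hdD)) k hk).symm
        have hdK := hd.decomp.normal K hK (hDA hdD)
        have hkd : d * k * d⁻¹ ∈ K := (mem_normalizer_iff.1 hdK k).1 hk
        have hcd : d * c * d⁻¹ ∈ centralizer (K : Set X) :=
          (mem_normalizer_iff.1 (Balance.normalizer_le_normalizer_centralizer K hdK) c).1 (hsc hc)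
        have h1 : d * k * d⁻¹ * (d * c * d⁻¹) = k * c := by
          have h2 : d * (e : X) = (e : X) * d := mem_centralizer_iff.1 e.2 d hdD
          rw [hkc] at h2
          calc d * k * d⁻¹ * (d * c * d⁻¹) = d * (k * c) * d⁻¹ := by group
            _ = k * c := by rw [h2, mul_inv_cancel_right]
        have h3 : k⁻¹ * (d * k * d⁻¹) = c * (d * c * d⁻¹)⁻¹ := by
          calc k⁻¹ * (d * k * d⁻¹)
              = k⁻¹ * (d * k * d⁻¹ * (d * c * d⁻¹)) * (d * c * d⁻¹)⁻¹ := by group
            _ = c * (d * c * d⁻¹)⁻¹ := by rw [h1]; group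
        have h4 := inf_centralizer hd hF hK hAc (mul_mem (inv_mem hk) hkd)
          (h3 ▸ mul_mem (hsc hc) (inv_mem hcd))
        exact mul_inv_eq_iff_eq_mul.1 (inv_mul_eq_one.1 h4).symm
      have hcD : c ∈ centralizer (D : Set X) := by
        rw [show c = k⁻¹ * (e : X) by rw [hkc, inv_mul_cancel_left]]
        exact mul_mem (inv_mem hkD) e.2
      rw [show e = ⟨k, hkD⟩ * ⟨c, hcD⟩ from Subtype.ext hkc, map_mul]
      exact mul_mem (hcomm K hK (mem_map_of_mem q (mem_subgroupOf.2 hk)))
        (ih (fun L hL => hs L (Finset.mem_insert_of_mem hL)) ⟨c, hcD⟩ hc)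
  refine Component.not_le_centralizer_self hK' ?_
  refine ((Layer.component_le_layer hK').trans (layer_le_map q hq hker hOZ)).trans ?_
  rintro _ ⟨e, he, rfl⟩
  have heX : (e : X) ∈ Cfsg.layer X := by
    rw [← pLayer_eq_layer hO]
    exact Cfsg.Agent.S1301.result D ((PGroups.elemAb_isPGroup hel).to_le hDA) (mem_map_of_mem _ he)
  refine hall (Finset.univ.filter fun K => Cfsg.IsComponent K)
    (fun K hK => (Finset.mem_filter.1 hK).2) e ?_
  refine (sSup_le fun K hK => ?_ : Cfsg.layer X ≤ _) heX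
  exact Finset.le_sup (f := id) (Finset.mem_filter.2 ⟨Finset.mem_univ K, hK⟩)

/-- A component of `Z` not centralised by `A` is the image of a component centralised by `D`, or
comes from one of Janko–Ree type. -/
theorem exists_over (hdZ : GoodX ((A.subgroupOf (centralizer (D : Set X))).map q))
    {K' : Subgroup Z} (hK' : Cfsg.IsComponent K')
    (hn' : ¬ (A.subgroupOf (centralizer (D : Set X))).map q ≤ centralizer (K' : Set Z)) :
    ∃ K : Subgroup X, Cfsg.IsComponent K ∧ ¬ A ≤ centralizer (K : Set X) ∧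
      ((K ≤ centralizer (D : Set X) ∧ K' = (K.subgroupOf (centralizer (D : Set X))).map q) ∨
        (Nat.card ↥(A ⊓ K) = 8 ∧
          Nat.card ↥((A.subgroupOf (centralizer (D : Set X))).map q ⊓ K' : Subgroup Z) = 4 ∧
          ∀ a : centralizer (D : Set X), (a : X) ∈ A →
            (q a ∈ K' → (a : X) ∈ K) ∧
            ((a : X) ∈ centralizer (K : Set X) → q a ∈ centralizer (K' : Set Z)))) := by
  haveI : Fact (Nat.Prime 2) := ⟨Nat.prime_two⟩
  obtain ⟨K, hK, hle⟩ := exists_covering hd hF hel hDA q hq hker hO hOZ hK'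
  set N := (K.subgroupOf (centralizer (D : Set X))).map q with hN
  have hcc : ∀ a : centralizer (D : Set X), (a : X) ∈ centralizer (K : Set X) →
      q a ∈ centralizer (K' : Set Z) := by
    intro a ha
    refine mem_centralizer_iff.2 fun z hz => ?_
    obtain ⟨y, hy, rfl⟩ := hle hz
    rw [← map_mul, ← map_mul]
    exact congrArg q (Subtype.ext (mem_centralizer_iff.1 ha _ (mem_subgroupOf.1 hy)))
  have hn : ¬ A ≤ centralizer (K : Set X) := fun hAc => hn' (by
    rintro _ ⟨a, ha, rfl⟩
    exact hcc a (hAc (mem_subgroupOf.1 ha)))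
  refine ⟨K, hK, hn, ?_⟩
  by_cases hKY : K ≤ centralizer (D : Set X)
  · refine Or.inl ⟨hKY, ?_⟩
    obtain ⟨hKc, -, -⟩ := component_image hd hF hel hDA q hq hker hK hn hKY
    rcases Component.eq_or_commutator_eq_bot hK' hKc with h | h
    · exact h
    · exact absurd ((commutator_eq_bot_iff_le_centralizer.1 h).trans (centralizer_le hle))
        (Component.not_le_centralizer_self hK')
  right
  obtain ⟨d, hdD, hdK⟩ : ∃ d ∈ D, d ∉ centralizer (K : Set X) := by
    by_contra h
    push Not at h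
    exact hKY fun k hk => mem_centralizer_iff.2 fun d hdD =>
      (mem_centralizer_iff.1 (h d hdD) k hk).symm
  obtain ⟨k, hk, c, hc, hdkc⟩ := exists_split hd hK (hDA hdD)
  have hk1 : k ≠ 1 := fun h => hdK (by rw [hdkc, h, one_mul]; exact hc.2)
  have hcent : ∀ y : X, y ∈ centralizer (D : Set X) → y ∈ K → y * k = k * y := by
    intro y hy hyK
    have h1 : d * y = y * d := mem_centralizer_iff.1 hy d hdD
    have h2 : y * c = c * y := mem_centralizer_iff.1 hc.2 y hyK
    rw [hdkc] at h1
    have h3 : k * y * c = y * k * c := by rw [mul_assoc, h2, ← mul_assoc, h1, mul_assoc]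
    exact (mul_right_cancel h3).symm
  let φ : K.subgroupOf (centralizer (D : Set X)) →* centralizer ({(⟨k, hk.2⟩ : K)} : Set K) :=
    { toFun := fun y => ⟨⟨((y : centralizer (D : Set X)) : X), y.2⟩,
        mem_centralizer_singleton_iff.2
          (Subtype.ext (hcent _ (y : centralizer (D : Set X)).2 y.2))⟩
      map_one' := rfl
      map_mul' := fun _ _ => rfl }
  have hφ : Function.Injective φ := fun a b h =>
    Subtype.ext (Subtype.ext (congrArg (fun x : centralizer ({(⟨k, hk.2⟩ : K)} : Set K) =>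
      ((x : K) : X)) h))
  obtain ⟨hknown, P, hP⟩ := hd.known hK hn
  have hord : orderOf (⟨k, hk.2⟩ : K) = 2 := by
    rw [Subgroup.orderOf_mk]
    exact PGroups.elemAb_orderOf hel hk.1 hk1
  have hJR : IsJR K := by
    by_contra hno
    haveI := (hF _ hknown).solvable hno _ hord
    haveI : Group.IsSolvable (K.subgroupOf (centralizer (D : Set X))) :=
      Group.isSolvable_of_isSolvable_injective hφ
    haveI : Group.IsSolvable N :=
      Group.isSolvable_of_surjective (q.subgroupMap_surjective (K.subgroupOf (centralizer (D : Set X))))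
    exact Component.not_le_of_isSolvable hK' hle
  have h8 : Nat.card ↥(A ⊓ K) = 8 := by
    rw [hP, card_map_of_injective K.subtype_injective, ← hJR.card_sylow P]
    congr 1
    have hOm : Om P = (P : Subgroup K) := le_antisymm
      ((Subgroup.closure_le _).2 fun x hx => hx.1)
      fun x hx => Subgroup.subset_closure ⟨hx, by simpa using (hJR.elementary P).2 x hx⟩
    rw [hOm]
  have hAY := le_cent hel hDA
  have himp : ∀ a : centralizer (D : Set X), (a : X) ∈ A → q a ∈ K' → (a : X) ∈ K := by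
    intro a ha h
    obtain ⟨κ, hκ, γ, hγ, e⟩ := exists_split hd hK ha
    have hκN : q ⟨κ, hAY hκ.1⟩ ∈ N := mem_map_of_mem q (mem_subgroupOf.2 hκ.2)
    have ea : a = ⟨κ, hAY hκ.1⟩ * ⟨γ, hAY hγ.1⟩ := Subtype.ext e
    have hγN : q ⟨γ, hAY hγ.1⟩ ∈ N := by
      have h' := hle h
      rw [ea, map_mul] at h'
      exact (mul_mem_cancel_left hκN).1 h'
    obtain ⟨y, hy, hyq⟩ := hγN
    have h2 := mem_of_eq hel hDA q hker (c := ⟨γ, hAY hγ.1⟩) (y := y) hγ.1 (mem_subgroupOf.1 hy)
      (Subtype.ext (mem_centralizer_iff.1 hγ.2 _ (mem_subgroupOf.1 hy)).symm) hyq.symm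
    rw [e]
    exact mul_mem hκ.2 h2
  refine ⟨h8, ?_, fun a ha => ⟨himp a ha, hcc a⟩⟩
  set W := (A.subgroupOf (centralizer (D : Set X))).map q ⊓ K' with hW
  have h4 : 4 ≤ Nat.card W := four_le_inf hdZ hF hK' hn'
  set U := (A ⊓ K).subgroupOf (centralizer (D : Set X)) with hU
  have hWU : W ≤ U.map q := by
    rintro z ⟨⟨a, ha, rfl⟩, hz⟩
    exact mem_map_of_mem q (mem_subgroupOf.2
      ⟨mem_subgroupOf.1 ha, himp a (mem_subgroupOf.1 ha) hz⟩)
  have hU8 : Nat.card (U.map q) = 8 := by
    have hinj : Function.Injective (q.comp U.subtype) := (injective_iff_map_eq_one _).2 fun a ha =>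
      Subtype.ext (Subtype.ext (mem_bot.1 (mem_of_eq hel hDA q hker (H := ⊥) (c := a.1) (y := 1)
        (mem_subgroupOf.1 a.2).1 (one_mem _) (by simp) (by rw [map_one]; exact ha))))
    have hr : (q.comp U.subtype).range = U.map q := by rw [MonoidHom.range_comp, range_subtype]
    rw [← hr, ← Nat.card_congr (MonoidHom.ofInjective hinj).toEquiv, ← h8,
      Nat.card_congr (subgroupOfEquivOfLe (inf_le_left.trans hAY)).toEquiv]
  have hne : Nat.card W ≠ 8 := by
    intro h
    have heq : W = U.map q := eq_of_le_of_card_ge hWU (by rw [h, hU8])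
    have hkY : k ∈ centralizer (D : Set X) := hAY hk.1
    have hqk : q ⟨k, hkY⟩ ∈ K' := (heq.ge (mem_map_of_mem q (mem_subgroupOf.2 hk))).2
    have hkc : q ⟨k, hkY⟩ ∈ centralizer (K' : Set Z) := mem_centralizer_iff.2 fun z hz => by
      obtain ⟨y, hy, rfl⟩ := hle hz
      rw [← map_mul, ← map_mul]
      exact congrArg q (Subtype.ext (hcent _ y.2 (mem_subgroupOf.1 hy)))
    have h1 : q ⟨k, hkY⟩ = q 1 := by rw [map_one]; exact inf_centralizer hdZ hF hK' hn' hqk hkc
    exact hk1 (mem_bot.1 (mem_of_eq hel hDA q hker (H := ⊥) (c := ⟨k, hkY⟩) (y := 1) hk.1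
      (one_mem _) (by simp) h1))
  have hdvd : Nat.card W ∣ 8 := hU8 ▸ card_dvd_of_le hWU
  have hle8 := Nat.le_of_dvd (by norm_num) hdvd
  interval_cases Nat.card W <;> simp_all

end Step

end Cfsg.Agent.Lib.Goldschmidt53.Pairs
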