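import Cfsg.Agent.Lib.Goldschmidt53.PairsBar
import Cfsg.Agent.Lib.Goldschmidt53.PairsY
import Cfsg.Agent.Lib.Walter.Pairs

/-!
# Goldschmidt's theorem, section P: pairs form a pair system

helper34.  `pairs : PropFacts → PropLocal → PropNoCover → PropPairs`.
-/

set_option autoImplicit false
set_option linter.style.haveILetI false
set_option linter.unusedSectionVars false

universe u

namespace Cfsg.Agent.Lib.Goldschmidt53.Pairs

open Subgroup
open Cfsg.Agent.Lib.Walter (CBar liftBar coreC imageBar proj mem_liftBar proj_eq_one_iff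
  proj_surjective mem_imageBar centralizer_mono)

variable {G : Type u} [Group G] [Finite G] {S : Sylow 2 G} {A : Subgroup G}
  (h : Hyp S A) {B : Subgroup G} (hB : B ≤ A)
include h hB

theorem elem_image : Cfsg.IsElementaryAbelian 2 (imageBar B A) :=
  PGroups.elemAb_map _ (PGroups.elemAb_subgroupOf h.elem _)

theorem le_liftBar_iff {K : Subgroup (CBar B)} : A ≤ liftBar B K ↔ imageBar B A ≤ K := by
  refine ⟨fun hle => ?_, fun hle a ha =>
    mem_liftBar.2 ⟨le_centralizer h hB ha, hle (proj_mem_image h hB ha)⟩⟩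
  intro y hy
  obtain ⟨a, ha, haA, rfl⟩ := mem_image hB hy
  exact (mem_liftBar.1 (hle haA)).2

theorem good (hX : PropLocal.{u}) (hN : PropNoCover.{u}) (hB1 : B ≠ ⊥) :
    GoodX (imageBar B A) :=
  ⟨decomp h hB hX hB1, fun K hK hn =>
    hN G S A h B hB hB1 K hK fun hle => hn ((le_liftBar_iff h hB).1 hle)⟩

theorem card_trace (K : Subgroup (CBar B)) :
    Nat.card ↥(A ⊓ liftBar B K) = Nat.card ↥(imageBar B A ⊓ K) := by
  let φ : ↥(A ⊓ liftBar B K) → ↥(imageBar B A ⊓ K) := fun x =>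
    ⟨proj B ⟨x, le_centralizer h hB x.2.1⟩, proj_mem_image h hB x.2.1,
      (mem_liftBar_iff h hB x.2.1).1 x.2⟩
  refine Nat.card_congr (Equiv.ofBijective φ ⟨fun a b e => ?_, fun y => ?_⟩)
  · exact Subtype.ext (proj_injective h hB a.2.1 b.2.1 (congrArg Subtype.val e))
  · obtain ⟨x, hxC, hx, hxy⟩ := mem_image hB y.2.1
    exact ⟨⟨x, hx, mem_liftBar.2 ⟨hxC, hxy ▸ y.2.2⟩⟩, Subtype.ext hxy⟩

/-- Lifting of centralisers of subgroups of `A`. -/
theorem exists_lift {B' : Subgroup G} (hB' : B' ≤ A) {y : CBar B}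
    (hy : y ∈ centralizer (imageBar B B' : Set (CBar B))) :
    ∃ x : ↥(centralizer (B : Set G)), (x : G) ∈ centralizer (B' : Set G) ∧ proj B x = y := by
  haveI : Fact (Nat.Prime 2) := ⟨Nat.prime_two⟩
  obtain ⟨⟨x₀, hx₀⟩, rfl⟩ := proj_surjective B y
  have hB'C : B' ≤ centralizer (B : Set G) := hB'.trans (le_centralizer h hB)
  obtain ⟨j, hj⟩ := IsPGroup.iff_card.1 ((PGroups.elemAb_isPGroup h.elem).to_le hB')
  have hcop : (Nat.card ↥B').Coprime (Nat.card ↥(coreC B)) := by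
    rw [hj]
    exact (Nat.coprime_two_left.2 (Walter.odd_coreC B)).pow_left j
  obtain ⟨n, hn, hnx⟩ := Coprime.exists_fixed_mul (A := B') (N := coreC B)
    (hB'C.trans (Walter.centralizer_le_normalizer_coreC B)) hcop
    (Or.inr (OddOrder.FeitThompson.isSolvable_of_odd_card (Walter.odd_coreC B))) (k := x₀)
    fun a ha => by
      refine (proj_eq_one_iff (mul_mem (mul_mem (mul_mem (hB'C ha) hx₀) (inv_mem (hB'C ha)))
        (inv_mem hx₀))).1 ?_
      show proj B (⟨a, hB'C ha⟩ * ⟨x₀, hx₀⟩ * ⟨a, hB'C ha⟩⁻¹ * ⟨x₀, hx₀⟩⁻¹) = 1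
      rw [map_mul, map_mul, map_mul, map_inv, map_inv,
        mem_centralizer_iff.1 hy _ (mem_imageBar (hB'C ha) ha), mul_inv_cancel_right,
        mul_inv_cancel]
  refine ⟨⟨n, Walter.coreC_le B hn⟩ * ⟨x₀, hx₀⟩, hnx, ?_⟩
  rw [map_mul, (proj_eq_one_iff (Walter.coreC_le B hn)).2 hn, one_mul]

theorem pair_of_component (hB1 : B ≠ ⊥) {K : Subgroup (CBar B)} (hK : Cfsg.IsComponent K)
    (hn : ¬ imageBar B A ≤ centralizer (K : Set (CBar B))) :
    IsPair A B (A ⊓ liftBar B K) (A ⊓ liftBar B (centralizer (K : Set (CBar B)))) :=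
  ⟨hB, hB1, K, hK, fun hle => hn ((le_liftBar_iff h hB).1 hle), rfl, rfl⟩

section Step

variable {B' : Subgroup G} (hBB' : B ≤ B') (hB' : B' ≤ A)
include hBB' hB'

/-- The relation between `CBar B` and `CBar B'` for `B ≤ B'`. -/
theorem exists_step :
    ∃ q : ↥(centralizer (imageBar B B' : Set (CBar B))) →* CBar B',
      Function.Surjective q ∧ Odd (Nat.card q.ker) ∧
      (∀ (x : G) (hx : x ∈ centralizer (B' : Set G)),
        ∃ hy : proj B ⟨x, centralizer_mono hBB' hx⟩ ∈ centralizer (imageBar B B' : Set (CBar B)),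
          q ⟨_, hy⟩ = proj B' ⟨x, hx⟩) ∧
      ((imageBar B A).subgroupOf (centralizer (imageBar B B' : Set (CBar B)))).map q =
        imageBar B' A := by
  haveI : Fact (Nat.Prime 2) := ⟨Nat.prime_two⟩
  set f₀ : ↥(centralizer (B' : Set G)) →* CBar B :=
    (proj B).comp (inclusion (centralizer_mono hBB')) with hf₀
  have hmem : ∀ x, f₀ x ∈ centralizer (imageBar B B' : Set (CBar B)) := by
    intro x
    refine mem_centralizer_iff.2 ?_
    rintro _ ⟨b, hb, rfl⟩
    rw [hf₀, MonoidHom.comp_apply, ← map_mul, ← map_mul]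
    exact congrArg (proj B) (Subtype.ext (mem_centralizer_iff.1 x.2 _ (mem_subgroupOf.1 hb)))
  set f := f₀.codRestrict _ hmem with hf
  have hfs : Function.Surjective f := by
    rintro ⟨y, hy⟩
    obtain ⟨x, hx, hxy⟩ := exists_lift h hB hB' hy
    exact ⟨⟨x, hx⟩, Subtype.ext hxy⟩
  have hker : f.ker ≤ (proj B').ker := by
    rw [QuotientGroup.ker_mk']
    refine Cores.le_oddCore ?_
    have hinj : Function.Injective (inclusion (centralizer_mono hBB') :
        ↥(centralizer (B' : Set G)) →* ↥(centralizer (B : Set G))) := inclusion_injective _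
    have hle : f.ker.map (inclusion (centralizer_mono hBB')) ≤ (proj B).ker := by
      rintro _ ⟨x, hx, rfl⟩
      exact MonoidHom.mem_ker.2 (congrArg Subtype.val (MonoidHom.mem_ker.1 hx))
    refine Odd.of_dvd_nat ?_ ((card_map_of_injective hinj).symm ▸ card_dvd_of_le hle)
    rw [← Nat.not_even_iff_odd, even_iff_two_dvd]
    exact Walter.proj_ker_odd B
  set q := f.liftOfSurjective hfs ⟨proj B', hker⟩ with hqdef
  have hqf : ∀ x, q (f x) = proj B' x := fun x => f.liftOfRightInverse_comp_apply _ _ _ x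
  have hqx : ∀ (x : G) (hx : x ∈ centralizer (B' : Set G)),
      ∃ hy : proj B ⟨x, centralizer_mono hBB' hx⟩ ∈ centralizer (imageBar B B' : Set (CBar B)),
        q ⟨_, hy⟩ = proj B' ⟨x, hx⟩ := fun x hx => ⟨hmem ⟨x, hx⟩, hqf ⟨x, hx⟩⟩
  refine ⟨q, fun z => ?_, ?_, hqx, ?_⟩
  · obtain ⟨x, rfl⟩ := proj_surjective B' z
    exact ⟨f x, hqf x⟩
  · have hle : q.ker ≤ (proj B').ker.map f := by
      intro y hy
      obtain ⟨x, rfl⟩ := hfs y
      exact mem_map_of_mem f (MonoidHom.mem_ker.2 ((hqf x).symm.trans (MonoidHom.mem_ker.1 hy)))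
    refine Odd.of_dvd_nat ?_ ((card_dvd_of_le hle).trans (card_map_dvd _ _))
    rw [← Nat.not_even_iff_odd, even_iff_two_dvd]
    exact Walter.proj_ker_odd B'
  · refine SetLike.ext fun z => ⟨?_, fun hz => ?_⟩
    · rintro ⟨y, hy, rfl⟩
      obtain ⟨a, haC, ha, hay⟩ := mem_image hB (mem_subgroupOf.1 hy)
      obtain ⟨hy', e⟩ := hqx a (le_centralizer h hB' ha)
      rw [show y = ⟨_, hy'⟩ from Subtype.ext hay.symm, e]
      exact proj_mem_image h hB' ha
    · obtain ⟨a, haC, ha, rfl⟩ := mem_image hB' hz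
      obtain ⟨hy', e⟩ := hqx a haC
      exact ⟨⟨_, hy'⟩, mem_subgroupOf.2 (proj_mem_image h hB ha), e⟩

theorem imageBar_le : imageBar B B' ≤ imageBar B A :=
  map_mono fun _ hx => mem_subgroupOf.2 (hB' (mem_subgroupOf.1 hx))

/-- Pairs go up. -/
theorem pair_up (hF : PropFacts.{u}) (hX : PropLocal.{u}) (hN : PropNoCover.{u}) (hB1 : B ≠ ⊥) (hB1' : B' ≠ ⊥)
    {K : Subgroup (CBar B)} (hK : Cfsg.IsComponent K)
    (hn : ¬ imageBar B A ≤ centralizer (K : Set (CBar B)))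
    (hle : B' ≤ liftBar B (centralizer (K : Set (CBar B)))) :
    IsPair A B' (A ⊓ liftBar B K) (A ⊓ liftBar B (centralizer (K : Set (CBar B)))) := by
  obtain ⟨q, hq, hker, hqx, hAq⟩ := exists_step h hB hBB' hB'
  have hKY : K ≤ centralizer (imageBar B B' : Set (CBar B)) := by
    intro y hy
    refine mem_centralizer_iff.2 ?_
    rintro _ ⟨b, hb, rfl⟩
    obtain ⟨hb', hbK⟩ := mem_liftBar.1 (hle (mem_subgroupOf.1 hb))
    exact (mem_centralizer_iff.1 hbK y hy).symm
  obtain ⟨hK', himg, hn'⟩ := component_image (good h hB hX hN hB1) hF (elem_image h hB)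
    (imageBar_le h hB hBB' hB') q hq hker hK hn hKY
  rw [hAq] at hn'
  refine ⟨hB', hB1', _, hK', fun hle' => hn' ((le_liftBar_iff h hB').1 hle'), ?_, ?_⟩
  all_goals
    ext x
    by_cases hx : x ∈ A
    swap
    · exact iff_of_false (fun h => hx h.1) (fun h => hx h.1)
    rw [mem_liftBar_iff h hB hx, mem_liftBar_iff h hB' hx]
    obtain ⟨hy, hxy⟩ := hqx x (le_centralizer h hB' hx)
    rw [← hxy]
  · exact ((himg ⟨_, hy⟩ (proj_mem_image h hB hx)).1).symm
  · exact ((himg ⟨_, hy⟩ (proj_mem_image h hB hx)).2).symm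

/-- Pairs go down. -/
theorem pair_down (hF : PropFacts.{u}) (hX : PropLocal.{u}) (hN : PropNoCover.{u}) (hB1 : B ≠ ⊥)
    {K' : Subgroup (CBar B')} (hK' : Cfsg.IsComponent K')
    (hn' : ¬ imageBar B' A ≤ centralizer (K' : Set (CBar B'))) :
    ∃ W Q, IsPair A B W Q ∧ A ⊓ liftBar B' K' ≤ W ∧
      Q ≤ A ⊓ liftBar B' (centralizer (K' : Set (CBar B'))) ∧
      (A ⊓ liftBar B' K' = W ∧ A ⊓ liftBar B' (centralizer (K' : Set (CBar B'))) = Q ∨
        Nat.card ↥(A ⊓ liftBar B' K') = 4 ∧ Nat.card W = 8) := by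
  obtain ⟨q, hq, hker, hqx, hAq⟩ := exists_step h hB hBB' hB'
  have hd := good h hB hX hN hB1
  have hel := elem_image h hB
  have hD := imageBar_le h hB hBB' hB'
  have hB1' : B' ≠ ⊥ := fun e => hB1 (le_bot_iff.1 (e ▸ hBB'))
  obtain ⟨K, hK, hn, hcase⟩ := exists_over hd hF hel hD q hq hker (Walter.barCore B)
    (Walter.barCore B') (hAq.symm ▸ good h hB' hX hN hB1') hK' (hAq.symm ▸ hn')
  refine ⟨_, _, pair_of_component h hB hB1 hK hn, ?_⟩
  rcases hcase with ⟨hKY, rfl⟩ | ⟨h8, h4, himg⟩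
  · obtain ⟨-, himg, -⟩ := component_image hd hF hel hD q hq hker hK hn hKY
    have e : A ⊓ liftBar B' ((K.subgroupOf _).map q) = A ⊓ liftBar B K ∧
        A ⊓ liftBar B' (centralizer ((K.subgroupOf _).map q : Set (CBar B'))) =
          A ⊓ liftBar B (centralizer (K : Set (CBar B))) := by
      constructor
      all_goals
        ext x
        by_cases hx : x ∈ A
        swap
        · exact iff_of_false (fun h => hx h.1) (fun h => hx h.1)
        rw [mem_liftBar_iff h hB hx, mem_liftBar_iff h hB' hx]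
        obtain ⟨hy, hxy⟩ := hqx x (le_centralizer h hB' hx)
        rw [← hxy]
      · exact (himg ⟨_, hy⟩ (proj_mem_image h hB hx)).1
      · exact (himg ⟨_, hy⟩ (proj_mem_image h hB hx)).2
    exact ⟨e.1.le, e.2.ge, Or.inl e⟩
  · have key : ∀ x, ∀ hx : x ∈ A,
        (proj B' ⟨x, le_centralizer h hB' hx⟩ ∈ K' →
          proj B ⟨x, le_centralizer h hB hx⟩ ∈ K) ∧
        (proj B ⟨x, le_centralizer h hB hx⟩ ∈ centralizer (K : Set (CBar B)) →
          proj B' ⟨x, le_centralizer h hB' hx⟩ ∈ centralizer (K' : Set (CBar B'))) := by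
      intro x hx
      obtain ⟨hy, hxy⟩ := hqx x (le_centralizer h hB' hx)
      rw [← hxy]
      exact himg ⟨_, hy⟩ (proj_mem_image h hB hx)
    refine ⟨fun x hx => (mem_liftBar_iff h hB hx.1).2
        ((key x hx.1).1 ((mem_liftBar_iff h hB' hx.1).1 hx)),
      fun x hx => (mem_liftBar_iff h hB' hx.1).2
        ((key x hx.1).2 ((mem_liftBar_iff h hB hx.1).1 hx)),
      Or.inr ⟨?_, ?_⟩⟩
    · rw [card_trace h hB', ← hAq, h4]
    · rw [card_trace h hB, h8]

end Step

theorem pair_span (hX : PropLocal.{u}) (hN : PropNoCover.{u}) (hB1 : B ≠ ⊥) {K : Subgroup (CBar B)}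
    (hK : Cfsg.IsComponent K) :
    (A ⊓ liftBar B K) ⊔ (A ⊓ liftBar B (centralizer (K : Set (CBar B)))) = A := by
  refine le_antisymm (sup_le inf_le_left inf_le_left) fun x hx => ?_
  obtain ⟨k, hk, c, hc, he⟩ := exists_split (good h hB hX hN hB1) hK (proj_mem_image h hB hx)
  obtain ⟨a, haC, haA, rfl⟩ := mem_image hB hk.1
  have hd : a⁻¹ * x ∈ A := mul_mem (inv_mem haA) hx
  rw [show x = a * (a⁻¹ * x) by group]
  refine mul_mem (mem_sup_left ⟨haA, mem_liftBar.2 ⟨haC, hk.2⟩⟩)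
    (mem_sup_right ((mem_liftBar_iff h hB hd).2 ?_))
  have e : (⟨a⁻¹ * x, le_centralizer h hB hd⟩ : ↥(centralizer (B : Set G))) =
      ⟨a, haC⟩⁻¹ * ⟨x, le_centralizer h hB hx⟩ := rfl
  rw [e, map_mul, map_inv, he, inv_mul_cancel_left]
  exact hc.2

theorem pair_torus (hF : PropFacts.{u}) (hX : PropLocal.{u}) (hN : PropNoCover.{u}) (hB1 : B ≠ ⊥)
    {K : Subgroup (CBar B)} (hK : Cfsg.IsComponent K)
    (hn : ¬ imageBar B A ≤ centralizer (K : Set (CBar B))) :
    ∃ n ∈ normalizer (A : Set G), Odd (orderOf n) ∧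
      (∀ q ∈ A ⊓ liftBar B (centralizer (K : Set (CBar B))), n * q * n⁻¹ = q) ∧
      (∀ w ∈ A ⊓ liftBar B K, n * w * n⁻¹ ∈ A ⊓ liftBar B K) ∧
      ∀ x ∈ A ⊓ liftBar B K, x ≠ 1 → ∀ y ∈ A ⊓ liftBar B K, y ≠ 1 →
        ∃ k : ℕ, n ^ k * x * (n ^ k)⁻¹ = y := by
  haveI : Fact (Nat.Prime 2) := ⟨Nat.prime_two⟩
  obtain ⟨ν, hνK, hνN, hodd, htr⟩ := exists_torus (good h hB hX hN hB1) hF hK hn
  set C := centralizer (B : Set G)
  have hAC : A ≤ C := le_centralizer h hB
  obtain ⟨m, hm, hmν⟩ : ν ∈ (normalizer (A.subgroupOf C : Set ↥C)).map (proj B) := by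
    rw [Balance.map_normalizer_eq (proj_surjective B) (Walter.proj_ker_odd B)
      (PGroups.elemAb_isPGroup (PGroups.elemAb_subgroupOf h.elem C))]
    exact hνN
  have hm' : (m : G) ∈ normalizer (A : Set G) := by
    refine mem_normalizer_iff.2 fun s => ⟨fun hs => ?_, fun hs => ?_⟩
    · simpa [mem_subgroupOf] using (mem_normalizer_iff.1 hm ⟨s, hAC hs⟩).1 (mem_subgroupOf.2 hs)
    · have hsC : s ∈ C := by
        rw [show s = (m : G)⁻¹ * ((m : G) * s * (m : G)⁻¹) * m by group]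
        exact mul_mem (mul_mem (inv_mem m.2) (hAC hs)) m.2
      simpa [mem_subgroupOf] using (mem_normalizer_iff.1 hm ⟨s, hsC⟩).2 (mem_subgroupOf.2 hs)
  -- a power of `m` of odd order over `ν`
  obtain ⟨a, r, hr, har⟩ := Nat.exists_eq_pow_mul_and_not_dvd (orderOf_pos m).ne' 2 (by norm_num)
  set e := (2 ^ a) ^ Nat.totient (orderOf ν) with he
  have hme : Odd (orderOf ((m ^ e : ↥C) : G)) := by
    rw [Subgroup.orderOf_coe]
    refine (Nat.not_even_iff_odd.1 fun h2 => hr (even_iff_two_dvd.1 h2)).of_dvd_nat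
      (orderOf_dvd_of_pow_eq_one ?_)
    rw [← pow_mul]
    refine orderOf_dvd_iff_pow_eq_one.1 (har ▸ mul_dvd_mul_right (dvd_pow_self _ ?_) r)
    exact (Nat.totient_pos.2 (orderOf_pos ν)).ne'
  have hνe : proj B (m ^ e) = ν := by
    rw [map_pow, hmν]
    conv_rhs => rw [← pow_one ν]
    exact pow_eq_pow_iff_modEq.2
      (Nat.ModEq.pow_totient ((Nat.coprime_two_left.2 hodd).pow_left a))
  set n : ↥C := m ^ e with hndef
  have hn' : (n : G) ∈ normalizer (A : Set G) := by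
    rw [hndef, SubmonoidClass.coe_pow]; exact pow_mem hm' e
  have hconj : ∀ (k : ℕ) {x : G} (hx : x ∈ A),
      ∃ h' : (n : G) ^ k * x * ((n : G) ^ k)⁻¹ ∈ A,
      proj B ⟨_, le_centralizer h hB h'⟩ =
        ν ^ k * proj B ⟨x, le_centralizer h hB hx⟩ * (ν ^ k)⁻¹ := by
    intro k x hx
    refine ⟨(mem_normalizer_iff.1 (pow_mem hn' k) x).1 hx, ?_⟩
    rw [← hνe, ← map_pow, ← map_inv, ← map_mul, ← map_mul]
    exact congrArg (proj B) (Subtype.ext (by simp))
  refine ⟨n, hn', hme, fun x hx => ?_, fun x hx => ?_, fun x hx hx1 y hy hy1 => ?_⟩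
  · obtain ⟨h', he'⟩ := hconj 1 hx.1
    simp only [pow_one] at h' he'
    refine proj_injective h hB h' hx.1 (he'.trans ?_)
    rw [mem_centralizer_iff.1 ((mem_liftBar_iff h hB hx.1).1 hx) ν hνK, mul_inv_cancel_right]
  · obtain ⟨h', he'⟩ := hconj 1 hx.1
    simp only [pow_one] at h' he'
    refine (mem_liftBar_iff h hB h').2 ?_
    rw [he']
    exact mul_mem (mul_mem hνK ((mem_liftBar_iff h hB hx.1).1 hx)) (inv_mem hνK)
  · have hne : ∀ z (hz : z ∈ A), z ≠ 1 → proj B ⟨z, le_centralizer h hB hz⟩ ≠ 1 :=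
      fun z hz hz1 h' => hz1 (eq_one_of_mem_core h hz ((proj_eq_one_iff _).1 h'))
    obtain ⟨k, hk⟩ := htr _ ⟨proj_mem_image h hB hx.1, (mem_liftBar_iff h hB hx.1).1 hx⟩
      (hne x hx.1 hx1) _ ⟨proj_mem_image h hB hy.1, (mem_liftBar_iff h hB hy.1).1 hy⟩
      (hne y hy.1 hy1)
    obtain ⟨h', he'⟩ := hconj k hx.1
    exact ⟨k, proj_injective h hB h' hy.1 (he'.trans hk)⟩

omit h hB in
theorem pair_conj {n : G} (hn : n ∈ normalizer (A : Set G)) {B W Q : Subgroup G}
    (hP : IsPair A B W Q) :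
    IsPair A (B.map (MulAut.conj n).toMonoidHom) (W.map (MulAut.conj n).toMonoidHom)
      (Q.map (MulAut.conj n).toMonoidHom) := by
  obtain ⟨hB, hB1, K, hK, hnK, rfl, rfl⟩ := hP
  set g : G →* G := (MulAut.conj n).toMonoidHom with hg
  set C := centralizer (B : Set G) with hC
  have hA : A.map g = A := mem_normalizer_iff_map_conj_eq.1 hn
  have hCmap : C.map g = centralizer ((B.map g : Subgroup G) : Set G) :=
    Walter.map_centralizer_equiv (MulAut.conj n) B
  let c : ↥C ≃* ↥(centralizer ((B.map g : Subgroup G) : Set G)) :=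
    (C.equivMapOfInjective g (MulAut.conj n).injective).trans (MulEquiv.subgroupCongr hCmap)
  let e : CBar B ≃* CBar (B.map g) :=
    QuotientGroup.congr _ _ c (Cores.map_pPrimeCore_equiv c)
  have hce : ∀ x : ↥C, proj (B.map g) (c x) = e (proj B x) := fun x => rfl
  have hlift : ∀ L : Subgroup (CBar B),
      (liftBar B L).map g = liftBar (B.map g) (L.map e.toMonoidHom) := by
    intro L
    ext x
    constructor
    · rintro ⟨_, ⟨a, ha, rfl⟩, rfl⟩
      exact ⟨c a, mem_comap.2 ⟨proj B a, ha, (hce a).symm⟩, rfl⟩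
    · rintro ⟨y, hy, rfl⟩
      obtain ⟨a, rfl⟩ := c.surjective y
      obtain ⟨b, hb, hbe⟩ := mem_comap.1 hy
      refine ⟨(a : G), ⟨a, ?_, rfl⟩, rfl⟩
      obtain rfl := e.injective (hbe.trans (hce a))
      exact hb
  have hinj : Function.Injective g := (MulAut.conj n).injective
  refine ⟨(map_mono hB).trans hA.le, fun h => hB1 ((map_eq_bot_iff_of_injective _ hinj).1 h),
    K.map e.toMonoidHom, Components.Component.map_equiv e hK, fun hle => hnK ?_, ?_, ?_⟩
  · rw [← Walter.map_centralizer_equiv e, ← hlift, ← hA] at hle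
    exact (map_le_map_iff_of_injective hinj).1 hle
  · rw [map_inf _ _ _ hinj, hA, hlift]
  · rw [map_inf _ _ _ hinj, hA, hlift, Walter.map_centralizer_equiv e]

omit h hB in
/-- Section P. -/
theorem pairs (hF : PropFacts.{u}) (hX : PropLocal.{u}) (hN : PropNoCover.{u}) : PropPairs.{u} := by
  intro G _ _ S A h
  have hnot : ∀ {B : Subgroup G} (hB : B ≤ A) {K : Subgroup (CBar B)},
      ¬ A ≤ liftBar B (centralizer (K : Set (CBar B))) →
      ¬ imageBar B A ≤ centralizer (K : Set (CBar B)) :=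
    fun hB _ hn hle => hn ((le_liftBar_iff h hB).2 hle)
  refine ⟨?_, fun B W Q hP => hP.2.1, ?_, ?_, ?_, ?_, ?_, ?_, ?_, ?_, ?_, ?_, ?_⟩
  · rintro B W Q ⟨hB, hB1, K, hK, hn, rfl, rfl⟩ b hb
    refine (mem_liftBar_iff h hB (hB hb)).2 (mem_centralizer_iff.2 fun k _ => ?_)
    obtain ⟨x, rfl⟩ := proj_surjective B k
    rw [← map_mul, ← map_mul]
    exact congrArg (proj B) (Subtype.ext (mem_centralizer_iff.1 x.2 b hb).symm)
  · rintro B W Q ⟨hB, hB1, K, hK, hn, rfl, rfl⟩; exact inf_le_left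
  · rintro B W Q ⟨hB, hB1, K, hK, hn, rfl, rfl⟩; exact inf_le_left
  · rintro B W Q ⟨hB, hB1, K, hK, hn, rfl, rfl⟩
    refine (eq_bot_iff_forall _).2 fun x hx => ?_
    have h1 := inf_centralizer (good h hB hX hN hB1) hF hK (hnot hB hn)
      ((mem_liftBar_iff h hB hx.1.1).1 hx.1) ((mem_liftBar_iff h hB hx.1.1).1 hx.2)
    exact eq_one_of_mem_core h hx.1.1 ((proj_eq_one_iff _).1 h1)
  · rintro B W Q ⟨hB, hB1, K, hK, hn, rfl, rfl⟩; exact pair_span h hB hX hN hB1 hK
  · rintro B W Q ⟨hB, hB1, K, hK, hn, rfl, rfl⟩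
    rw [card_trace h hB]
    exact four_le_inf (good h hB hX hN hB1) hF hK (hnot hB hn)
  · rintro B W Q Q' ⟨hB, hB1, K, hK, hn, rfl, rfl⟩ ⟨-, -, K', hK', hn', hW, rfl⟩
    have hd := good h hB hX hN hB1
    have hKK : K = K' := by
      by_contra hne
      have h4 := four_le_inf hd hF hK (hnot hB hn)
      rw [← card_trace h hB] at h4
      have hbot : A ⊓ liftBar B K = ⊥ := by
        refine (eq_bot_iff_forall _).2 fun x hx => ?_
        have h1 := (mem_liftBar_iff h hB hx.1).1 hx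
        have h2 := (mem_liftBar_iff h hB hx.1).1 (hW ▸ hx)
        have h3 := inf_centralizer hd hF hK' (hnot hB hn') h2
          (Components.Component.le_centralizer_of_ne hK hK' hne h1)
        exact eq_one_of_mem_core h hx.1 ((proj_eq_one_iff _).1 h3)
      rw [hbot, card_bot] at h4
      omega
    rw [hKK]
  · rintro B W Q W' Q' ⟨hB, hB1, K, hK, hn, rfl, rfl⟩ ⟨-, -, K', hK', hn', rfl, rfl⟩ hne x hx
    refine (mem_liftBar_iff h hB hx.1).2 ?_
    exact Components.Component.le_centralizer_of_ne hK' hK (fun e => hne (by rw [e]))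
      ((mem_liftBar_iff h hB hx.1).1 hx)
  · rintro B B' W Q ⟨hB, hB1, K, hK, hn, rfl, rfl⟩ hBB' hB'
    exact pair_up h hB hBB' (hB'.trans inf_le_left) hF hX hN hB1
      (fun e => hB1 (le_bot_iff.1 (e ▸ hBB'))) hK (hnot hB hn) (hB'.trans inf_le_right)
  · rintro B B' W' Q' ⟨hB', hB1', K', hK', hn', rfl, rfl⟩ hBB' hB1
    exact pair_down h (hBB'.trans hB') hBB' hB' hF hX hN hB1 hK' (hnot hB' hn')
  · rintro B W Q ⟨hB, hB1, K, hK, hn, rfl, rfl⟩
    exact pair_torus h hB hF hX hN hB1 hK (hnot hB hn)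
  · exact fun n hn B W Q hP => pair_conj hn hP

end Cfsg.Agent.Lib.Goldschmidt53.Pairs
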