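import Cfsg.Agent.Lib.Goldschmidt53.NoCover.Data
import Cfsg.Agent.Lib.Goldschmidt53.NoCover.Down
import Cfsg.Agent.Lib.Goldschmidt53.Pairs

/-!
# Section C: no component with non-trivial centre is moved by `A`

`noCover : PropBase → PropFacts → PropLocal → PropNoCover`.  Such a component gives one, `M`, in the
centraliser of an involution `z ∈ B`.  The Sylow subgroup of `M` induces on `A` a group `E` of order
8, every non-trivial element having the same commutator group `Z₁`, of order at most 4, inside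
`Q = A ∩ C(M)`; an element of `N(A) ∩ C(z)` with such small commutator group has it in `Q`.  By
irreducibility a conjugate `Z₁^g` is not in `Q`; some non-trivial element of `E^g` centralises `z`:
contradiction.
Owner: helper1.
-/

set_option autoImplicit false
set_option linter.style.haveILetI false

universe u

namespace Cfsg.Agent.Lib.Goldschmidt53.NoCover

open Subgroup
open Cfsg.Agent.Lib.Walter (CBar liftBar imageBar proj mem_liftBar proj_surjective mem_imageBar)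

variable {G : Type u} [Group G] [Finite G] {S : Sylow 2 G} {A B : Subgroup G}

theorem mem_normalizer_of_map_le {X : Type*} [Group X] [Finite X] {H : Subgroup X} {g : X}
    (h : H.map (MulAut.conj g).toMonoidHom ≤ H) : g ∈ normalizer (H : Set X) :=
  mem_normalizer_iff_map_conj_eq.2
    (eq_of_le_of_card_ge h (card_map_of_injective (MulAut.conj g).injective).ge)

/-- A Sylow subgroup of `CBar B` in which the image of `A` is strongly closed. -/
theorem exists_closed (h : Hyp S A) (hB : B ≤ A) :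
    ∃ T : Sylow 2 (CBar B), Cfsg.IsStronglyClosed (imageBar B A) (T : Subgroup (CBar B)) := by
  haveI : Fact (Nat.Prime 2) := ⟨Nat.prime_two⟩
  set C := centralizer (B : Set G)
  have hAC : A ≤ C := Pairs.le_centralizer h hB
  obtain ⟨T, hT⟩ := ((PGroups.elemAb_isPGroup h.elem).of_equiv
    (subgroupOfEquivOfLe hAC).symm : IsPGroup 2 ↥(A.subgroupOf C)).exists_le_sylow
  obtain ⟨U, hU⟩ := (T.2.map C.subtype).exists_le_sylow
  have hclU := Pairs.closed_of_le h (U := U) fun a ha =>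
    hU ⟨⟨a, hAC ha⟩, hT (mem_subgroupOf.2 ha), rfl⟩
  have hclT : Cfsg.IsStronglyClosed (A.subgroupOf C) (T : Subgroup C) := ⟨hT, fun x hx k hk =>
    mem_subgroupOf.2 (hclU.2 x (mem_subgroupOf.1 hx) k (hU (mem_map_of_mem C.subtype hk)))⟩
  refine ⟨T.mapSurjective (proj_surjective B), ?_⟩
  rw [Sylow.coe_mapSurjective]
  exact Cfsg.Agent.S1250.result T _ hclT _

/-- A moved component with non-trivial centre gives one in the centraliser of any involution of
`B`. -/
theorem exists_single (h : Hyp S A) (hF : PropFacts.{u}) (hX : PropLocal.{u}) (hB : B ≤ A)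
    (hB1 : B ≠ ⊥) {K : Subgroup (CBar B)} (hK : Cfsg.IsComponent K)
    (hnc : ¬ imageBar B A ≤ centralizer (K : Set (CBar B))) (hne : Subgroup.center ↥K ≠ ⊥)
    {z : G} (hz : z ∈ B) (hz1 : z ≠ 1) :
    ∃ M : Subgroup (CBar (zpowers z)), Cfsg.IsComponent M ∧
      ¬ imageBar (zpowers z) A ≤ centralizer (M : Set (CBar (zpowers z))) ∧
      Subgroup.center ↥M ≠ ⊥ := by
  obtain ⟨T, hT⟩ := exists_closed h hB
  obtain ⟨P, hP, -⟩ := exists_isCover hF (Walter.barCore B) (Pairs.elem_image h hB)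
    (Pairs.decomp h hB hX hB1) hK hnc hne T hT.1
  have hzB : zpowers z ≤ B := zpowers_le.2 hz
  have hzA : zpowers z ≤ A := hzB.trans hB
  obtain ⟨q, hq, hker, -, himg⟩ := Pairs.exists_step h hzA hzB hB
  refine exists_down hF (Walter.barCore _) (Pairs.elem_image h hzA)
    (Pairs.decomp h hzA hX fun e => hz1 (zpowers_eq_bot.1 e))
    (Pairs.imageBar_le h hzA hzB hB) q hq hker (Walter.barCore B) hK ?_ hne
    (hP.card_sylow ▸ Subgroup.card_subgroup_dvd_card _)
  rw [himg]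
  exact hnc

end Cfsg.Agent.Lib.Goldschmidt53.NoCover

namespace Cfsg.Agent.Lib.Goldschmidt53

open Subgroup
open Cfsg.Agent.Lib.Walter (CBar liftBar imageBar proj mem_liftBar proj_surjective mem_imageBar
  proj_ker_odd card_imageBar_dvd)

/-- Section C. -/
theorem noCover (hBase : PropBase.{u}) (hF : PropFacts.{u}) (hX : PropLocal.{u}) :
    PropNoCover.{u} := by
  intro G _ _ S A h B hB hB1 K hK hnc
  by_contra hne
  haveI : Fact (Nat.Prime 2) := ⟨Nat.prime_two⟩
  obtain ⟨⟨z, hz⟩, hz'⟩ := Subgroup.ne_bot_iff_exists_ne_one.1 hB1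
  have hz1 : z ≠ 1 := fun e => hz' (Subtype.ext e)
  obtain ⟨M, hM, hMnc, hMne⟩ := NoCover.exists_single h hF hX hB hB1 hK
    (fun hle => hnc ((Pairs.le_liftBar_iff h hB).2 hle)) hne hz hz1
  have hzA : zpowers z ≤ A := zpowers_le.2 (hB hz)
  have hD := Pairs.decomp h hzA hX fun e => hz1 (zpowers_eq_bot.1 e)
  have hel := Pairs.elem_image h hzA
  obtain ⟨T, hT⟩ := NoCover.exists_closed h hzA
  obtain ⟨P, hP, hPT⟩ := NoCover.exists_isCover hF (Walter.barCore _) hel hD hM hMnc hMne T hT.1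
  obtain ⟨Zb, hZne, hZle, hZ4, hbig, hEb⟩ :=
    NoCover.Setup.exists_action ⟨hel, hD, hT, hP, hPT⟩
  set C := centralizer (zpowers z : Set G)
  have hAC : A ≤ C := Pairs.le_centralizer h hzA
  have hproj : ∀ {a : G} (ha : a ∈ A), proj (zpowers z) ⟨a, hAC ha⟩ ∈ imageBar (zpowers z) A :=
    fun ha => Pairs.proj_mem_image h hzA ha
  -- elements of `N(A) ∩ C(z)` and their images
  have himage : ∀ n (hn : n ∈ normalizer (A : Set G)) (hnC : n ∈ C) a (ha : a ∈ A),
      proj (zpowers z) ⟨n * a * n⁻¹ * a⁻¹, mul_mem (hAC (NoCover.conj_normalizer hn ha))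
          (inv_mem (hAC ha))⟩ =
        NoCover.cm (proj (zpowers z) ⟨n, hnC⟩) (proj (zpowers z) ⟨a, hAC ha⟩) := by
    intro n hn hnC a ha
    rw [show (⟨n * a * n⁻¹ * a⁻¹, _⟩ : ↥C) = ⟨n, hnC⟩ * ⟨a, hAC ha⟩ * ⟨n, hnC⟩⁻¹ * ⟨a, hAC ha⟩⁻¹
      from rfl, map_mul, map_mul, map_mul, map_inv, map_inv]
  set Q := A ⊓ liftBar (zpowers z) (centralizer (M : Set (CBar (zpowers z))))
  set Z₁ := A ⊓ liftBar (zpowers z) Zb
  -- the rule
  have rule : ∀ n ∈ normalizer (A : Set G), n * z * n⁻¹ = z →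
      (∀ a ∈ A, n * n * a * (n * n)⁻¹ = a) → ∀ Z' : Subgroup G, Nat.card Z' ≤ 4 →
      (∀ a ∈ A, n * a * n⁻¹ * a⁻¹ ∈ Z') → ∀ a ∈ A, n * a * n⁻¹ * a⁻¹ ∈ Q := by
    intro n hn hnz hsq Z' hZ' hcomm a ha
    have hnC : n ∈ C := by
      show n ∈ centralizer (zpowers z : Set G)
      rw [Walter.centralizer_zpowers]
      exact mem_centralizer_singleton_iff.2 (mul_inv_eq_iff_eq_mul.1 hnz)
    refine ⟨A.mul_mem (NoCover.conj_normalizer hn ha) (A.inv_mem ha),
      mem_liftBar.2 ⟨mul_mem (hAC (NoCover.conj_normalizer hn ha)) (inv_mem (hAC ha)), ?_⟩⟩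
    rw [himage n hn hnC a ha]
    refine NoCover.rule hD hP ?_ ?_ (Z' := imageBar (zpowers z) Z')
      ((Nat.le_of_dvd Nat.card_pos card_imageBar_dvd).trans hZ') ?_ (hproj ha)
    · refine NoCover.mem_normalizer_of_map_le ?_
      rintro _ ⟨_, hy, rfl⟩
      obtain ⟨b, hbC, hb, rfl⟩ := Pairs.mem_image hzA hy
      show proj (zpowers z) ⟨n, hnC⟩ * proj (zpowers z) ⟨b, hbC⟩ *
        (proj (zpowers z) ⟨n, hnC⟩)⁻¹ ∈ _
      rw [← map_inv, ← map_mul, ← map_mul]
      exact mem_imageBar _ (NoCover.conj_normalizer hn hb)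
    · intro y hy
      obtain ⟨b, hbC, hb, rfl⟩ := Pairs.mem_image hzA hy
      rw [← map_mul, ← map_mul, ← map_inv, ← map_mul]
      exact congrArg _ (Subtype.ext (hsq b hb))
    · intro y hy
      obtain ⟨b, hbC, hb, rfl⟩ := Pairs.mem_image hzA hy
      rw [← map_mul, ← map_inv, ← map_mul, ← map_inv, ← map_mul]
      exact mem_imageBar _ (hcomm b hb)
  -- lifts of the Sylow subgroup of `M`
  have hlift : ∀ y ∈ (T : Subgroup (CBar (zpowers z))) ⊓ M,
      ∃ e : G, ∃ heC : e ∈ C, e ∈ normalizer (A : Set G) ∧ proj (zpowers z) ⟨e, heC⟩ = y := by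
    intro y hy
    have hy' : y ∈ normalizer (imageBar (zpowers z) A : Set (CBar (zpowers z))) := by
      refine NoCover.mem_normalizer_of_map_le ?_
      rintro _ ⟨x, hx, rfl⟩
      exact ((hEb y hy).1 x hx).1
    have h1 := Balance.map_normalizer_eq (proj_surjective (zpowers z)) (proj_ker_odd (zpowers z))
      (P := A.subgroupOf C)
      ((PGroups.elemAb_isPGroup h.elem).comap_of_injective C.subtype C.subtype_injective)
    have hy'' : y ∈ (normalizer ((A.subgroupOf C) : Set ↥C)).map (proj (zpowers z)) := by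
      rw [h1]; exact hy'
    obtain ⟨⟨e, heC⟩, he, rfl⟩ := hy''
    refine ⟨e, heC, NoCover.mem_normalizer_of_map_le ?_, rfl⟩
    rintro _ ⟨a, ha, rfl⟩
    exact mem_subgroupOf.1 (NoCover.conj_normalizer he
      (mem_subgroupOf.2 ha : (⟨a, hAC ha⟩ : ↥C) ∈ A.subgroupOf C))
  -- their action on `A`
  have hact : ∀ e (heC : e ∈ C), e ∈ normalizer (A : Set G) →
      proj (zpowers z) ⟨e, heC⟩ ∈ (T : Subgroup (CBar (zpowers z))) ⊓ M →
      (∀ a ∈ A, e * a * e⁻¹ * a⁻¹ ∈ Z₁) ∧ (∀ a ∈ A, e * e * a * (e * e)⁻¹ = a) := by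
    intro e heC heN hey
    refine ⟨fun a ha => ⟨A.mul_mem (NoCover.conj_normalizer heN ha) (A.inv_mem ha),
      mem_liftBar.2 ⟨mul_mem (hAC (NoCover.conj_normalizer heN ha)) (inv_mem (hAC ha)), by
        rw [himage e heN heC a ha]; exact ((hEb _ hey).1 _ (hproj ha)).2⟩⟩,
      fun a ha => ?_⟩
    refine Pairs.proj_injective h hzA
      (NoCover.conj_normalizer (mul_mem heN heN) ha) ha ?_
    rw [show (⟨e * e * a * (e * e)⁻¹, _⟩ : ↥C) =
      ⟨e, heC⟩ * ⟨e, heC⟩ * ⟨a, hAC ha⟩ * (⟨e, heC⟩ * ⟨e, heC⟩)⁻¹ from rfl,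
      map_mul, map_mul, map_mul, map_inv, map_mul]
    exact (hEb _ hey).2.1 _ (hproj ha)
  have hZ₁card : Nat.card Z₁ = Nat.card Zb := by
    rw [Pairs.card_trace h hzA, inf_eq_right.2 (hZle.trans inf_le_left)]
  have hZ₁Q : Z₁ ≤ Q := fun x hx => ⟨hx.1, by
    obtain ⟨hxC, hk⟩ := mem_liftBar.1 hx.2
    exact mem_liftBar.2 ⟨hxC, (hZle hk).2⟩⟩
  -- a conjugate of `Z₁` is not in `Q`
  obtain ⟨g, hg, ζ, hζ, hgζ⟩ : ∃ g ∈ normalizer (A : Set G), ∃ ζ ∈ Z₁, g * ζ * g⁻¹ ∉ Q := by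
    by_contra! hall
    set U := Subgroup.closure {x | ∃ g ∈ normalizer (A : Set G), ∃ ζ ∈ Z₁, g * ζ * g⁻¹ = x}
    have hUQ : U ≤ Q := (Subgroup.closure_le _).2 (by
      rintro _ ⟨g, hg, ζ, hζ, rfl⟩; exact hall g hg ζ hζ)
    have hinv : ∀ n ∈ normalizer (A : Set G), ∀ x ∈ U, n * x * n⁻¹ ∈ U := by
      intro n hn x hx
      have hle : U.map (MulAut.conj n).toMonoidHom ≤ U := by
        rw [MonoidHom.map_closure, Subgroup.closure_le]
        rintro _ ⟨_, ⟨g, hg, ζ, hζ, rfl⟩, rfl⟩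
        refine Subgroup.subset_closure ⟨n * g, mul_mem hn hg, ζ, hζ, ?_⟩
        show n * g * ζ * (n * g)⁻¹ = n * (g * ζ * g⁻¹) * n⁻¹
        group
      exact hle (mem_map_of_mem _ hx)
    rcases (hBase G S A h).1 U (hUQ.trans inf_le_left) hinv with hbot | htop
    · refine hZne (Subgroup.eq_bot_of_card_eq _ ?_)
      have hb : Z₁ = ⊥ := (Subgroup.eq_bot_iff_forall _).2 fun x hx => Subgroup.mem_bot.1
        (hbot ▸ Subgroup.subset_closure ⟨1, one_mem _, x, hx, by simp⟩)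
      rw [← hZ₁card, hb, Subgroup.card_bot]
    · exact hMnc ((Pairs.le_liftBar_iff h hzA).1 fun a ha => (hUQ (htop.ge ha)).2)
  -- an element of `E` centralising `g⁻¹ z g`
  set w := g⁻¹ * z * g with hw
  have hwA : w ∈ A := by
    have h1 := NoCover.conj_normalizer (inv_mem hg) (hB hz)
    rwa [inv_inv] at h1
  choose lift hliftC hliftN hliftE using hlift
  let f : ↥((T : Subgroup (CBar (zpowers z))) ⊓ M : Subgroup (CBar (zpowers z))) ⧸ (centralizer (imageBar (zpowers z) A : Set (CBar (zpowers z)))).subgroupOf ((T : Subgroup (CBar (zpowers z))) ⊓ M : Subgroup (CBar (zpowers z))) →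
      ↥Z₁ := fun v =>
    ⟨_, (hact (lift v.out v.out.2) (hliftC _ _) (hliftN _ _)
      ((hliftE _ _).symm ▸ v.out.2)).1 w hwA⟩
  obtain ⟨v, v', hne', hvv⟩ : ∃ v v', v ≠ v' ∧ f v = f v' := by
    by_contra! hinj
    have h1 := Nat.card_le_card_of_injective f fun v v' e =>
      Classical.byContradiction fun hne' => hinj v v' hne' e
    rw [hZ₁card] at h1
    exact absurd (h1.trans hZ4) (not_le.2 hbig)
  set e := (lift v.out v.out.2)⁻¹ * lift v'.out v'.out.2
  have heC : e ∈ C := mul_mem (inv_mem (hliftC _ _)) (hliftC _ _)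
  have heN : e ∈ normalizer (A : Set G) := mul_mem (inv_mem (hliftN _ _)) (hliftN _ _)
  have hey : proj (zpowers z) ⟨e, heC⟩ = ((v.out⁻¹ * v'.out : ↥((T : Subgroup (CBar (zpowers z))) ⊓ M : Subgroup (CBar (zpowers z)))) : CBar (zpowers z)) := by
    rw [show (⟨e, heC⟩ : ↥C) = ⟨_, hliftC _ v.out.2⟩⁻¹ * ⟨_, hliftC _ v'.out.2⟩ from rfl,
      map_mul, map_inv, hliftE, hliftE]
    rfl
  have hew : e * w * e⁻¹ = w := by
    have h1 : lift v.out v.out.2 * w * (lift v.out v.out.2)⁻¹ =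
        lift v'.out v'.out.2 * w * (lift v'.out v'.out.2)⁻¹ :=
      mul_right_cancel (congrArg Subtype.val hvv)
    calc e * w * e⁻¹ = (lift v.out v.out.2)⁻¹ *
          (lift v'.out v'.out.2 * w * (lift v'.out v'.out.2)⁻¹) * lift v.out v.out.2 := by
            simp only [e]; group
      _ = w := by rw [← h1]; group
  have heb : (((v.out⁻¹ * v'.out : ↥((T : Subgroup (CBar (zpowers z))) ⊓ M : Subgroup (CBar (zpowers z)))) : CBar (zpowers z))) ∉
      centralizer (imageBar (zpowers z) A : Set (CBar (zpowers z))) := fun hc => hne' (by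
    rw [← QuotientGroup.out_eq' v, ← QuotientGroup.out_eq' v']
    exact QuotientGroup.eq.2 (mem_subgroupOf.2 hc))
  obtain ⟨hecomm, hesq⟩ := hact e heC heN (hey.symm ▸ (v.out⁻¹ * v'.out).2)
  obtain ⟨hζC, hζb⟩ := mem_liftBar.1 hζ.2
  obtain ⟨y, hy, hya⟩ := (hEb _ (v.out⁻¹ * v'.out).2).2.2 heb _ hζb
  obtain ⟨a, haC, ha, rfl⟩ := Pairs.mem_image hzA hy
  have hea : e * a * e⁻¹ * a⁻¹ = ζ := Pairs.proj_injective h hzA (hecomm a ha).1 hζ.1 (by
    rw [himage e heN heC a ha, hey]; exact hya)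
  -- the conjugate of `e` centralises `z`
  set n := g * e * g⁻¹
  have hnA : n ∈ normalizer (A : Set G) := mul_mem (mul_mem hg heN) (inv_mem hg)
  have hback : ∀ b ∈ A, g⁻¹ * b * g ∈ A := fun b hb => by
    have h1 := NoCover.conj_normalizer (inv_mem hg) hb
    rwa [inv_inv] at h1
  refine hgζ ?_
  have hq := rule n hnA (by
      calc n * z * n⁻¹ = g * (e * w * e⁻¹) * g⁻¹ := by simp only [n, hw]; group
        _ = z := by rw [hew, hw]; group)
    (fun b hb => by
      calc n * n * b * (n * n)⁻¹ = g * (e * e * (g⁻¹ * b * g) * (e * e)⁻¹) * g⁻¹ := by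
            simp only [n]; group
        _ = b := by rw [hesq _ (hback b hb)]; group)
    (Z₁.map (MulAut.conj g).toMonoidHom)
    (by rw [Subgroup.card_map_of_injective (MulAut.conj g).injective, hZ₁card]; exact hZ4)
    (fun b hb => ⟨_, hecomm _ (hback b hb), by
      show g * (e * (g⁻¹ * b * g) * e⁻¹ * (g⁻¹ * b * g)⁻¹) * g⁻¹ = n * b * n⁻¹ * b⁻¹
      simp only [n]; group⟩)
    (g * a * g⁻¹) (NoCover.conj_normalizer hg ha)
  rwa [show n * (g * a * g⁻¹) * n⁻¹ * (g * a * g⁻¹)⁻¹ = g * (e * a * e⁻¹ * a⁻¹) * g⁻¹ by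
    simp only [n]; group, hea] at hq

end Cfsg.Agent.Lib.Goldschmidt53
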