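import Cfsg.Agent.Lib.Goldschmidt53.Base
import Cfsg.Agent.Lib.U3Type59.Closed
import Cfsg.Agent.Lib.Signalizer.Complete
import Cfsg.Agent.Lib.Balance.Basic
import Cfsg.Agent.Lib.OddOrder.FeitThompson
import Cfsg.Agent.Lib.SolvCentAb12.Lift
import Cfsg.Agent.S1249
import Cfsg.Agent.S1250

/-!
# Goldschmidt's theorem, section N: no component moved by `A`, rank at least three

`A` is normal modulo the core in every centraliser of an involution of `A`, so the cores form a
signalizer functor on `A` and the normaliser of its completion contains all these centralisers.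
-/

set_option autoImplicit false
set_option linter.style.haveILetI false
set_option linter.unusedSectionVars false

universe u

namespace Cfsg.Agent.Lib.Goldschmidt53

open Subgroup

variable {G : Type u} [Group G] [Finite G] {S : Sylow 2 G} {A : Subgroup G}

local notation "θ" => Cfsg.centralizerPPrimeCore 2

theorem Hyp.orderOf_eq (h : Hyp S A) {a : G} (ha : a ∈ A) (ha1 : a ≠ 1) : orderOf a = 2 :=
  haveI : Fact (Nat.Prime 2) := ⟨Nat.prime_two⟩
  orderOf_eq_prime (PGroups.elemAb_pow h.elem ha) ha1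

theorem Hyp.centralizer_ne_top (h : Hyp S A) {a : G} (ha1 : a ≠ 1) :
    centralizer ({a} : Set G) ≠ ⊤ := fun e => ha1 <| by
  have : a ∈ center G := mem_center_iff.2 fun g =>
    mem_centralizer_singleton_iff.1 (e.symm ▸ mem_top g)
  rwa [h.center_eq_bot, mem_bot] at this

/-- The image of `A` is normal in a centraliser of an involution of `A` modulo its core. -/
theorem map_normal_of_components (hloc : PropLocal.{u}) (h : Hyp S A) (B C : Subgroup G)
    (e : centralizer (B : Set G) = C) (hne : C ≠ ⊤) (hAC : A ≤ C)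
    (hno : ∀ K : Subgroup (Walter.CBar B), Cfsg.IsComponent K →
      A ≤ Walter.liftBar B (centralizer (K : Set (Walter.CBar B)))) :
    ((A.subgroupOf C).map (QuotientGroup.mk' (Cfsg.oddCore ↥C))).Normal := by
  subst e
  haveI : Fact (Nat.Prime 2) := ⟨Nat.prime_two⟩
  set C := centralizer (B : Set G) with hC
  set π := QuotientGroup.mk' (Cfsg.oddCore ↥C) with hπ
  have hsurj : Function.Surjective π := QuotientGroup.mk'_surjective _
  -- a Sylow subgroup of `C` containing `A`
  obtain ⟨T, hT⟩ := IsPGroup.exists_le_sylow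
    ((PGroups.elemAb_isPGroup h.elem).comap_of_injective C.subtype C.subtype_injective)
  obtain ⟨U, hU⟩ := (T.2.map C.subtype).exists_le_sylow
  have hAU : A ≤ (U : Subgroup G) := fun a ha => hU ⟨⟨a, hAC ha⟩, hT ha, rfl⟩
  have hscU := Cfsg.Agent.S1249.result S U A hAU h.closed
  have hscT : Cfsg.IsStronglyClosed (A.subgroupOf C) (T : Subgroup ↥C) :=
    ⟨hT, fun x hx g hg => hscU.2 (x : G) hx g (hU ⟨g * x * g⁻¹, hg, rfl⟩)⟩
  have hsc' := Cfsg.Agent.S1250.result T (A.subgroupOf C) hscT (Cfsg.oddCore ↥C)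
  have hel : Cfsg.IsElementaryAbelian 2 ((A.subgroupOf C).map π) := by
    refine PGroups.elemAb_mk ?_ ?_
    · rintro _ ⟨x, hx, rfl⟩ _ ⟨y, hy, rfl⟩
      rw [← map_mul, ← map_mul]
      exact congrArg π (Subtype.ext (h.commute hx hy))
    · rintro _ ⟨x, hx, rfl⟩
      rw [← map_pow, show x ^ 2 = 1 from Subtype.ext (PGroups.elemAb_pow h.elem hx), map_one]
  have hlt : Nat.card (↥C ⧸ Cfsg.oddCore ↥C) < Nat.card G := by
    refine lt_of_le_of_lt (Nat.card_le_card_of_surjective π hsurj) ?_
    exact lt_of_le_of_ne (card_le_card_group C) fun e => hne (Subgroup.eq_top_of_card_eq C e)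
  have hD := hloc (↥C ⧸ Cfsg.oddCore ↥C) (Nat.card G) (Cores.pPrimeCore_quotient_pPrimeCore 2)
    hlt h.below (T.mapSurjective hsurj) _ hel hsc'
  refine ⟨fun x hx g => ?_⟩
  obtain ⟨k, hk, hkg⟩ := hD.frattini g
  have hlay : Cfsg.layer (↥C ⧸ Cfsg.oddCore ↥C) ≤
      normalizer (((A.subgroupOf C).map π : Subgroup _) : Set (↥C ⧸ Cfsg.oddCore ↥C)) := by
    refine sSup_le fun K hK => le_trans ?_ (Subgroup.centralizer_le_normalizer _)
    rw [Subgroup.le_centralizer_iff]
    rintro _ ⟨a, ha, rfl⟩
    obtain ⟨a', ha', e⟩ := hno K hK (show (a : G) ∈ A from ha)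
    rw [← Subtype.ext (show (a' : G) = (a : G) from e)]
    exact ha'
  exact (mem_normalizer_iff.1 (by simpa using mul_mem (inv_mem (hlay hk)) hkg) x).1 hx

/-- Section N. -/
theorem noPair (hloc : PropLocal.{u}) : PropNoPair.{u} := by
  intro G _ _ S A h hno h8
  classical
  haveI : Fact (Nat.Prime 2) := ⟨Nat.prime_two⟩
  have hAb := fun {a} (ha : a ∈ A) {b} (hb : b ∈ A) => h.commute ha hb
  -- `A` is normal modulo the core
  have hnorm : ∀ a ∈ A, a ≠ 1 → ((A.subgroupOf (centralizer ({a} : Set G))).map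
      (QuotientGroup.mk' (Cfsg.oddCore ↥(centralizer ({a} : Set G))))).Normal := by
    intro a ha ha1
    refine map_normal_of_components hloc h (zpowers a) _ ?_ (h.centralizer_ne_top ha1)
      (fun x hx => mem_centralizer_singleton_iff.2 (hAb hx ha)) fun K hK => ?_
    · rw [zpowers_eq_closure, centralizer_closure]
    · by_contra hnot
      exact hno _ _ _ ⟨zpowers_le.2 ha, fun e => ha1 (zpowers_eq_bot.1 e), K, hK, hnot, rfl, rfl⟩
  -- the signalizer functor
  have hθ : Cfsg.IsSolvableSignalizerFunctor 2 A (Cfsg.centralizerPPrimeCore 2) := by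
    refine ⟨⟨fun a _ _ => Balance.centralizerPPrimeCore_le a,
      fun a _ _ => Balance.not_dvd_card_centralizerPPrimeCore a, ?_, ?_⟩, fun a _ _ =>
      OddOrder.FeitThompson.isSolvable_of_odd_card (Nat.odd_iff.2 (by
        have := Balance.not_dvd_card_centralizerPPrimeCore (p := 2) a
        omega))⟩
    · intro a ha _ b hb x hx
      exact (mem_normalizer_iff.1 (Balance.centralizer_le_normalizer_centralizerPPrimeCore a
        (mem_centralizer_singleton_iff.2 (hAb hb ha))) x).1 hx
    intro a ha ha1 b hb hb1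
    set C := centralizer ({b} : Set G) with hC
    set π := QuotientGroup.mk' (Cfsg.oddCore ↥C) with hπ
    set Ab := (A.subgroupOf C).map π with hAbdef
    haveI hAn : Ab.Normal := hnorm b hb hb1
    have hab : a ∈ C := mem_centralizer_singleton_iff.2 (hAb ha hb)
    have hAC : A ≤ C := fun x hx => mem_centralizer_singleton_iff.2 (hAb hx hb)
    set Y : Subgroup ↥C := (θ a ⊓ C).subgroupOf C with hY
    have hYodd : Odd (Nat.card Y) := by
      rw [hY, Nat.card_congr (subgroupOfEquivOfLe (inf_le_right : θ a ⊓ C ≤ C)).toEquiv]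
      refine Odd.of_dvd_nat ?_ (card_dvd_of_le inf_le_left)
      have := Balance.not_dvd_card_centralizerPPrimeCore (p := 2) a
      exact Nat.odd_iff.2 (by omega)
    have hYn : ∀ c : ↥C, (c : G) * a = a * c → ∀ y ∈ Y, c * y * c⁻¹ ∈ Y := fun c hc y hy =>
      ⟨(mem_normalizer_iff.1 (Balance.centralizer_le_normalizer_centralizerPPrimeCore a
          (mem_centralizer_singleton_iff.2 hc)) _).1 hy.1, (c * y * c⁻¹).2⟩
    -- the image of `Y` centralises that of `A`
    have hYA : Y.map π ≤ centralizer (Ab : Set (↥C ⧸ Cfsg.oddCore ↥C)) := by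
      rintro _ ⟨y, hy, rfl⟩
      refine mem_centralizer_iff.2 ?_
      rintro _ ⟨s, hs, rfl⟩
      have h1 : π (y * (s * y⁻¹ * s⁻¹)) ∈ Ab := by
        rw [show y * (s * y⁻¹ * s⁻¹) = y * s * y⁻¹ * s⁻¹ by group, map_mul, map_inv]
        refine mul_mem ?_ (inv_mem (mem_map_of_mem π hs))
        rw [map_mul, map_mul, map_inv]
        exact hAn.conj_mem _ (mem_map_of_mem π hs) _
      have h2 : y * (s * y⁻¹ * s⁻¹) ∈ Y :=
        mul_mem hy (hYn s (hAb hs ha) _ (inv_mem hy))
      have h3 : π (y * (s * y⁻¹ * s⁻¹)) = 1 := U3Type59.eq_one_of_odd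
        (U3Type59.twoElt_of_mem ((IsPGroup.map ((PGroups.elemAb_isPGroup h.elem).comap_of_injective
          C.subtype C.subtype_injective) π)) h1)
        ((U3Type59.odd_orderOf_of_mem hYodd h2).of_dvd_nat (orderOf_map_dvd π _))
      rw [map_mul, map_mul, map_mul, map_inv, map_inv] at h3
      have h4 : π y * π s * (π s * π y)⁻¹ = 1 := by rw [← h3]; group
      exact (mul_inv_eq_one.1 h4).symm
    -- it is normalised by that centraliser
    set Cb := centralizer (Ab : Set (↥C ⧸ Cfsg.oddCore ↥C)) with hCb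
    haveI : ((Y.map π).subgroupOf Cb).Normal := by
      refine normal_subgroupOf_of_le_normalizer fun c hc => ?_
      have hc' : c ∈ centralizer ({π ⟨a, hab⟩} : Set (↥C ⧸ Cfsg.oddCore ↥C)) :=
        centralizer_le (Set.singleton_subset_iff.2 (mem_map_of_mem π (show (⟨a, hab⟩ : ↥C) ∈
          A.subgroupOf C from ha))) hc
      have hlift := SolvCentAb12.map_centralizer_invol (Cfsg.oddCore ↥C)
        U3Type59.oddCore_odd' (t := (⟨a, hab⟩ : ↥C))
        (by rw [orderOf_mk]; exact h.orderOf_eq ha ha1)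
      rw [show (QuotientGroup.mk (⟨a, hab⟩ : ↥C) : ↥C ⧸ Cfsg.oddCore ↥C) = π ⟨a, hab⟩ from rfl]
        at hlift
      rw [← hlift] at hc'
      obtain ⟨c', hc'', rfl⟩ := hc'
      refine Subgroup.le_normalizer_map π ⟨c', ?_, rfl⟩
      have hca : (c' : G) * a = a * c' :=
        congrArg Subtype.val (mem_centralizer_singleton_iff.1 hc'')
      refine mem_normalizer_iff.2 fun y => ⟨fun hy => hYn c' hca y hy, fun hy => ?_⟩
      have := hYn c'⁻¹ (show (c' : G)⁻¹ * a = a * (c' : G)⁻¹ from
        (Commute.inv_left (show Commute (c' : G) a from hca))) _ hy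
      simpa [mul_assoc] using this
    have hCbn : Cb.Normal := by rw [hCb]; infer_instance
    have hY1 : Y.map π = ⊥ := by
      have hsub : (Y.map π).subgroupOf Cb ≤ Cfsg.oddCore ↥Cb := by
        refine U3Type59.le_oddCore' ?_
        rw [Nat.card_congr (subgroupOfEquivOfLe hYA).toEquiv]
        exact hYodd.of_dvd_nat (Subgroup.card_map_dvd _ _)
      haveI := hCbn
      haveI : (Cfsg.oddCore ↥Cb).Characteristic := Subgroup.characteristic_iff_map_eq.2 fun φ =>
        Cores.map_pPrimeCore_equiv φ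
      haveI : ((Cfsg.oddCore ↥Cb).map Cb.subtype).Normal := Cores.normal_map_subtype Cb _
      have h5 := U3Type59.le_oddCore' (N := (Cfsg.oddCore ↥Cb).map Cb.subtype)
        (by rw [card_map_of_injective Cb.subtype_injective]; exact U3Type59.oddCore_odd')
      rw [show Cfsg.oddCore (↥C ⧸ Cfsg.oddCore ↥C) = ⊥ from
        Cores.pPrimeCore_quotient_pPrimeCore 2] at h5
      refine le_bot_iff.1 fun y hy => h5 ⟨⟨y, hYA hy⟩, hsub hy, rfl⟩
    intro x hx
    refine ⟨⟨x, hx.2⟩, ?_, rfl⟩
    exact (QuotientGroup.eq_one_iff _).1 (show π ⟨x, hx.2⟩ = 1 from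
      (mem_bot.1 (hY1 ▸ mem_map_of_mem π (show (⟨x, hx.2⟩ : ↥C) ∈ Y from hx))))
  obtain ⟨hW, hWc⟩ := (Signalizer.completes_two h.elem h8 hθ).closure h.elem h8 hθ.1
  set W := Cfsg.signalizerClosure A (Cfsg.centralizerPPrimeCore 2) with hWdef
  have hθW : ∀ a ∈ A, a ≠ 1 → θ a ≤ W := fun a ha ha1 =>
    le_iSup (fun b : {b : G // b ∈ A ∧ b ≠ 1} => θ (b : G)) ⟨a, ha, ha1⟩
  -- `C(a) = O(C(a)) N(A)`
  have hfrat : ∀ a ∈ A, a ≠ 1 →
      centralizer ({a} : Set G) ≤ θ a ⊔ normalizer (A : Set G) := by
    intro a ha ha1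
    set C := centralizer ({a} : Set G) with hC
    set π := QuotientGroup.mk' (Cfsg.oddCore ↥C) with hπ
    have hAC : A ≤ C := fun x hx => mem_centralizer_singleton_iff.2 (hAb hx ha)
    set A' := A.subgroupOf C with hA'
    haveI := hnorm a ha ha1
    set K := (A'.map π).comap π with hKdef
    haveI : K.Normal := Subgroup.Normal.comap (hnorm a ha ha1) π
    have hA'p : IsPGroup 2 A' :=
      (PGroups.elemAb_isPGroup h.elem).comap_of_injective C.subtype C.subtype_injective
    have hcard : Nat.card K = Nat.card A' * Nat.card (Cfsg.oddCore ↥C) := by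
      rw [hKdef, hπ, U3Type59.card_comap_mk]
      congr 1
      refine (Nat.card_congr (Equiv.ofBijective
        (fun x : A' => (⟨_, mem_map_of_mem _ x.2⟩ : A'.map (QuotientGroup.mk' (Cfsg.oddCore ↥C))))
        ⟨fun x y hxy => ?_, ?_⟩)).symm
      · have h1 : (x : ↥C)⁻¹ * y ∈ Cfsg.oddCore ↥C := QuotientGroup.eq.1 (congrArg Subtype.val hxy)
        exact Subtype.ext (inv_mul_eq_one.1 (U3Type59.eq_one_of_odd
          (U3Type59.twoElt_of_mem hA'p (mul_mem (inv_mem x.2) y.2))
          (U3Type59.odd_orderOf_of_mem U3Type59.oddCore_odd' h1)))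
      · rintro ⟨_, x, hx, rfl⟩
        exact ⟨⟨x, hx⟩, rfl⟩
    have hle : A' ≤ K := le_comap_map _ _
    have hidx : ¬ 2 ∣ (A'.subgroupOf K).index := by
      have e := (A'.subgroupOf K).card_mul_index
      rw [Nat.card_congr (subgroupOfEquivOfLe hle).toEquiv, hcard] at e
      rw [Nat.eq_of_mul_eq_mul_left Nat.card_pos e]
      exact fun h2 => Nat.not_odd_iff_even.2 (even_iff_two_dvd.2 h2) U3Type59.oddCore_odd'
    have hf := Sylow.normalizer_sup_eq_top
      ((hA'p.comap_of_injective K.subtype K.subtype_injective).toSylow hidx)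
    rw [show ((hA'p.comap_of_injective K.subtype K.subtype_injective).toSylow hidx).toSubgroup.map
        K.subtype = A' from
      (subgroupOf_map_subtype A' K).trans (inf_of_le_left hle)] at hf
    have hf' := congrArg (Subgroup.map C.subtype) hf
    rw [Subgroup.map_sup, ← MonoidHom.range_eq_map, Subgroup.range_subtype] at hf'
    refine hf'.ge.trans (sup_le ?_ ?_)
    · refine ((le_normalizer_map C.subtype).trans ?_).trans le_sup_right
      rw [subgroupOf_map_subtype, inf_of_le_left hAC]
    · rw [hKdef, Subgroup.comap_map_eq, QuotientGroup.ker_mk', Subgroup.map_sup,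
        subgroupOf_map_subtype, inf_of_le_left hAC]
      exact sup_le (Subgroup.le_normalizer.trans le_sup_right) le_sup_left
  -- one proper subgroup contains everything
  have hWN : normalizer (A : Set G) ≤ normalizer (W : Set G) := by
    have hle : ∀ m ∈ normalizer (A : Set G), W.map (MulAut.conj m).toMonoidHom ≤ W := by
      intro m hm
      rw [hWdef, Cfsg.signalizerClosure, Subgroup.map_iSup]
      refine iSup_le fun b => ?_
      rw [← Balance.centralizerPPrimeCore_conj]
      exact le_iSup (fun b : {b : G // b ∈ A ∧ b ≠ 1} => θ (b : G))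
        ⟨m * b * m⁻¹, (mem_normalizer_iff.1 hm _).1 b.2.1,
          fun e => b.2.2 (conj_eq_one_iff.1 e)⟩
    intro n hn
    refine mem_normalizer_iff.2 fun x => ⟨fun hx => hle n hn ⟨x, hx, rfl⟩, fun hx => ?_⟩
    have := hle n⁻¹ (inv_mem hn) ⟨_, hx, rfl⟩
    simpa [mul_assoc] using this
  haveI := h.simple
  intro htop
  by_cases hW1 : W = ⊥
  · have hle : centSpan A ≤ normalizer (A : Set G) := iSup_le fun t =>
      (hfrat t t.2.1 fun e => by
        have := t.2.2
        rw [e, orderOf_one] at this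
        omega).trans (sup_le ((hθW t t.2.1 fun e => by
          have := t.2.2
          rw [e, orderOf_one] at this
          omega).trans (hW1.le.trans bot_le)) le_rfl)
    haveI : A.Normal := normalizer_eq_top_iff.1 (top_le_iff.1 (htop.ge.trans hle))
    rcases IsSimpleGroup.eq_bot_or_eq_top_of_normal A inferInstance with e | e
    · exact h.ne e
    · exact h.nonabelian ⟨⟨fun a b => hAb (e.symm ▸ mem_top a) (e.symm ▸ mem_top b)⟩⟩
  · have hle : centSpan A ≤ normalizer (W : Set G) := iSup_le fun t =>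
      (hfrat t t.2.1 fun e => by
        have := t.2.2
        rw [e, orderOf_one] at this
        omega).trans (sup_le ((hθW t t.2.1 fun e => by
          have := t.2.2
          rw [e, orderOf_one] at this
          omega).trans Subgroup.le_normalizer) hWN)
    haveI : W.Normal := normalizer_eq_top_iff.1 (top_le_iff.1 (htop.ge.trans hle))
    refine hW1 (le_bot_iff.1 ((U3Type59.le_oddCore' ?_).trans h.oddCore_eq_bot.le))
    exact Nat.odd_iff.2 (by have := hW.2.1; omega)

end Cfsg.Agent.Lib.Goldschmidt53
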