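import Cfsg.Agent.Lib.Goldschmidt53.Base
import Cfsg.Agent.Lib.Transfer.Hall

/-!
# Goldschmidt's theorem, section R: rank two, the assembly

For `|A| = 4` the action of `N(A)` on `A` has odd order, so `A` is central in `S`.  If `A` is not
inside the derived group of `S`, then `S` is abelian by transfer in `C(A)`; otherwise one of the
two halves of the section applies.
-/

set_option autoImplicit false
set_option linter.style.haveILetI false
set_option linter.unusedSectionVars false

universe u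

namespace Cfsg.Agent.Lib.Goldschmidt53

open Subgroup
open scoped commutatorElement

variable {G : Type u} [Group G] [Finite G] {S : Sylow 2 G} {A : Subgroup G}

namespace RankTwo

set_option maxRecDepth 20000 in
theorem perm_four : ∀ σ : Equiv.Perm (Fin 4), σ 0 = 0 → Equiv.Perm.sign σ = 1 →
    σ ^ 8 = 1 → σ = 1 := by
  decide

theorem signHom_neg_one : ¬ (if (-1 : ℤˣ) = 1 then (1 : Multiplicative (ZMod 2))
    else Multiplicative.ofAdd 1) = 1 := by decide

/-- The sign of a permutation, additively. -/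
def signHom : ℤˣ →* Multiplicative (ZMod 2) where
  toFun u := if u = 1 then 1 else Multiplicative.ofAdd 1
  map_one' := rfl
  map_mul' := by decide

/-- A 2-element normalising a four-group and inducing no odd permutation centralises it. -/
theorem sylow_central (h : Hyp S A) (h4 : Nat.card ↥A = 4) :
    ∀ s ∈ (S : Subgroup G), ∀ a ∈ A, s * a = a * s := by
  classical
  haveI : Fact (Nat.Prime 2) := ⟨Nat.prime_two⟩
  let act : ↥(normalizer (A : Set G)) →* MulAut ↥A := A.normalizerMonoidHom
  let e₀ : ↥A ≃ Fin 4 := Nat.equivFinOfCardPos (by rw [h4]; norm_num) |>.trans (finCongr h4)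
  let e : ↥A ≃ Fin 4 := e₀.trans (Equiv.swap (e₀ 1) 0)
  have he : e 1 = 0 := Equiv.swap_apply_left _ _
  let toP : MulAut ↥A →* Equiv.Perm (Fin 4) :=
    (e.permCongrHom.toMonoidHom).comp
      { toFun := fun f => f.toEquiv, map_one' := rfl, map_mul' := fun _ _ => rfl }
  have hf := h.noIndexTwo ((signHom.comp Equiv.Perm.sign).comp (toP.comp act)) fun c hc => by
    have : act c = 1 := MulEquiv.ext fun a => Subtype.ext (by
      show (c : G) * a * (c : G)⁻¹ = a
      rw [← mem_centralizer_iff.1 hc a a.2, mul_inv_cancel_right])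
    simp [this]
  intro s hs a ha
  have hsN := h.sylow_le_normalizer hs
  have hsgn : Equiv.Perm.sign (toP (act ⟨s, hsN⟩)) = 1 := by
    have h1 : signHom (Equiv.Perm.sign (toP (act ⟨s, hsN⟩))) = 1 := by
      have := DFunLike.congr_fun hf (⟨s, hsN⟩ : ↥(normalizer (A : Set G)))
      simpa using this
    rcases Int.units_eq_one_or (Equiv.Perm.sign (toP (act ⟨s, hsN⟩))) with h2 | h2
    · exact h2
    · rw [h2] at h1
      exact absurd h1 signHom_neg_one
  have hfix : toP (act ⟨s, hsN⟩) 0 = 0 := by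
    show e ((act ⟨s, hsN⟩) (e.symm 0)) = 0
    rw [← he, Equiv.symm_apply_apply, map_one]
  have hpow : toP (act ⟨s, hsN⟩) ^ 8 = 1 := by
    obtain ⟨k, hk⟩ := IsPGroup.iff_orderOf.1 S.isPGroup' ⟨s, hs⟩
    have h1 : orderOf (toP (act ⟨s, hsN⟩)) ∣ 2 ^ k := by
      refine (orderOf_map_dvd (toP.comp act) _).trans ?_
      rw [← hk, ← orderOf_coe, ← orderOf_coe (a := (⟨s, hs⟩ : ↥(S : Subgroup G)))]
    have h2 : orderOf (toP (act ⟨s, hsN⟩)) ∣ 24 := by
      have := orderOf_dvd_natCard (toP (act ⟨s, hsN⟩))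
      rwa [Nat.card_eq_fintype_card, Fintype.card_perm, Fintype.card_fin] at this
    obtain ⟨i, -, hi⟩ := (Nat.dvd_prime_pow Nat.prime_two).1 h1
    refine orderOf_dvd_iff_pow_eq_one.1 ?_
    rw [hi] at h2 ⊢
    have h3 : i ≤ 3 := by
      by_contra hi4
      have : 2 ^ 4 ∣ 24 := (pow_dvd_pow 2 (not_le.1 hi4)).trans h2
      norm_num at this
    exact pow_dvd_pow 2 h3
  have h1 : toP (act ⟨s, hsN⟩) = 1 := perm_four _ hfix hsgn hpow
  have h2 : e ((act ⟨s, hsN⟩) (e.symm (e ⟨a, ha⟩))) = e ⟨a, ha⟩ :=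
    Equiv.congr_fun h1 (e ⟨a, ha⟩)
  rw [Equiv.symm_apply_apply] at h2
  have h3 := congrArg Subtype.val (e.injective h2)
  exact mul_inv_eq_iff_eq_mul.1 h3

/-- If `A` is not in the derived group of `S`, then `S` is abelian. -/
theorem commutative_of_not_le (h : Hyp S A)
    (hcA : ∀ s ∈ (S : Subgroup G), ∀ a ∈ A, s * a = a * s)
    (hle : ¬ A.subgroupOf (S : Subgroup G) ≤ commutator ↥(S : Subgroup G)) :
    IsMulCommutative (S : Subgroup G) := by
  haveI : Fact (Nat.Prime 2) := ⟨Nat.prime_two⟩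
  have hSA : (S : Subgroup G) ≤ centralizer (A : Set G) := fun s hs =>
    mem_centralizer_iff.2 fun a ha => (hcA s hs a ha).symm
  set X := centralizer (A : Set G) with hX
  set X' := ⁅X, X⁆ with hX'
  have hXn : ∀ n ∈ normalizer (A : Set G), ∀ x ∈ X', n * x * n⁻¹ ∈ X' := by
    intro n hn x hx
    have hle : X.map (MulAut.conj n).toMonoidHom ≤ X := by
      rintro _ ⟨y, hy, rfl⟩
      refine mem_centralizer_iff.2 fun a ha => ?_
      have h1 : n⁻¹ * a * n ∈ A := by
        have := (mem_normalizer_iff.1 (inv_mem hn) a).1 ha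
        rwa [inv_inv] at this
      have h2 := mem_centralizer_iff.1 hy _ h1
      show a * (n * y * n⁻¹) = n * y * n⁻¹ * a
      calc a * (n * y * n⁻¹) = n * ((n⁻¹ * a * n) * y) * n⁻¹ := by group
        _ = n * (y * (n⁻¹ * a * n)) * n⁻¹ := by rw [h2]
        _ = _ := by group
    have h3 : X'.map (MulAut.conj n).toMonoidHom ≤ X' := by
      rw [hX', Subgroup.map_commutator]
      exact commutator_mono hle hle
    exact h3 (mem_map_of_mem _ hx)
  have hS' : A ⊓ X' ≤ (commutator ↥(S : Subgroup G)).map (S : Subgroup G).subtype := by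
    intro z hz
    have hzX : z ∈ X := mem_centralizer_iff.2 fun a ha => h.commute ha hz.1
    have hzc : (⟨z, hzX⟩ : ↥X) ∈ commutator ↥X := by
      have h1 := hz.2
      rw [hX', ← Subgroup.map_subtype_commutator] at h1
      obtain ⟨y, hy, e⟩ := h1
      rwa [show (⟨z, hzX⟩ : ↥X) = y from Subtype.ext e.symm]
    have hmem := Transfer.Hall.mem_commutator_of_mem_center (S.subtype hSA : Subgroup ↥X)
      ((S.subtype hSA).card_coprime_index.symm.coprime_dvd_right (Subgroup.relIndex_dvd_card _ _))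
      (z := ⟨z, hzX⟩) (by rw [Sylow.coe_subtype, mem_subgroupOf]; exact h.closed.1 hz.1) hzc
      (mem_center_iff.2 fun x => Subtype.ext (mem_centralizer_iff.1 x.2 z hz.1).symm)
    have h2 := mem_map_of_mem X.subtype hmem
    rw [Subgroup.map_commutator, Sylow.coe_subtype, subgroupOf_map_subtype,
      inf_eq_left.2 hSA] at h2
    rwa [Subgroup.map_subtype_commutator]
  have hU : A ⊓ X' = ⊥ := by
    rcases h.irreducible (A ⊓ X') inf_le_left fun n hn x hx =>
        ⟨(mem_normalizer_iff.1 hn x).1 hx.1, hXn n hn x hx.2⟩ with e | e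
    · exact e
    · refine absurd (fun a ha => ?_) hle
      obtain ⟨b, hb, eb⟩ := hS' (e.symm ▸ ha : (a : G) ∈ A ⊓ X')
      rwa [← show b = a from Subtype.ext eb]
  have hR : (S : Subgroup G) ⊓ X' = ⊥ := h.eq_bot_of_disjoint (le_inf inf_le_left
      (inf_le_left.trans hSA))
    (by rw [inf_assoc, inf_comm X', hU, inf_bot_eq])
    ⟨inf_le_left, fun x hx g hg => by
      obtain ⟨n, hn, e⟩ := h.fusion hx.1 hg
      exact ⟨hg, e ▸ hXn n hn x hx.2⟩⟩
  refine ⟨⟨fun x y => Subtype.ext ?_⟩⟩
  have : ⁅(x : G), (y : G)⁆ ∈ (S : Subgroup G) ⊓ X' := ⟨by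
    rw [commutatorElement_def]
    exact mul_mem (mul_mem (mul_mem x.2 y.2) ((S : Subgroup G).inv_mem x.2))
      ((S : Subgroup G).inv_mem y.2), commutator_mem_commutator (hSA x.2) (hSA y.2)⟩
  rw [hR, mem_bot] at this
  exact commutatorElement_eq_one_iff_mul_comm.1 this

end RankTwo

/-- Section R from its two halves. -/
theorem rankTwo (hBig : PropRankTwoBig.{u}) (hMin : PropRankTwoMin.{u}) : PropRankTwo.{u} := by
  intro G _ _ S A h h4
  have hcA := RankTwo.sylow_central h h4
  by_cases hle : A.subgroupOf (S : Subgroup G) ≤ commutator ↥(S : Subgroup G)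
  · refine Or.inr ?_
    by_cases hx : ∃ x ∈ (S : Subgroup G), orderOf x = 2 ∧ x ∉ A
    · exact Or.inl (hBig G S A h h4 hle hcA hx)
    · push Not at hx
      exact hMin G S A h h4 hle hcA hx
  · exact Or.inl (RankTwo.commutative_of_not_le h hcA hle)

end Cfsg.Agent.Lib.Goldschmidt53
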