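import Cfsg.Agent.Lib.Goldschmidt53.Interface

/-!
# Rank two, an involution outside `A`: the cut between the functor and the bad case

helper41, case (a) of `notes/goldschmidt_helper72.md`, section 5.  An involution `y` commuting with
`A` is good if `O(C(a)) ∩ C(y) ≤ O(C(y))` for all `a ∈ A`.  `PropGoodExists` provides an involution
`x ∈ S \ A` all whose translates by `A` are good; the signalizer functor on `A⟨x⟩` then makes
`centSpan A` proper.
-/

set_option autoImplicit false

universe u

namespace Cfsg.Agent.Lib.Goldschmidt53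

open Subgroup

variable {G : Type u} [Group G]

/-- `O(C(a)) ∩ C(y) ≤ O(C(y))` for all involutions `a` of `A`. -/
def GoodInv (A : Subgroup G) (y : G) : Prop :=
  ∀ a ∈ A, a ≠ 1 → Walter.core a ⊓ centralizer ({y} : Set G) ≤ Walter.core y

/-- Case (a) of section R. -/
def PropGoodExists : Prop :=
  ∀ (G : Type u) [Group G] [Finite G] (S : Sylow 2 G) (A : Subgroup G), Hyp S A →
    Nat.card ↥A = 4 → A.subgroupOf (S : Subgroup G) ≤ commutator ↥(S : Subgroup G) →
    (∀ s ∈ (S : Subgroup G), ∀ a ∈ A, s * a = a * s) →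
    (∃ x ∈ (S : Subgroup G), orderOf x = 2 ∧ x ∉ A) →
    ∃ x ∈ (S : Subgroup G), orderOf x = 2 ∧ x ∉ A ∧ ∀ b ∈ A, GoodInv A (x * b)

end Cfsg.Agent.Lib.Goldschmidt53
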