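import Cfsg.Agent.Lib.Coprime.Generation
import Cfsg.Agent.Lib.PGroups.ElemAb
import Cfsg.Agent.Lib.OddOrder.FeitThompson

/-!
# Rank two: a group of odd order generated by pieces of the centralisers of a four-group

helper58.  A four-group `A` normalises `U` of odd order; `P a` is normal in `C_U(a)`, contains the
elements of `C_U(a)` inverted by the rest of `A`, meets `C(A)` in the same subgroup `R` for all `a`,
and `U` is generated by the `P a`.  Then `C_U(A) ≤ R` (`key`).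
-/

set_option autoImplicit false
set_option linter.style.haveILetI false
set_option linter.unusedSectionVars false

universe u

namespace Cfsg.Agent.Lib.Goldschmidt53.RankTwoKey

open Subgroup
open scoped commutatorElement

variable {G : Type u} [Group G] [Finite G] {A U : Subgroup G}

/-- An element of odd order is a power of its square. -/
theorem mem_of_sq_mem {U H : Subgroup G} (hU : Odd (Nat.card ↥U)) {v : G} (hv : v ∈ U)
    (h : v * v ∈ H) : v ∈ H := by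
  obtain ⟨k, hk⟩ := hU
  have h1 : v ^ Nat.card ↥U = 1 :=
    congrArg Subtype.val (pow_card_eq_one' (x := (⟨v, hv⟩ : ↥U)))
  have h2 : v = (v * v) ^ (k + 1) := by
    rw [← pow_two, ← pow_mul, show 2 * (k + 1) = Nat.card ↥U + 1 by omega, pow_succ, h1, one_mul]
  rw [h2]
  exact pow_mem h _

/-- Decomposition with respect to an involution: fixed times inverted. -/
theorem exists_decomp {X : Subgroup G} (hX : Odd (Nat.card ↥X)) {a : G} (ha2 : a * a = 1)
    (ha : a ∈ normalizer (X : Set G)) {x : G} (hx : x ∈ X) :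
    ∃ c ∈ X, ∃ v ∈ X, a * c = c * a ∧ a * v * a⁻¹ = v⁻¹ ∧ x = c * v := by
  have hai : a⁻¹ = a := inv_eq_of_mul_eq_one_right ha2
  obtain ⟨k, hk⟩ := hX
  set s := (a * x * a⁻¹)⁻¹ * x with hs
  have hsX : s ∈ X := mul_mem (inv_mem ((mem_normalizer_iff.1 ha x).1 hx)) hx
  have hs1 : s ^ Nat.card ↥X = 1 :=
    congrArg Subtype.val (pow_card_eq_one' (x := (⟨s, hsX⟩ : ↥X)))
  set v := s ^ (k + 1) with hv
  have hvv : v * v = s := by
    rw [hv, ← pow_add, show k + 1 + (k + 1) = Nat.card ↥X + 1 by omega, pow_succ, hs1, one_mul]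
  have hsa : a * s * a⁻¹ = s⁻¹ := by
    rw [hs]
    simp only [hai, mul_inv_rev]
    calc a * (a * (x⁻¹ * a) * x) * a = (a * a) * (x⁻¹ * (a * x * a)) := by group
      _ = _ := by rw [ha2, one_mul]; group
  have hva : a * v * a⁻¹ = v⁻¹ := by rw [hv, ← conj_pow, hsa, inv_pow]
  refine ⟨x * v⁻¹, mul_mem hx (inv_mem (pow_mem hsX _)), v, pow_mem hsX _, ?_, hva, by group⟩
  have e : a * (x * v⁻¹) * a⁻¹ = x * v⁻¹ := by
    calc a * (x * v⁻¹) * a⁻¹ = (a * x * a⁻¹) * (a * v * a⁻¹)⁻¹ := by group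
      _ = x * s⁻¹ * v := by rw [hva, inv_inv, hs]; group
      _ = x * v⁻¹ := by rw [← hvv]; group
  exact mul_inv_eq_iff_eq_mul.1 e

/-- A finite subgroup mapped into itself is normalised. -/
theorem mem_normalizer_of_map_le {H : Subgroup G} {g : G}
    (h : H.map (MulAut.conj g).toMonoidHom ≤ H) : g ∈ normalizer (H : Set G) :=
  mem_normalizer_iff_map_conj_eq.2 (Subgroup.eq_of_le_of_card_ge h
    (card_map_of_injective (MulAut.conj g).injective).ge)

/-- What normalises `U` normalises its derived group. -/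
theorem normalizer_le_normalizer_derived (U : Subgroup G) :
    normalizer (U : Set G) ≤ normalizer ((⁅U, U⁆ : Subgroup G) : Set G) := by
  intro g hg
  rw [mem_normalizer_iff_map_conj_eq] at hg ⊢
  rw [Subgroup.map_commutator, hg]

section Four

variable (hA : Cfsg.IsElementaryAbelian 2 A) (h4 : Nat.card ↥A = 4)

include hA h4

/-- The elements of a four-group. -/
theorem four_eq {a b : G} (ha : a ∈ A) (ha1 : a ≠ 1) (hb : b ∈ A) (hb1 : b ≠ 1) (hab : b ≠ a)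
    {x : G} (hx : x ∈ A) : x = 1 ∨ x = a ∨ x = b ∨ x = a * b := by
  classical
  haveI := Fintype.ofFinite ↥A
  by_contra hne
  simp only [not_or] at hne
  obtain ⟨h1, h2, h3, h5⟩ := hne
  have ha2 : a * a = 1 := by rw [← pow_two]; exact PGroups.elemAb_pow hA ha
  have hab1 : a * b ≠ 1 := fun e => hab (mul_left_cancel (e.trans ha2.symm))
  have hs : ({(1 : ↥A), ⟨a, ha⟩, ⟨b, hb⟩, ⟨a * b, mul_mem ha hb⟩, ⟨x, hx⟩} : Finset ↥A).card = 5 := by
    rw [Finset.card_insert_of_notMem (by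
        simp [Subtype.ext_iff, Ne.symm ha1, Ne.symm hb1, Ne.symm hab1, Ne.symm h1]),
      Finset.card_insert_of_notMem (by simp [Ne.symm hab, hb1, Ne.symm h2]),
      Finset.card_insert_of_notMem (by simp [ha1, Ne.symm h3]),
      Finset.card_insert_of_notMem (by simp [Ne.symm h5]), Finset.card_singleton]
  have := Finset.card_le_univ
    ({(1 : ↥A), ⟨a, ha⟩, ⟨b, hb⟩, ⟨a * b, mul_mem ha hb⟩, ⟨x, hx⟩} : Finset ↥A)
  rw [hs, ← Nat.card_eq_fintype_card, h4] at this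
  omega

/-- A non-trivial element of a four-group has a partner. -/
theorem exists_other {a : G} (ha : a ∈ A) : ∃ b ∈ A, b ≠ 1 ∧ b ≠ a := by
  classical
  haveI := Fintype.ofFinite ↥A
  obtain ⟨b, -, hb⟩ := Finset.exists_mem_notMem_of_card_lt_card
    (s := ({1, ⟨a, ha⟩} : Finset ↥A)) (t := Finset.univ) (by
      rw [Finset.card_univ, ← Nat.card_eq_fintype_card, h4]
      exact lt_of_le_of_lt Finset.card_le_two (by norm_num))
  simp only [Finset.mem_insert, Finset.mem_singleton, not_or] at hb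
  exact ⟨b, b.2, fun e => hb.1 (Subtype.ext e), fun e => hb.2 (Subtype.ext e)⟩

/-- Two involutions of a four-group centralise only what it centralises. -/
theorem mem_centralizer_four {a b : G} (ha : a ∈ A) (ha1 : a ≠ 1) (hb : b ∈ A) (hb1 : b ≠ 1)
    (hab : b ≠ a) {g : G} (h1 : a * g = g * a) (h2 : b * g = g * b) :
    g ∈ centralizer (A : Set G) := by
  refine mem_centralizer_iff.2 fun x hx => ?_
  rcases four_eq hA h4 ha ha1 hb hb1 hab hx with rfl | rfl | rfl | rfl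
  · rw [one_mul, mul_one]
  · exact h1
  · exact h2
  · exact (Commute.mul_left (show Commute a g from h1) (show Commute b g from h2)).eq

theorem not_isCyclic : ¬ IsCyclic ↥A := by
  intro hc
  obtain ⟨g, hg⟩ := hc.exists_generator
  have h2 : orderOf g ∣ 2 :=
    orderOf_dvd_of_pow_eq_one (Subtype.ext (PGroups.elemAb_pow hA g.2))
  rw [orderOf_eq_card_of_forall_mem_zpowers hg, h4] at h2
  norm_num at h2

/-- Generation of a group of odd order by the centralisers of involutions of a four-group. -/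
theorem le_of_centralizers_le {X Y : Subgroup G} (hX : Odd (Nat.card ↥X))
    (hAX : A ≤ normalizer (X : Set G))
    (h : ∀ a ∈ A, a ≠ 1 → X ⊓ centralizer ({a} : Set G) ≤ Y) : X ≤ Y := by
  haveI : IsMulCommutative ↥A :=
    ⟨⟨fun x y => Subtype.ext (PGroups.elemAb_comm hA x.2 y.2)⟩⟩
  have hcop : (Nat.card ↥A).Coprime (Nat.card ↥X) := by
    rw [h4, show 4 = 2 ^ 2 by rfl]
    exact (Nat.coprime_two_left.2 hX).pow_left 2
  rw [← Coprime.iSup_centralizer_eq (not_isCyclic hA h4) hAX hcop]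
  exact iSup₂_le fun a ha => h a ha.1 ha.2

/-- The key lemma. -/
theorem key (U : Subgroup G) (P : G → Subgroup G) (R : Subgroup G) (hU : Odd (Nat.card ↥U))
    (hAU : A ≤ normalizer (U : Set G))
    (hPU : ∀ a ∈ A, a ≠ 1 → P a ≤ U ⊓ centralizer ({a} : Set G))
    (hAP : ∀ a ∈ A, a ≠ 1 → A ≤ normalizer (P a : Set G))
    (hUP : ∀ a ∈ A, a ≠ 1 → U ⊓ centralizer ({a} : Set G) ≤ normalizer (P a : Set G))
    (hinv : ∀ a ∈ A, a ≠ 1 → ∀ b ∈ A, b ≠ 1 → b ≠ a → ∀ v ∈ U, a * v = v * a →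
      b * v * b⁻¹ = v⁻¹ → v ∈ P a)
    (hR : ∀ a ∈ A, a ≠ 1 → P a ⊓ centralizer (A : Set G) = R)
    (hgen : U ≤ ⨆ a : {a : G // a ∈ A ∧ a ≠ 1}, P a) :
    U ⊓ centralizer (A : Set G) ≤ R := by
  induction U using WellFoundedLT.induction generalizing P R with | ind U ih => ?_
  rcases eq_or_ne U ⊥ with rfl | hU1
  · simp
  have hsq : ∀ {x : G}, x ∈ A → x * x = 1 := fun hx => by
    rw [← pow_two]; exact PGroups.elemAb_pow hA hx
  -- the derived group and the part of it generated by the pieces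
  set M := ⁅U, U⁆ with hM
  have hMU : M < U := by
    haveI : Group.IsSolvable ↥U := OddOrder.FeitThompson.isSolvable_of_odd_card hU
    haveI : Nontrivial ↥U := (nontrivial_iff_ne_bot U).2 hU1
    have h1 := (map_lt_map_iff_of_injective U.subtype_injective).2
      (Group.IsSolvable.commutator_lt_top_of_nontrivial ↥U)
    rwa [map_subtype_commutator, ← MonoidHom.range_eq_map, range_subtype] at h1
  have hMn : normalizer (U : Set G) ≤ normalizer (M : Set G) := normalizer_le_normalizer_derived U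
  have hMo : Odd (Nat.card ↥M) := hU.of_dvd_nat (card_dvd_of_le hMU.le)
  have hAM : A ≤ normalizer (M : Set G) := hAU.trans hMn
  set M0 := ⨆ a : {a : G // a ∈ A ∧ a ≠ 1}, P a ⊓ M with hM0
  have hPM0 : ∀ a ∈ A, a ≠ 1 → P a ⊓ M ≤ M0 := fun a ha ha1 =>
    le_iSup (fun a : {a : G // a ∈ A ∧ a ≠ 1} => P a ⊓ M) ⟨a, ha, ha1⟩
  have hM0M : M0 ≤ M := iSup_le fun _ => inf_le_right
  have hM0n : ∀ g ∈ normalizer (M : Set G), (∀ a ∈ A, a ≠ 1 → g ∈ normalizer (P a : Set G)) →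
      g ∈ normalizer (M0 : Set G) := fun g hg h =>
    iInf_normalizer_le_normalizer_iSup _ (mem_iInf.2 fun a =>
      inf_normalizer_le_normalizer_inf ⟨h a a.2.1 a.2.2, hg⟩)
  have hAM0 : A ≤ normalizer (M0 : Set G) := fun g hg =>
    hM0n g (hAM hg) fun a ha ha1 => hAP a ha ha1 hg
  have hM0o : Odd (Nat.card ↥M0) := hMo.of_dvd_nat (card_dvd_of_le hM0M)
  have hM0C : M0 ⊓ centralizer (A : Set G) ≤ R ⊓ M := by
    refine ih M0 (lt_of_le_of_lt hM0M hMU) (fun a => P a ⊓ M) (R ⊓ M) hM0o hAM0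
      (fun a ha ha1 => le_inf (hPM0 a ha ha1) (inf_le_left.trans ((hPU a ha ha1).trans inf_le_right)))
      (fun a ha ha1 => (le_inf (hAP a ha ha1) hAM).trans inf_normalizer_le_normalizer_inf)
      (fun a ha ha1 => ?_) (fun a ha ha1 b hb hb1 hab v hv h1 h2 =>
        ⟨hinv a ha ha1 b hb hb1 hab v (hMU.le (hM0M hv)) h1 h2, hM0M hv⟩)
      (fun a ha ha1 => by rw [inf_right_comm, hR a ha ha1]) le_rfl
    refine le_trans (le_inf ?_ ?_) inf_normalizer_le_normalizer_inf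
    · exact (inf_le_inf_right _ (hM0M.trans hMU.le)).trans (hUP a ha ha1)
    · exact inf_le_left.trans ((hM0M.trans hMU.le).trans (le_normalizer.trans hMn))
  have hRP : ∀ a ∈ A, a ≠ 1 → R ≤ P a := fun a ha ha1 => (hR a ha ha1).ge.trans inf_le_left
  -- `C_U(A)` normalises every piece
  have hCP : ∀ g ∈ U ⊓ centralizer (A : Set G), g ∈ normalizer (M0 : Set G) := fun g hg =>
    hM0n g (hMn (le_normalizer hg.1)) fun a ha ha1 =>
      hUP a ha ha1 ⟨hg.1, mem_centralizer_singleton_iff.2 (mem_centralizer_iff.1 hg.2 a ha).symm⟩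
  -- `M = M0 C_M(A)`
  have hMeq : M ≤ M0 ⊔ M ⊓ centralizer (A : Set G) := by
    refine le_of_centralizers_le hA h4 hMo hAM fun a ha ha1 x hx => ?_
    obtain ⟨b, hb, hb1, hab⟩ := exists_other hA h4 ha
    have hbn : b ∈ normalizer ((M ⊓ centralizer ({a} : Set G) : Subgroup G) : Set G) :=
      inf_normalizer_le_normalizer_inf ⟨hAM hb, le_normalizer
        (mem_centralizer_singleton_iff.2 (PGroups.elemAb_comm hA hb ha))⟩
    obtain ⟨c, ⟨hcM, hca⟩, v, ⟨hvM, hva⟩, hbc, hbv, rfl⟩ :=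
      exists_decomp (hMo.of_dvd_nat (card_dvd_of_le inf_le_left)) (hsq hb) hbn hx
    refine mul_mem (mem_sup_right ⟨hcM, mem_centralizer_four hA h4 ha ha1 hb hb1 hab
      (mem_centralizer_singleton_iff.1 hca).symm hbc⟩) (mem_sup_left (hPM0 a ha ha1
        ⟨hinv a ha ha1 b hb hb1 hab v (hMU.le hvM)
          (mem_centralizer_singleton_iff.1 hva).symm hbv, hvM⟩))
  have hMC : M ⊓ centralizer (A : Set G) ≤ normalizer (M0 : Set G) := fun g hg =>
    hCP g ⟨hMU.le hg.1, hg.2⟩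
  have hMmul : ∀ w ∈ M, ∃ m ∈ M0, ∃ c ∈ M ⊓ centralizer (A : Set G), w = m * c := by
    intro w hw
    have h1 : w ∈ ((M0 ⊔ M ⊓ centralizer (A : Set G) : Subgroup G) : Set G) := hMeq hw
    rw [coe_mul_of_right_le_normalizer_left _ _ hMC] at h1
    obtain ⟨m, hm, c, hc, rfl⟩ := h1
    exact ⟨m, hm, c, hc, rfl⟩
  -- conjugation by `A` is trivial on `M` modulo `M0`
  have hMtriv : ∀ a ∈ A, ∀ w ∈ M, a * w * a⁻¹ * w⁻¹ ∈ M0 := by
    intro a ha w hw
    obtain ⟨m, hm, c, hc, rfl⟩ := hMmul w hw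
    have hac := mem_centralizer_iff.1 hc.2 a ha
    have e : a * (m * c) * a⁻¹ * (m * c)⁻¹ = (a * m * a⁻¹) * ((a * c) * a⁻¹ * c⁻¹) * m⁻¹ := by group
    rw [e, hac, mul_inv_cancel_right, mul_inv_cancel, mul_one]
    exact mul_mem ((mem_normalizer_iff.1 (hAM0 ha) m).1 hm) (inv_mem hm)
  -- inverted elements of `M` lie in `M0`
  have hMinv : ∀ a ∈ A, ∀ w ∈ M, a * w * a⁻¹ = w⁻¹ → w ∈ M0 := by
    intro a ha w hw he
    refine mem_of_sq_mem hMo hw ?_
    have h1 := inv_mem (hMtriv a ha w hw)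
    rwa [he, mul_inv_rev, inv_inv] at h1
  have hM0a : ∀ a ∈ A, a ≠ 1 → M0 ⊓ centralizer ({a} : Set G) ≤ P a := by
    intro a ha ha1 x hx
    obtain ⟨b, hb, hb1, hab⟩ := exists_other hA h4 ha
    have hbn : b ∈ normalizer ((M0 ⊓ centralizer ({a} : Set G) : Subgroup G) : Set G) :=
      inf_normalizer_le_normalizer_inf ⟨hAM0 hb, le_normalizer
        (mem_centralizer_singleton_iff.2 (PGroups.elemAb_comm hA hb ha))⟩
    obtain ⟨c, ⟨hcM, hca⟩, v, ⟨hvM, hva⟩, hbc, hbv, rfl⟩ :=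
      exists_decomp (hM0o.of_dvd_nat (card_dvd_of_le inf_le_left)) (hsq hb) hbn hx
    exact mul_mem (hRP a ha ha1 (hM0C ⟨hcM, mem_centralizer_four hA h4 ha ha1 hb hb1 hab
      (mem_centralizer_singleton_iff.1 hca).symm hbc⟩).1)
      (hinv a ha ha1 b hb hb1 hab v (hMU.le (hM0M hvM))
        (mem_centralizer_singleton_iff.1 hva).symm hbv)
  -- `M0` is normal in `U`
  have hUn : U ≤ normalizer (M0 : Set G) := by
    refine hgen.trans (iSup_le fun a p hp => mem_normalizer_of_map_le ?_)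
    obtain ⟨⟨a, ha, ha1⟩, rfl⟩ : ∃ a' : {a : G // a ∈ A ∧ a ≠ 1}, a' = a := ⟨a, rfl⟩
    rintro _ ⟨x, hx, rfl⟩
    show p * x * p⁻¹ ∈ M0
    obtain ⟨hpU, hpa⟩ := hPU a ha ha1 hp
    obtain ⟨c, hc, v, hv, hac, hav, rfl⟩ := exists_decomp hM0o (hsq ha) (hAM0 ha) hx
    rw [show p * (c * v) * p⁻¹ = (p * c * p⁻¹) * (p * v * p⁻¹) by group]
    have hpc : a * p = p * a := (mem_centralizer_singleton_iff.1 hpa).symm
    refine mul_mem (hPM0 a ha ha1 ⟨mul_mem (mul_mem hp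
      (hM0a a ha ha1 ⟨hc, mem_centralizer_singleton_iff.2 hac.symm⟩)) ((P a).inv_mem hp),
        (mem_normalizer_iff.1 (hMn (le_normalizer hpU)) c).1 (hM0M hc)⟩) ?_
    refine hMinv a ha _ ((mem_normalizer_iff.1 (hMn (le_normalizer hpU)) v).1 (hM0M hv)) ?_
    calc a * (p * v * p⁻¹) * a⁻¹ = (a * p) * v * (a * p)⁻¹ := by group
      _ = p * (a * v * a⁻¹) * p⁻¹ := by rw [hpc]; group
      _ = (p * v * p⁻¹)⁻¹ := by rw [hav]; group
  -- the quotient by `M0` is abelian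
  haveI hnorm : (M0.subgroupOf U).Normal := normal_subgroupOf_of_le_normalizer hUn
  set π := QuotientGroup.mk' (M0.subgroupOf U) with hπ
  have hπ1 : ∀ {x : G} (hx : x ∈ U), π ⟨x, hx⟩ = 1 ↔ x ∈ M0 := fun hx =>
    (QuotientGroup.eq_one_iff _).trans mem_subgroupOf
  let cen : ↥U → Subgroup G := fun x => ((centralizer {π x}).comap π).map U.subtype
  have hcen : ∀ (x : ↥U) {y : G}, y ∈ cen x ↔ ∃ hy : y ∈ U, Commute (π x) (π ⟨y, hy⟩) := by
    intro x y
    constructor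
    · rintro ⟨y, hy, rfl⟩
      exact ⟨y.2, (mem_centralizer_singleton_iff.1 hy).symm⟩
    · rintro ⟨hy, h⟩
      exact ⟨⟨y, hy⟩, mem_centralizer_singleton_iff.2 h.eq.symm, rfl⟩
  have hsplit : ∀ a ∈ A, a ≠ 1 → ∀ b ∈ A, b ≠ 1 → b ≠ a → ∀ p ∈ P a,
      ∃ r ∈ R, ∃ v ∈ P a, a * v = v * a ∧ b * v * b⁻¹ = v⁻¹ ∧ p = r * v := by
    intro a ha ha1 b hb hb1 hab p hp
    obtain ⟨c, hc, v, hv, hbc, hbv, rfl⟩ := exists_decomp
      (hU.of_dvd_nat (card_dvd_of_le ((hPU a ha ha1).trans inf_le_left))) (hsq hb)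
      (hAP a ha ha1 hb) hp
    refine ⟨c, ?_, v, hv, (mem_centralizer_singleton_iff.1 (hPU a ha ha1 hv).2).symm, hbv, rfl⟩
    rw [← hR a ha ha1]
    exact ⟨hc, mem_centralizer_four hA h4 ha ha1 hb hb1 hab
      (mem_centralizer_singleton_iff.1 (hPU a ha ha1 hc).2).symm hbc⟩
  have hsame : ∀ a ∈ A, a ≠ 1 → ∀ p (hpU : p ∈ U), p ∈ P a → ∀ q (hqU : q ∈ U), q ∈ P a →
      Commute (π ⟨p, hpU⟩) (π ⟨q, hqU⟩) := by
    intro a ha ha1 p hpU hp q hqU hq
    refine commutatorElement_eq_one_iff_mul_comm.1 ?_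
    rw [← map_commutatorElement]
    refine (hπ1 (⁅(⟨p, hpU⟩ : ↥U), (⟨q, hqU⟩ : ↥U)⁆ : ↥U).2).2 (hPM0 a ha ha1 ⟨?_, ?_⟩)
    · exact mul_mem (mul_mem (mul_mem hp hq) ((P a).inv_mem hp)) ((P a).inv_mem hq)
    · exact commutator_mem_commutator hpU hqU
  have hdiff : ∀ a ∈ A, a ≠ 1 → ∀ b ∈ A, b ≠ 1 → b ≠ a →
      ∀ u (huU : u ∈ U), a * u = u * a → ∀ v (hvU : v ∈ U), a * v * a⁻¹ = v⁻¹ →
      Commute (π ⟨u, huU⟩) (π ⟨v, hvU⟩) := by
    intro a ha ha1 b hb hb1 hab u huU hau v hvU hav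
    set u' := π ⟨u, huU⟩
    set v' := π ⟨v, hvU⟩
    set y := ⁅u, v⁆ with hy
    have hyM : y ∈ M := commutator_mem_commutator huU hvU
    have e : a * y * a⁻¹ = u * v⁻¹ * u⁻¹ * v := by
      have hau' : a * u * a⁻¹ = u := mul_inv_eq_iff_eq_mul.2 hau
      rw [hy, commutatorElement_def]
      calc a * (u * v * u⁻¹ * v⁻¹) * a⁻¹ =
          (a * u * a⁻¹) * (a * v * a⁻¹) * (a * u * a⁻¹)⁻¹ * (a * v * a⁻¹)⁻¹ := by group
        _ = _ := by rw [hau', hav, inv_inv]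
    have h1 := hMtriv a ha y hyM
    rw [e, hy, commutatorElement_def] at h1
    have h2 : π ((⟨u, huU⟩ * ⟨v, hvU⟩⁻¹ * ⟨u, huU⟩⁻¹ * ⟨v, hvU⟩) *
        (⟨u, huU⟩ * ⟨v, hvU⟩ * ⟨u, huU⟩⁻¹ * ⟨v, hvU⟩⁻¹)⁻¹) = 1 :=
      (QuotientGroup.eq_one_iff _).2 (mem_subgroupOf.2 h1)
    simp only [map_mul, map_inv] at h2
    have h3 := mul_inv_eq_one.1 h2
    have h4' : v'⁻¹ * u'⁻¹ * v' = v' * u'⁻¹ * v'⁻¹ := mul_left_cancel
      (show u' * (v'⁻¹ * u'⁻¹ * v') = u' * (v' * u'⁻¹ * v'⁻¹) by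
        simpa only [mul_assoc] using h3)
    have h5 : Commute u'⁻¹ (v' * v') := by
      calc u'⁻¹ * (v' * v') = v' * (v'⁻¹ * u'⁻¹ * v') * v' := by group
        _ = v' * (v' * u'⁻¹ * v'⁻¹) * v' := by rw [h4']
        _ = v' * v' * u'⁻¹ := by group
    have h6 : v' ∈ centralizer ({u'} : Set (↥U ⧸ M0.subgroupOf U)) := by
      refine mem_of_sq_mem (U := ⊤) ?_ (mem_top _)
        (mem_centralizer_singleton_iff.2 ((Commute.inv_left_iff.1 h5).eq.symm))
      rw [card_top]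
      exact hU.of_dvd_nat (card_quotient_dvd_card _)
    exact (mem_centralizer_singleton_iff.1 h6).symm
  have hPcen : ∀ a ∈ A, a ≠ 1 → ∀ p (hpU : p ∈ U), p ∈ P a →
      ∀ b : {b : G // b ∈ A ∧ b ≠ 1}, P b ≤ cen ⟨p, hpU⟩ := by
    rintro a ha ha1 p hpU hp ⟨b, hb, hb1⟩ q hq
    have hqU := (hPU b hb hb1 hq).1
    refine (hcen _).2 ⟨hqU, ?_⟩
    rcases eq_or_ne b a with rfl | hab
    · exact hsame b hb hb1 p hpU hp q hqU hq
    obtain ⟨r, hr, v, hv, hbv', hav, rfl⟩ := hsplit b hb hb1 a ha ha1 hab.symm q hq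
    have hrU := (hPU a ha ha1 (hRP a ha ha1 hr)).1
    have hvU := (hPU b hb hb1 hv).1
    rw [show π ⟨r * v, hqU⟩ = π ⟨r, hrU⟩ * π ⟨v, hvU⟩ from map_mul π ⟨r, hrU⟩ ⟨v, hvU⟩]
    exact (hsame a ha ha1 p hpU hp r hrU (hRP a ha ha1 hr)).mul_right
      (hdiff a ha ha1 b hb hb1 hab p hpU
        (mem_centralizer_singleton_iff.1 (hPU a ha ha1 hp).2).symm v hvU hav)
  have hcomm : ∀ x y : ↥U, Commute (π x) (π y) := by
    intro x y
    have h1 : ∀ a : {a : G // a ∈ A ∧ a ≠ 1}, P a ≤ cen y := by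
      intro a p hp
      have hpU := (hPU a a.2.1 a.2.2 hp).1
      obtain ⟨_, h⟩ := (hcen _).1 (hgen.trans (iSup_le (hPcen a a.2.1 a.2.2 p hpU hp)) y.2)
      exact (hcen y).2 ⟨hpU, h.symm⟩
    obtain ⟨_, h⟩ := (hcen _).1 (hgen.trans (iSup_le h1) x.2)
    exact h.symm
  letI : CommGroup (↥U ⧸ M0.subgroupOf U) :=
    { (inferInstance : Group (↥U ⧸ M0.subgroupOf U)) with
      mul_comm := fun x y => by
        obtain ⟨x, rfl⟩ := QuotientGroup.mk'_surjective _ x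
        obtain ⟨y, rfl⟩ := QuotientGroup.mk'_surjective _ y
        exact (hcomm x y).eq }
  -- the norm
  obtain ⟨a, ha, ha1⟩ : ∃ a ∈ A, a ≠ 1 := by
    refine A.bot_or_exists_ne_one.resolve_left fun e => ?_
    rw [e, card_bot] at h4; omega
  obtain ⟨b, hb, hb1, hab⟩ := exists_other hA h4 ha
  let φ : ∀ t ∈ A, ↥U →* ↥U := fun t ht =>
    MonoidHom.mk' (fun y => ⟨t * y * t⁻¹, (mem_normalizer_iff.1 (hAU ht) _).1 y.2⟩)
      fun y z => Subtype.ext (by simp [mul_assoc])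
  let F : ↥U →* ↥U ⧸ M0.subgroupOf U :=
    π * π.comp (φ a ha) * π.comp (φ b hb) * π.comp (φ (a * b) (mul_mem ha hb))
  have hF : ∀ y : ↥U, F y = π y * π (φ a ha y) * π (φ b hb y) *
      π (φ (a * b) (mul_mem ha hb) y) := fun _ => rfl
  have hφR : ∀ t (ht : t ∈ A) (y : ↥U), (y : G) ∈ centralizer (A : Set G) → φ t ht y = y :=
    fun t ht y hy => Subtype.ext (mul_inv_eq_iff_eq_mul.2 (mem_centralizer_iff.1 hy t ht))
  set T := ((R.subgroupOf U).map π).comap F with hT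
  have hPT : ∀ x : {x : G // x ∈ A ∧ x ≠ 1}, P x ≤ T.map U.subtype := by
    rintro ⟨x, hx, hx1⟩ p hp
    have hpU := (hPU x hx hx1 hp).1
    refine ⟨⟨p, hpU⟩, ?_, rfl⟩
    show F ⟨p, hpU⟩ ∈ (R.subgroupOf U).map π
    obtain ⟨y, hy, hy1, hxy⟩ := exists_other hA h4 hx
    obtain ⟨r, hr, v, hv, hxv, hyv, rfl⟩ := hsplit x hx hx1 y hy hy1 hxy p hp
    have hrU := (hPU x hx hx1 (hRP x hx hx1 hr)).1
    have hrC : r ∈ centralizer (A : Set G) := by rw [← hR x hx hx1] at hr; exact hr.2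
    have hvU := (hPU x hx hx1 hv).1
    rw [show F ⟨r * v, hpU⟩ = F ⟨r, hrU⟩ * F ⟨v, hvU⟩ from map_mul F ⟨r, hrU⟩ ⟨v, hvU⟩]
    refine mul_mem ?_ ?_
    · have hm : π ⟨r, hrU⟩ ∈ (R.subgroupOf U).map π := mem_map_of_mem _ (mem_subgroupOf.2 hr)
      rw [hF, hφR a ha _ hrC, hφR b hb _ hrC, hφR _ (mul_mem ha hb) _ hrC]
      exact mul_mem (mul_mem (mul_mem hm hm) hm) hm
    · -- two of the three involutions invert `v`
      have hfix : ∀ t (ht : t ∈ A), t = x → φ t ht ⟨v, hvU⟩ = ⟨v, hvU⟩ := by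
        rintro t ht rfl
        exact Subtype.ext (mul_inv_eq_iff_eq_mul.2 hxv)
      have hneg : ∀ t (ht : t ∈ A), t ≠ 1 → t ≠ x → φ t ht ⟨v, hvU⟩ = ⟨v, hvU⟩⁻¹ := by
        intro t ht ht1 htx
        refine Subtype.ext ?_
        show t * v * t⁻¹ = v⁻¹
        rcases four_eq hA h4 hx hx1 hy hy1 hxy ht with rfl | rfl | rfl | rfl
        · exact absurd rfl ht1
        · exact absurd rfl htx
        · exact hyv
        · calc x * y * v * (x * y)⁻¹ = x * (y * v * y⁻¹) * x⁻¹ := by group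
            _ = _ := by rw [hyv, ← conj_inv, mul_inv_eq_iff_eq_mul.2 hxv]
      have hab1 : a * b ≠ 1 := fun e => hab (mul_left_cancel (e.trans (hsq ha).symm))
      have haba : a * b ≠ a := by simpa using hb1
      have habb : a * b ≠ b := by simpa using ha1
      have hF1 : F ⟨v, hvU⟩ = 1 := by
        rw [hF]
        rcases four_eq hA h4 ha ha1 hb hb1 hab hx with e | e | e | e
        · exact absurd e hx1
        · rw [hfix a ha e.symm, hneg b hb hb1 (e ▸ hab), hneg _ (mul_mem ha hb) hab1 (e ▸ haba), map_inv,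
            mul_inv_cancel_right, mul_inv_cancel]
        · rw [hfix b hb e.symm, hneg a ha ha1 (e ▸ hab.symm), hneg _ (mul_mem ha hb) hab1 (e ▸ habb), map_inv,
            mul_inv_cancel, one_mul, mul_inv_cancel]
        · rw [hfix _ (mul_mem ha hb) e.symm, hneg a ha ha1 (e ▸ haba.symm), hneg b hb hb1 (e ▸ habb.symm),
            map_inv, mul_inv_cancel, one_mul, inv_mul_cancel]
      rw [hF1]
      exact one_mem _
  rintro x ⟨hxU, hxA⟩
  obtain ⟨⟨x', hx'U⟩, hx', hxe⟩ := hgen.trans (iSup_le hPT) hxU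
  obtain rfl : x' = x := hxe
  change F ⟨x', hx'U⟩ ∈ (R.subgroupOf U).map π at hx'
  rw [hF, hφR a ha _ hxA, hφR b hb _ hxA, hφR _ (mul_mem ha hb) _ hxA] at hx'
  have ho : Odd (Nat.card ↥(⊤ : Subgroup (↥U ⧸ M0.subgroupOf U))) := by
    rw [card_top]; exact hU.of_dvd_nat (card_quotient_dvd_card _)
  obtain ⟨⟨r, hrU⟩, hr, hre⟩ : π ⟨x', hx'U⟩ ∈ (R.subgroupOf U).map π :=
    mem_of_sq_mem ho (mem_top _) (mem_of_sq_mem ho (mem_top _) (by rwa [mul_assoc] at hx'))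
  have hr' : r ∈ R := mem_subgroupOf.1 hr
  have hm : r⁻¹ * x' ∈ M0 := (hπ1 (mul_mem (inv_mem hrU) hx'U)).1 (by
    rw [show π ⟨r⁻¹ * x', _⟩ = (π ⟨r, hrU⟩)⁻¹ * π ⟨x', hx'U⟩ from
      map_mul π (⟨r, hrU⟩⁻¹) ⟨x', hx'U⟩, hre, inv_mul_cancel])
  have hrC : r ∈ centralizer (A : Set G) := by rw [← hR a ha ha1] at hr'; exact hr'.2
  rw [show x' = r * (r⁻¹ * x') by group]
  exact mul_mem hr' (hM0C ⟨hm, mul_mem ((centralizer (A : Set G)).inv_mem hrC) hxA⟩).1

end Four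

end Cfsg.Agent.Lib.Goldschmidt53.RankTwoKey
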