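import Cfsg.Agent.Lib.Goldschmidt53.RankTwoCentralizer
import Cfsg.Agent.Lib.Goldschmidt53.RankTwoKey
import Cfsg.Agent.Lib.Goldschmidt53.RankTwoBadDefs
import Cfsg.Agent.Lib.Signalizer.Complete

/-!
# Goldschmidt's theorem, section R: rank two with an involution outside `A`

helper58.  For a good involution `x` outside `A` the odd cores of the centralisers of involutions of
`A` extend to a signalizer functor on `A⟨x⟩`, so the normaliser of its completion is proper and
contains the centralisers of the involutions of `A`.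
-/

set_option autoImplicit false
set_option linter.style.haveILetI false
set_option linter.unusedSectionVars false

universe u

namespace Cfsg.Agent.Lib.Goldschmidt53

open Subgroup
open Cfsg.Agent.Lib.Walter (coreC core)

namespace RankTwoBig

variable {G : Type u} [Group G]

/-- The value at an involution outside `A`. -/
def spanCore (A : Subgroup G) (y : G) : Subgroup G :=
  ⨆ a : {a : G // a ∈ A ∧ a ≠ 1}, core (a : G) ⊓ centralizer ({y} : Set G)

open Classical in
/-- The signalizer functor on `A⟨x⟩`. -/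
noncomputable def theta (A : Subgroup G) (y : G) : Subgroup G :=
  if y ∈ A then core y else spanCore A y

theorem theta_of_mem {A : Subgroup G} {y : G} (hy : y ∈ A) : theta A y = core y := if_pos hy

theorem theta_of_notMem {A : Subgroup G} {y : G} (hy : y ∉ A) : theta A y = spanCore A y :=
  if_neg hy

variable [Finite G] {S : Sylow 2 G} {A : Subgroup G}

theorem le_spanCore {a : G} (ha : a ∈ A) (ha1 : a ≠ 1) (y : G) :
    core a ⊓ centralizer ({y} : Set G) ≤ spanCore A y :=
  le_iSup (fun a : {a : G // a ∈ A ∧ a ≠ 1} => core (a : G) ⊓ centralizer ({y} : Set G)) ⟨a, ha, ha1⟩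

theorem spanCore_le {y : G} (hgood : GoodInv A y) : spanCore A y ≤ core y :=
  iSup_le fun a => hgood a a.2.1 a.2.2

/-- What commutes with `a` and `y` normalises the pieces. -/
theorem mem_normalizer_piece {a y g : G} (ha : g * a = a * g) (hy : g * y = y * g) :
    g ∈ normalizer ((core a ⊓ centralizer ({y} : Set G) : Subgroup G) : Set G) :=
  inf_normalizer_le_normalizer_inf
    ⟨Walter.centralizer_le_normalizer_core a (mem_centralizer_singleton_iff.2 ha),
      le_normalizer (mem_centralizer_singleton_iff.2 hy)⟩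

theorem mem_normalizer_spanCore (h : Hyp S A) {y g : G} (hgA : g ∈ centralizer (A : Set G))
    (hgy : g * y = y * g) : g ∈ normalizer (spanCore A y : Set G) :=
  iInf_normalizer_le_normalizer_iSup _ (mem_iInf.2 fun a =>
    mem_normalizer_piece (mem_centralizer_iff.1 hgA a a.2.1).symm hgy)

/-- In a good span the centraliser of `a` lies in the core. -/
theorem spanCore_inf_le (hL : PropFacts.{u}) (hX : PropLocal.{u}) (h : Hyp S A)
    (h4 : Nat.card ↥A = 4) (hcA : ∀ s ∈ (S : Subgroup G), ∀ a ∈ A, s * a = a * s) {y : G}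
    (hyA : ∀ a ∈ A, y * a = a * y) (hgood : GoodInv A y) {a : G} (ha : a ∈ A) (ha1 : a ≠ 1) :
    spanCore A y ⊓ centralizer ({a} : Set G) ≤ core a := by
  have hUy : spanCore A y ≤ centralizer ({y} : Set G) := iSup_le fun _ => inf_le_right
  have hUo : Odd (Nat.card ↥(spanCore A y)) :=
    (Walter.odd_core y).of_dvd_nat (card_dvd_of_le (spanCore_le hgood))
  have hAC : ∀ {b : G}, b ∈ A → b ∈ centralizer (A : Set G) := fun hb =>
    mem_centralizer_iff.2 fun c hc => h.commute hc hb
  have hinv : ∀ a ∈ A, a ≠ 1 → ∀ b ∈ A, b ≠ 1 → b ≠ a → ∀ v ∈ spanCore A y,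
      a * v = v * a → b * v * b⁻¹ = v⁻¹ → v ∈ core a ⊓ centralizer ({y} : Set G) := by
    intro a ha ha1 b hb _ _ v hv hav hbv
    refine ⟨?_, hUy hv⟩
    obtain ⟨c, hc, hcv⟩ := RankTwoCentralizer.exists_core_mul_centralizer hL hX h h4 hcA ha ha1
      (g := v) (mem_centralizer_singleton_iff.2 hav.symm)
    refine RankTwoKey.mem_of_sq_mem hUo hv ?_
    have hbc : b * c * b⁻¹ ∈ core a := (mem_normalizer_iff.1
      (Walter.centralizer_le_normalizer_core a
        (mem_centralizer_singleton_iff.2 (h.commute hb ha))) c).1 hc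
    have e : (b * c * b⁻¹) * v⁻¹ = c * v := by
      rw [← hbv]
      calc b * c * b⁻¹ * (b * v * b⁻¹) = b * (c * v) * b⁻¹ := by group
        _ = c * v := mul_inv_eq_iff_eq_mul.2 (mem_centralizer_iff.1 hcv b hb)
    have e2 : v * v = c⁻¹ * (b * c * b⁻¹) := by
      calc v * v = c⁻¹ * (c * v) * v := by group
        _ = c⁻¹ * ((b * c * b⁻¹) * v⁻¹) * v := by rw [e]
        _ = _ := by group
    rw [e2]
    exact mul_mem (inv_mem hc) hbc
  have hR : ∀ a ∈ A, a ≠ 1 → core a ⊓ centralizer ({y} : Set G) ⊓ centralizer (A : Set G) =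
      coreC A ⊓ centralizer ({y} : Set G) := fun a ha ha1 => by
    rw [inf_right_comm, RankTwoCentralizer.core_inf_eq hL hX h h4 hcA ha ha1]
  have hkey := RankTwoKey.key h.elem h4 (spanCore A y)
    (fun a => core a ⊓ centralizer ({y} : Set G)) (coreC A ⊓ centralizer ({y} : Set G)) hUo
    (fun b hb => mem_normalizer_spanCore h (hAC hb) (hyA b hb).symm)
    (fun a ha ha1 => le_inf (le_spanCore ha ha1 y) (inf_le_left.trans (Walter.core_le a)))
    (fun a ha _ b hb => mem_normalizer_piece (h.commute hb ha) (hyA b hb).symm)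
    (fun a _ _ g hg => mem_normalizer_piece (mem_centralizer_singleton_iff.1 hg.2)
      (mem_centralizer_singleton_iff.1 (hUy hg.1)))
    hinv hR le_rfl
  intro x hx
  obtain ⟨b, hb, hb1, hab⟩ := RankTwoKey.exists_other h.elem h4 ha
  have hbn : b ∈ normalizer ((spanCore A y ⊓ centralizer ({a} : Set G) : Subgroup G) : Set G) :=
    inf_normalizer_le_normalizer_inf ⟨mem_normalizer_spanCore h (hAC hb) (hyA b hb).symm,
      le_normalizer (mem_centralizer_singleton_iff.2 (h.commute hb ha))⟩
  obtain ⟨c, ⟨hcU, hca⟩, v, ⟨hvU, hva⟩, hbc, hbv, rfl⟩ := RankTwoKey.exists_decomp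
    (hUo.of_dvd_nat (card_dvd_of_le inf_le_left))
    (by rw [← pow_two]; exact PGroups.elemAb_pow h.elem hb) hbn hx
  refine mul_mem ?_ (hinv a ha ha1 b hb hb1 hab v hvU
    (mem_centralizer_singleton_iff.1 hva).symm hbv).1
  have hc := hkey ⟨hcU, RankTwoKey.mem_centralizer_four h.elem h4 ha ha1 hb hb1 hab
    (mem_centralizer_singleton_iff.1 hca).symm hbc⟩
  rw [← hR a ha ha1] at hc
  exact hc.1.1

end RankTwoBig

open RankTwoBig in
/-- Section R: rank two with an involution of `S` outside `A`. -/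
theorem rankTwoBig (hL : PropFacts.{u}) (hX : PropLocal.{u}) (hG : PropGoodExists.{u}) :
    PropRankTwoBig.{u} := by
  intro G _ _ S A h h4 hA' hcA hex
  haveI : Fact (Nat.Prime 2) := ⟨Nat.prime_two⟩
  obtain ⟨x, hxS, hx2, hxA, hgood⟩ := hG G S A h h4 hA' hcA hex
  have hxc : ∀ a ∈ A, x * a = a * x := hcA x hxS
  have hxx : x * x = 1 := by rw [← pow_two, ← hx2]; exact pow_orderOf_eq_one x
  set E := A ⊔ zpowers x with hE
  have hxC : zpowers x ≤ centralizer (A : Set G) :=
    zpowers_le.2 (mem_centralizer_iff.2 fun a ha => (hxc a ha).symm)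
  have hmemE : ∀ y ∈ E, y ∈ A ∨ ∃ b ∈ A, y = x * b := by
    intro y hy
    have h1 : y ∈ ((A ⊔ zpowers x : Subgroup G) : Set G) := hy
    rw [coe_mul_of_right_le_normalizer_left _ _ (hxC.trans (centralizer_le_normalizer _))] at h1
    obtain ⟨b, hb, _, ⟨k, rfl⟩, rfl⟩ := h1
    rcases Int.even_or_odd k with ⟨j, rfl⟩ | ⟨j, rfl⟩
    · left
      show b * x ^ (j + j) ∈ A
      rw [zpow_add, ← (Commute.refl x).mul_zpow, hxx, one_zpow, mul_one]
      exact hb
    · right
      refine ⟨b, hb, ?_⟩
      show b * x ^ (2 * j + 1) = x * b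
      rw [zpow_add_one, zpow_mul, zpow_two, hxx, one_zpow, one_mul, hxc b hb]
  have hyE : ∀ y ∈ E, y ∉ A → (∀ a ∈ A, y * a = a * y) ∧ GoodInv A y := by
    intro y hy hyA
    obtain ⟨b, hb, rfl⟩ := (hmemE y hy).resolve_left hyA
    exact ⟨fun a ha => (Commute.mul_left (show Commute x a from hxc a ha)
      (show Commute b a from h.commute hb ha)).eq, hgood b hb⟩
  have hEle : E ≤ centralizer (A : Set G) :=
    sup_le (fun a ha => mem_centralizer_iff.2 fun c hc => h.commute hc ha) hxC
  have hEx : ∀ y ∈ E, y * x = x * y := by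
    intro y hy
    rcases hmemE y hy with hy' | ⟨b, hb, rfl⟩
    · exact (hxc y hy').symm
    · rw [mul_assoc, (hxc b hb).symm]
  have hEc : ∀ y ∈ E, ∀ z ∈ E, y * z = z * y := by
    intro y hy z hz
    rcases hmemE z hz with hz' | ⟨b, hb, rfl⟩
    · exact (mem_centralizer_iff.1 (hEle hy) z hz').symm
    · exact (Commute.mul_right (show Commute y x from hEx y hy)
        (show Commute y b from (mem_centralizer_iff.1 (hEle hy) b hb).symm)).eq
  have hEel : Cfsg.IsElementaryAbelian 2 E := by
    refine PGroups.elemAb_mk hEc fun y hy => ?_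
    rcases hmemE y hy with hy' | ⟨b, hb, rfl⟩
    · exact PGroups.elemAb_pow h.elem hy'
    · rw [(show Commute x b from hxc b hb).mul_pow, pow_two, hxx, one_mul,
        PGroups.elemAb_pow h.elem hb]
  have hE8 : 2 ^ 3 ≤ Nat.card ↥E := by
    obtain ⟨k, hk⟩ : Nat.card ↥A ∣ Nat.card ↥E := card_dvd_of_le le_sup_left
    have hne : Nat.card ↥E ≠ Nat.card ↥A := fun e => hxA
      ((Subgroup.eq_of_le_of_card_ge (le_sup_left : A ≤ E) e.le).ge
        (mem_sup_right (mem_zpowers x)))
    have hpos : 0 < Nat.card ↥E := Nat.card_pos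
    rw [h4] at hk hne
    omega
  -- the functor
  have hcore : ∀ y ∈ E, theta A y ≤ core y := by
    intro y hy
    by_cases hyA : y ∈ A
    · rw [theta_of_mem hyA]
    · rw [theta_of_notMem hyA]; exact spanCore_le (hyE y hy hyA).2
  have hf : Cfsg.IsSolvableSignalizerFunctor 2 E (theta A) := by
    refine ⟨⟨fun y hy _ => (hcore y hy).trans (Walter.core_le y),
      fun y hy _ => ((Walter.odd_core y).of_dvd_nat (card_dvd_of_le (hcore y hy))).not_two_dvd_nat,
      ?_, ?_⟩, fun y hy _ => OddOrder.FeitThompson.isSolvable_of_odd_card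
        ((Walter.odd_core y).of_dvd_nat (card_dvd_of_le (hcore y hy)))⟩
    · intro y hy hy1 z hz w hw
      by_cases hyA : y ∈ A
      · rw [theta_of_mem hyA] at hw ⊢
        exact (mem_normalizer_iff.1 (Walter.centralizer_le_normalizer_core y
          (mem_centralizer_singleton_iff.2 (hEc z hz y hy))) w).1 hw
      · rw [theta_of_notMem hyA] at hw ⊢
        exact (mem_normalizer_iff.1
          (mem_normalizer_spanCore h (hEle hz) (hEc z hz y hy)) w).1 hw
    intro y hy hy1 z hz hz1
    by_cases hyA : y ∈ A <;> by_cases hzA : z ∈ A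
    · rw [theta_of_mem hyA, theta_of_mem hzA]
      rcases eq_or_ne z y with rfl | hne
      · exact inf_le_left
      intro w hw
      have hw' : w ∈ core y ⊓ centralizer (A : Set G) := ⟨hw.1,
        RankTwoKey.mem_centralizer_four h.elem h4 hyA hy1 hzA hz1 hne
          (mem_centralizer_singleton_iff.1 (Walter.core_le y hw.1)).symm
          (mem_centralizer_singleton_iff.1 hw.2).symm⟩
      rw [RankTwoCentralizer.core_inf_eq hL hX h h4 hcA hyA hy1,
        ← RankTwoCentralizer.core_inf_eq hL hX h h4 hcA hzA hz1] at hw'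
      exact hw'.1
    · rw [theta_of_mem hyA, theta_of_notMem hzA]
      exact le_spanCore hyA hy1 z
    · rw [theta_of_notMem hyA, theta_of_mem hzA]
      exact spanCore_inf_le hL hX h h4 hcA (hyE y hy hyA).1 (hyE y hy hyA).2 hzA hz1
    · rw [theta_of_notMem hyA, theta_of_notMem hzA]
      refine RankTwoKey.le_of_centralizers_le h.elem h4
        (((Walter.odd_core y).of_dvd_nat (card_dvd_of_le (spanCore_le (hyE y hy hyA).2))).of_dvd_nat
          (card_dvd_of_le inf_le_left)) (fun a ha => inf_normalizer_le_normalizer_inf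
            ⟨mem_normalizer_spanCore h (mem_centralizer_iff.2 fun c hc => h.commute hc ha)
              (((hyE y hy hyA).1 a ha).symm), le_normalizer (mem_centralizer_singleton_iff.2
                (((hyE z hz hzA).1 a ha).symm))⟩)
        fun a ha ha1 w hw => le_spanCore ha ha1 z ⟨spanCore_inf_le hL hX h h4 hcA
          (hyE y hy hyA).1 (hyE y hy hyA).2 ha ha1 ⟨hw.1.1, hw.2⟩, hw.1.2⟩
  obtain ⟨hW, -⟩ := (Signalizer.completes_two hEel hE8 hf).closure hEel hE8 hf.1
  -- the span of the cores
  set V := ⨆ a : {a : G // a ∈ A ∧ a ≠ 1}, core (a : G) with hVdef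
  have hV : ∀ a ∈ A, a ≠ 1 → core a ≤ V := fun a ha ha1 =>
    le_iSup (fun a : {a : G // a ∈ A ∧ a ≠ 1} => core (a : G)) ⟨a, ha, ha1⟩
  have hVodd : ¬ 2 ∣ Nat.card ↥V := fun h2 => hW.2.1 (h2.trans (card_dvd_of_le (iSup_le fun a =>
    (theta_of_mem a.2.1).ge.trans (le_iSup
      (fun y : {y : G // y ∈ E ∧ y ≠ 1} => theta A (y : G)) ⟨a, mem_sup_left a.2.1, a.2.2⟩))))
  have hNV : normalizer (A : Set G) ≤ normalizer (V : Set G) := by
    intro n hn
    refine RankTwoKey.mem_normalizer_of_map_le ?_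
    rw [hVdef, Subgroup.map_iSup]
    refine iSup_le fun a => ?_
    rw [← Walter.core_conj]
    exact hV _ ((mem_normalizer_iff.1 hn _).1 a.2.1) fun e => a.2.2 (conj_eq_one_iff.1 e)
  have key : ∀ t : G, t ∈ A → orderOf t = 2 → ∀ g ∈ centralizer ({t} : Set G),
      g ∈ normalizer (V : Set G) ∧ (V = ⊥ → g ∈ normalizer (A : Set G)) := by
    intro t ht ht2 g hg
    have ht1 : t ≠ 1 := fun e => by rw [e, orderOf_one] at ht2; omega
    obtain ⟨c, hc, hcg⟩ :=
      RankTwoCentralizer.exists_core_mul_centralizer hL hX h h4 hcA ht ht1 hg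
    have hcV : c ∈ V := hV t ht ht1 hc
    have hcgN : c * g ∈ normalizer (A : Set G) := centralizer_le_normalizer _ hcg
    refine ⟨?_, fun hV0 => ?_⟩
    · rw [show g = c⁻¹ * (c * g) by group]
      exact mul_mem (le_normalizer (V.inv_mem hcV)) (hNV hcgN)
    · rw [hV0, mem_bot] at hcV
      rwa [hcV, one_mul] at hcgN
  haveI := h.simple
  intro htop
  have hsub : centSpan A ≤ normalizer (V : Set G) :=
    iSup_le fun t g hg => (key t t.2.1 t.2.2 g hg).1
  rw [htop, top_le_iff, normalizer_eq_top_iff] at hsub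
  rcases IsSimpleGroup.eq_bot_or_eq_top_of_normal V hsub with h0 | h1
  · have hsubA : centSpan A ≤ normalizer (A : Set G) :=
      iSup_le fun t g hg => (key t t.2.1 t.2.2 g hg).2 h0
    rw [htop, top_le_iff, normalizer_eq_top_iff] at hsubA
    rcases IsSimpleGroup.eq_bot_or_eq_top_of_normal A hsubA with h2 | h2
    · exact h.ne h2
    · exact h.nonabelian ⟨⟨fun x y => h.commute (h2 ▸ mem_top x) (h2 ▸ mem_top y)⟩⟩
  · refine hVodd ?_
    rw [h1, card_top]
    exact (show 2 ∣ Nat.card ↥A by rw [h4]; norm_num).trans A.card_subgroup_dvd_card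

end Cfsg.Agent.Lib.Goldschmidt53
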