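import Cfsg.Agent.Lib.Goldschmidt53.SmallData
import Cfsg.Agent.Lib.Transfer.Hall

/-!
# Goldschmidt's theorem, section J: the small case

Owner: helper73.  `S` centralises `A`.  If some component has an elementary Sylow subgroup then
`A ∩ C(A)' = 1` by transfer and irreducibility, so `S ∩ C(A)'` is strongly closed and disjoint from
`A`, hence trivial and `S` is abelian.  Otherwise two of the components give an absurdity through the
commutators of their Sylow subgroups.
-/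

set_option autoImplicit false
set_option linter.style.haveILetI false
set_option linter.unusedSectionVars false

universe u

namespace Cfsg.Agent.Lib.Goldschmidt53.Small

open Subgroup
open scoped commutatorElement

variable {G : Type u} [Group G] [Finite G] {S : Sylow 2 G} {A : Subgroup G}

/-- A commutator of products with central factors. -/
theorem commutator_central {w w' c c' : G} (e₁ : Commute w c) (e₂ : Commute w c')
    (e₃ : Commute w w') (f₁ : Commute w' c) (f₂ : Commute w' c') :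
    w * c * (w' * c') * (w * c)⁻¹ * (w' * c')⁻¹ = c * c' * c⁻¹ * c'⁻¹ := by
  have hw : Commute w (w' * (c * c' * c⁻¹)) :=
    e₃.mul_right ((e₁.mul_right e₂).mul_right e₁.inv_right)
  have hw' : Commute w' (c * c' * c⁻¹ * c'⁻¹) :=
    ((f₁.mul_right f₂).mul_right f₁.inv_right).mul_right f₂.inv_right
  calc w * c * (w' * c') * (w * c)⁻¹ * (w' * c')⁻¹
      = w * (c * w') * c' * c⁻¹ * w⁻¹ * (w' * c')⁻¹ := by group
    _ = w * (w' * c) * c' * c⁻¹ * w⁻¹ * (w' * c')⁻¹ := by rw [f₁.eq]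
    _ = w * (w' * (c * c' * c⁻¹)) * w⁻¹ * (w' * c')⁻¹ := by group
    _ = w' * (c * c' * c⁻¹) * (w' * c')⁻¹ := by rw [hw.eq, mul_inv_cancel_right]
    _ = w' * (c * c' * c⁻¹ * c'⁻¹) * w'⁻¹ := by group
    _ = c * c' * c⁻¹ * c'⁻¹ := by rw [hw'.eq, mul_inv_cancel_right]

theorem small (hNC : PropNoCover.{u}) (hF : PropFacts.{u}) : PropSmall.{u} := by
  classical
  intro G _ _ S A h hcase
  haveI : Fact (Nat.Prime 2) := ⟨Nat.prime_two⟩
  have hSA := sylow_le_centralizer h hcase.odd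
  -- `A` is central in `S`
  have hcA : ∀ a ∈ A, ∀ s ∈ (S : Subgroup G), a * s = s * a := fun a ha s hs =>
    mem_centralizer_iff.1 (hSA hs) a ha
  have hex : ∀ a ∈ A, a ≠ 1 → ∃ W T C : Subgroup G, Nat.card ↥W = 4 ∧ Data S A W a T C := by
    intro a ha ha1
    obtain ⟨W, hp, hW⟩ := hcase.pair a ha ha1
    obtain ⟨T, C, d⟩ := exists_data hNC hF h hSA ha ha1 hp hW
    exact ⟨W, T, C, hW, d⟩
  have hord : ∀ a ∈ A, Nat.card ↥(zpowers a) ≤ 2 := fun a ha => by
    rw [Nat.card_zpowers]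
    exact Nat.le_of_dvd two_pos (orderOf_dvd_of_pow_eq_one (h.elem.2 a ha))
  by_cases hsplit : ∃ b ∈ A, b ≠ 1 ∧ ∃ W T C : Subgroup G, Data S A W b T C ∧ T ≤ W
  · obtain ⟨b, hb, hb1, W, T, C, d, hTW⟩ := hsplit
    -- `S = W C`
    have hdec : ∀ s ∈ (S : Subgroup G), ∃ w ∈ W, ∃ c ∈ C, s = w * c := by
      intro s hs
      obtain ⟨g, hg, hc⟩ := d.split s hs fun t ht => by
        rw [← hcA t (d.W_le (hTW ht)) s hs, mul_inv_cancel_right, inv_mul_cancel]
        exact one_mem _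
      exact ⟨g, hTW hg, _, hc, (mul_inv_cancel_left g s).symm⟩
    have hS' : ⁅(S : Subgroup G), (S : Subgroup G)⁆ ≤ C := by
      refine commutator_le.2 fun x hx y hy => ?_
      obtain ⟨w, hw, c, hc, rfl⟩ := hdec x hx
      obtain ⟨w', hw', c', hc', rfl⟩ := hdec y hy
      rw [commutatorElement_def, commutator_central (hcA w (d.W_le hw) _ (d.C_le hc))
        (hcA w (d.W_le hw) _ (d.C_le hc')) (hcA w (d.W_le hw) _ (h.closed.1 (d.W_le hw')))
        (hcA w' (d.W_le hw') _ (d.C_le hc)) (hcA w' (d.W_le hw') _ (d.C_le hc'))]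
      exact mul_mem (mul_mem (mul_mem hc hc') (inv_mem hc)) (inv_mem hc')
    set X := centralizer (A : Set G) with hX
    set X' := ⁅X, X⁆ with hX'
    have hXn : ∀ n ∈ normalizer (A : Set G), ∀ x ∈ X', n * x * n⁻¹ ∈ X' := by
      intro n hn x hx
      have hle : X.map (MulAut.conj n).toMonoidHom ≤ X := by
        rintro _ ⟨y, hy, rfl⟩
        refine mem_centralizer_iff.2 fun a ha => ?_
        have h1 : n⁻¹ * a * n ∈ A := by
          have := (mem_normalizer_iff.1 (inv_mem hn) a).1 ha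
          rwa [inv_inv] at this
        have h2 := mem_centralizer_iff.1 hy _ h1
        show a * (n * y * n⁻¹) = n * y * n⁻¹ * a
        calc a * (n * y * n⁻¹) = n * ((n⁻¹ * a * n) * y) * n⁻¹ := by group
          _ = n * (y * (n⁻¹ * a * n)) * n⁻¹ := by rw [h2]
          _ = _ := by group
      have h3 : X'.map (MulAut.conj n).toMonoidHom ≤ X' := by
        rw [hX', Subgroup.map_commutator]
        exact commutator_mono hle hle
      exact h3 (mem_map_of_mem _ hx)
    -- transfer in `C(A)`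
    have hAX' : A ⊓ X' ≤ C := by
      intro z hz
      have hzX : z ∈ X := mem_centralizer_iff.2 fun a ha => h.commute ha hz.1
      have hzc : (⟨z, hzX⟩ : ↥X) ∈ commutator ↥X := by
        have h1 := hz.2
        rw [hX', ← Subgroup.map_subtype_commutator] at h1
        obtain ⟨y, hy, e⟩ := h1
        rwa [show (⟨z, hzX⟩ : ↥X) = y from Subtype.ext e.symm]
      have hmem := Transfer.Hall.mem_commutator_of_mem_center (S.subtype hSA : Subgroup ↥X)
        ((S.subtype hSA).card_coprime_index.symm.coprime_dvd_right (Subgroup.relIndex_dvd_card _ _))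
        (z := ⟨z, hzX⟩) (by rw [Sylow.coe_subtype, mem_subgroupOf]; exact h.closed.1 hz.1) hzc
        (mem_center_iff.2 fun x => Subtype.ext (mem_centralizer_iff.1 x.2 z hz.1).symm)
      refine hS' ?_
      have h2 := mem_map_of_mem X.subtype hmem
      rw [Subgroup.map_commutator, Sylow.coe_subtype, subgroupOf_map_subtype,
        inf_eq_left.2 hSA] at h2
      exact h2
    have hU : A ⊓ X' = ⊥ := by
      rcases h.irreducible (A ⊓ X') inf_le_left fun n hn x hx =>
          ⟨(mem_normalizer_iff.1 hn x).1 hx.1, hXn n hn x hx.2⟩ with e | e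
      · exact e
      · exfalso
        have h1 : A ≤ zpowers b := fun x hx => d.C_inter
          ⟨hAX' (e.symm ▸ hx : x ∈ A ⊓ X'), hx⟩
        have h2 := (Subgroup.card_le_of_le h1).trans (hord b hb)
        rw [hcase.card] at h2
        omega
    have hR : (S : Subgroup G) ⊓ X' = ⊥ := h.eq_bot_of_disjoint (le_inf inf_le_left
        (inf_le_left.trans hSA))
      (by rw [inf_assoc, inf_comm X', hU, inf_bot_eq])
      ⟨inf_le_left, fun x hx g hg => by
        obtain ⟨n, hn, e⟩ := h.fusion hx.1 hg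
        exact ⟨hg, e ▸ hXn n hn x hx.2⟩⟩
    refine ⟨⟨fun x y => Subtype.ext ?_⟩⟩
    have : ⁅(x : G), (y : G)⁆ ∈ (S : Subgroup G) ⊓ X' := ⟨by
      rw [commutatorElement_def]
      exact mul_mem (mul_mem (mul_mem x.2 y.2) ((S : Subgroup G).inv_mem x.2)) ((S : Subgroup G).inv_mem y.2),
      commutator_mem_commutator (hSA x.2) (hSA y.2)⟩
    rw [hR, mem_bot] at this
    exact commutatorElement_eq_one_iff_mul_comm.1 this
  -- otherwise two components give an absurdity
  exfalso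
  push Not at hsplit
  obtain ⟨b, hb, hb1⟩ := A.bot_or_exists_ne_one.resolve_left h.ne
  obtain ⟨W, T, C, hW, d⟩ := hex b hb hb1
  obtain ⟨c, hc, hc1⟩ := W.bot_or_exists_ne_one.resolve_left fun e => by
    rw [e, Subgroup.card_bot] at hW; omega
  obtain ⟨W₂, T₂, C₂, hW₂, d₂⟩ := hex c (d.W_le hc) hc1
  have hcT : c ∉ T₂ := fun e => d₂.not_mem (d₂.inter ⟨e, d.W_le hc⟩)
  -- `T ∩ T₂ ≤ W`
  have hU : ∀ u ∈ T, u ∈ T₂ → u ∈ W := by
    intro u hu hu'
    by_contra huW
    obtain ⟨y, hy, e⟩ := d.full u hu huW c hc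
    refine hcT (e ▸ ?_)
    rw [mul_assoc, mul_assoc]
    refine mul_mem hu' ?_
    rw [← mul_assoc]
    exact d₂.T_conj y (d.T_le hy) _ (inv_mem hu')
  have hdec : ∀ s ∈ T₂, ∃ w ∈ W, ∃ c' ∈ C, s = w * c' := by
    intro s hs
    obtain ⟨g, hg, hgc⟩ := d.split s (d₂.T_le hs) fun t ht => by
      refine hU _ (mul_mem (inv_mem ht) (d.T_conj s (d₂.T_le hs) t ht)) ?_
      have h1 := d₂.T_conj t⁻¹ ((S : Subgroup G).inv_mem (d.T_le ht)) s hs
      rw [inv_inv] at h1
      have h2 := mul_mem h1 (inv_mem hs)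
      rwa [show t⁻¹ * s * t * s⁻¹ = t⁻¹ * (s * t * s⁻¹) by group] at h2
    refine ⟨g, ?_, _, hgc, (mul_inv_cancel_left g s).symm⟩
    by_contra hgW
    obtain ⟨y, hy, e⟩ := d.full g hg hgW c hc
    refine hcT (e ▸ ?_)
    have h3 : (g⁻¹ * s) * y * (g⁻¹ * s)⁻¹ = y := by
      rw [← d.comm y hy _ hgc, mul_inv_cancel_right]
    have h4 : g * y * g⁻¹ * y⁻¹ = s * (y * s⁻¹ * y⁻¹) := by
      calc g * y * g⁻¹ * y⁻¹ = g * ((g⁻¹ * s) * y * (g⁻¹ * s)⁻¹) * g⁻¹ * y⁻¹ := by rw [h3]
        _ = _ := by group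
    rw [h4]
    exact mul_mem hs (d₂.T_conj y (d.T_le hy) _ (inv_mem hs))
  obtain ⟨x, hx, hxW⟩ := SetLike.not_le_iff_exists.1 (hsplit c (d.W_le hc) hc1 W₂ T₂ C₂ d₂)
  have hle : W₂ ≤ zpowers b := by
    intro w hw
    refine d.C_inter ⟨?_, d₂.W_le hw⟩
    obtain ⟨y, hy, e⟩ := d₂.full x hx hxW w hw
    obtain ⟨w₁, hw₁, c₁, hc₁, rfl⟩ := hdec x hx
    obtain ⟨w₂, hw₂, c₂, hc₂, rfl⟩ := hdec y hy
    rw [commutator_central (hcA w₁ (d.W_le hw₁) _ (d.C_le hc₁))
      (hcA w₁ (d.W_le hw₁) _ (d.C_le hc₂)) (hcA w₁ (d.W_le hw₁) _ (h.closed.1 (d.W_le hw₂)))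
      (hcA w₂ (d.W_le hw₂) _ (d.C_le hc₁)) (hcA w₂ (d.W_le hw₂) _ (d.C_le hc₂))] at e
    rw [← e]
    exact mul_mem (mul_mem (mul_mem hc₁ hc₂) (C.inv_mem hc₁)) (C.inv_mem hc₂)
  have h2 := (Subgroup.card_le_of_le hle).trans (hord b hb)
  omega

end Cfsg.Agent.Lib.Goldschmidt53.Small
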