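import Cfsg.Agent.Lib.Crit5.Top
import Cfsg.Agent.Lib.Goldschmidt53.Assembly
import Cfsg.Agent.Lib.Goldschmidt53.Base
import Cfsg.Agent.Lib.Goldschmidt53.Comb
import Cfsg.Agent.Lib.Goldschmidt53.Criterion
import Cfsg.Agent.Lib.Goldschmidt53.Facts
import Cfsg.Agent.Lib.Goldschmidt53.Local
import Cfsg.Agent.Lib.Goldschmidt53.Mono
import Cfsg.Agent.Lib.Goldschmidt53.NoCover
import Cfsg.Agent.Lib.Goldschmidt53.NoPair
import Cfsg.Agent.Lib.Goldschmidt53.Pairs
import Cfsg.Agent.Lib.Goldschmidt53.RankTwo
import Cfsg.Agent.Lib.Goldschmidt53.RankTwoBadOne.Main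
import Cfsg.Agent.Lib.Goldschmidt53.RankTwoBig
import Cfsg.Agent.Lib.Goldschmidt53.Small

/-!
# Goldschmidt's theorem: the sections put together

The inputs still open enter as hypotheses.
-/

set_option autoImplicit false

universe u

namespace Cfsg.Agent.Lib.Goldschmidt53

/-- All sections from the open inputs. -/
theorem sections_of (hMin : PropRankTwoMin.{u}) : Sections.{u} where
  base := base
  facts := facts
  pairs := Pairs.pairs facts (local_ facts) (noCover base facts (local_ facts))
  comb := comb
  small := Small.small (noCover base facts (local_ facts)) facts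
  mono := mono facts (local_ facts) (noCover base facts (local_ facts))
  noPair := noPair (local_ facts)
  rankTwo := rankTwo (rankTwoBig facts (local_ facts) (RankTwoBadOne.goodExists facts (local_ facts))) hMin
  criterion := criterion Crit5.Top.propCore

end Cfsg.Agent.Lib.Goldschmidt53
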