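import Cfsg.Agent.Lib.Goldschmidt53.FactsCover
import Cfsg.Agent.Lib.Walter.KnownFactsPSL
import Cfsg.Agent.Lib.PSLFacts.Involutions
import Cfsg.Agent.Lib.DicksonId.MaxCommon

/-!
# Rank two, bad involutions: the known groups with Sylow 2-subgroups of order four

Owner: helper41.
-/

set_option autoImplicit false
set_option linter.style.haveILetI false
set_option linter.unusedSectionVars false

universe u

namespace Cfsg.Agent.Lib.Goldschmidt53.RankTwoBad

open Subgroup

theorem card_sylow_map {L M : Type*} [Group L] [Group M] [Finite L] [Finite M] (e : L ≃* M)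
    (P : Sylow 2 L) (Q : Sylow 2 M) :
    Nat.card ↥(P : Subgroup L) = Nat.card ↥(Q : Subgroup M) := by
  haveI : Fact (Nat.Prime 2) := ⟨Nat.prime_two⟩
  rw [Sylow.card_eq_multiplicity, Sylow.card_eq_multiplicity, Nat.card_congr e.toEquiv]

/-- A known group with Sylow 2-subgroups of order less than eight is `PSL(2, q)`,
`q ≡ 3, 5 (mod 8)`. -/
theorem odd_of_small {L : Type u} [Group L] [Finite L] (hL : IsKnown L) (P : Sylow 2 L)
    (h8 : Nat.card ↥(P : Subgroup L) < 8) : Walter.IsOddType L := by
  classical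
  haveI : Fact (Nat.Prime 2) := ⟨Nat.prime_two⟩
  rcases hL with (⟨n, F, _, _, hn, hF, ⟨e⟩⟩ | h | h) | ⟨F, _, _, m, hm, hF, ⟨e⟩⟩ |
    ⟨F, _, _, n, hn, hF, ⟨e⟩⟩
  · exfalso
    haveI : CharP F 2 := by
      obtain ⟨p, hp⟩ := CharP.exists F
      haveI := Fact.mk (CharP.char_is_prime F p)
      obtain ⟨k, -, hk⟩ := Linear.exists_card_eq_pow (F := F) p
      have hd : p ∣ 2 ^ n := by
        rw [← hF, show Fintype.card F = p ^ k from hk]
        exact dvd_pow_self p (by
          rintro rfl
          have := Fintype.one_lt_card (α := F)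
          rw [show Fintype.card F = p ^ 0 from hk, pow_zero] at this
          omega)
      have h2 : p = 2 := (Nat.prime_dvd_prime_iff_eq (Fact.out) Nat.prime_two).1
        ((Fact.out : p.Prime).dvd_of_dvd_pow hd)
      exact h2 ▸ hp
    obtain ⟨U, -, -, -, hU, -⟩ := Walter.Known.psl2_torus (F := F)
    rw [card_sylow_map e P U, hU, hF] at h8
    have : 2 ^ 3 ≤ 2 ^ n := Nat.pow_le_pow_right two_pos hn
    omega
  · exact h
  · have := h.card_sylow P
    omega
  · exfalso
    rw [(FactsCover.card_sz hm hF e P).2, hF, ← pow_mul] at h8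
    have : 2 ^ 3 ≤ 2 ^ ((2 * m + 1) * 2) := Nat.pow_le_pow_right two_pos (by omega)
    omega
  · exfalso
    obtain ⟨Q⟩ : Nonempty (Sylow 2 (Cfsg.PSU 3 F (2 ^ n))) := inferInstance
    obtain ⟨c⟩ := U3Sylow.exists_coords_PSU hF Q
    rw [card_sylow_map e P Q, Nat.card_congr c.equiv, U3Sylow.card_pairs hF, ← pow_mul] at h8
    have : 2 ^ 3 ≤ 2 ^ (n * 3) := Nat.pow_le_pow_right two_pos (by omega)
    omega

section PSL

open Cfsg.Agent.Lib.SL2Tori Cfsg.Agent.Lib.SL2Tori.Products

variable {F : Type} [Field F] [Fintype F]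

local notation "PSL2" => Matrix.ProjectiveSpecialLinearGroup (Fin 2) F

theorem psl_centralizer (hodd : Fintype.card F % 2 = 1) {y : PSL2} (hy : orderOf y = 2) :
    (Fintype.card F % 4 = 1 →
      Nat.card ↥(centralizer ({y} : Set PSL2)) + 1 = Fintype.card F) ∧
    (Fintype.card F % 4 = 3 →
      Nat.card ↥(centralizer ({y} : Set PSL2)) = Fintype.card F + 1) := by
  have h2 : (2 : F) ≠ 0 := Cfsg.Agent.Lib.Linear.two_ne_zero_of_odd_card (Nat.odd_iff.2 hodd)
  have h1 : 1 ≤ Fintype.card F := Fintype.card_pos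
  obtain ⟨g, rfl, hg⟩ := PSLFacts.Invol.trace_zero_of_involution hy
  have hgcd : Nat.gcd 2 (Fintype.card F - 1) = 2 := Nat.gcd_eq_left (by omega)
  have hpre : Nat.card (PSLTwo.ClassSize.pre g) =
      2 * Nat.card ↥(centralizer ({proj g} : Set PSL2)) := by
    have h := DicksonId.card_pre (centralizer ({proj g} : Set PSL2))
    rw [hgcd] at h
    refine (Nat.card_congr (Equiv.setCongr ?_)).trans h
    ext k
    show k ∈ PSLTwo.ClassSize.pre g ↔ proj k ∈ centralizer ({proj g} : Set PSL2)
    rw [PSLTwo.ClassSize.mem_pre, mem_centralizer_singleton_iff, ← map_mul, ← map_mul,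
      @eq_comm _ (proj (k * g)), proj_eq_iff]
  obtain ⟨hv1, hv3⟩ := PSLFacts.Invol.card_pre h2 hg
  constructor
  · intro h
    have := hv1 h
    omega
  · intro h
    have := hv3 h
    omega

end PSL

/-- In `PSL(2, q)`, `q` odd, a four-group is self-centralising and the class of an involution has
about `8t²` members, `4t` the order of the centraliser. -/
theorem odd_data {L : Type u} [Group L] [Finite L] (hL : Walter.IsOddType L) :
    (∀ a b g : L, orderOf a = 2 → orderOf b = 2 → a * b = b * a → a ≠ b → g * a = a * g →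
      g * b = b * g → g = 1 ∨ g = a ∨ g = b ∨ g = a * b) ∧
    ∀ a : L, orderOf a = 2 → ∀ t i : ℕ, Nat.card ↥(centralizer ({a} : Set L)) = 4 * t →
      Nat.card L = i * (4 * t) → 1 < t → 5 * t ^ 2 < i ∧ i < 13 * t ^ 2 := by
  classical
  obtain ⟨F, _, _, hq, h5, ⟨e⟩⟩ := hL
  have hodd : Fintype.card F % 2 = 1 := by omega
  have h2 : (2 : F) ≠ 0 := Cfsg.Agent.Lib.Linear.two_ne_zero_of_odd_card (Nat.odd_iff.2 hodd)
  refine ⟨fun a b g ha hb hab hne hga hgb => ?_, fun a ha t i ht hi ht1 => ?_⟩
  · have hconv : ∀ w : L, orderOf w = 2 → e w * e w = 1 ∧ e w ≠ 1 := fun w hw =>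
      Involutions.Basic.invol_iff.1 ((MulEquiv.orderOf_eq e w).trans hw)
    rcases BinaryPSL2.mem_four_of_commute h2 (g := e g) (hconv a ha).1 (hconv a ha).2 (hconv b hb).1
      (hconv b hb).2 (by rw [← map_mul, hab, map_mul]) (e.injective.ne hne)
      (by rw [← map_mul, hga, map_mul]) (by rw [← map_mul, hgb, map_mul]) with h | h | h | h
    · exact Or.inl (e.injective (h.trans e.map_one.symm))
    · exact Or.inr (Or.inl (e.injective h))
    · exact Or.inr (Or.inr (Or.inl (e.injective h)))
    · exact Or.inr (Or.inr (Or.inr (e.injective (h.trans (map_mul e a b).symm))))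
  · have hcard : 2 * Nat.card L =
        Fintype.card F * ((Fintype.card F - 1) * (Fintype.card F + 1)) := by
      have h := Linear.gcd_mul_card_PSL_two (F := F)
      rw [Nat.gcd_eq_left (show 2 ∣ Fintype.card F - 1 by omega), mul_assoc] at h
      rw [Nat.card_congr e.toEquiv]
      exact h
    have hC : Nat.card ↥(centralizer ({e a} : Set (Matrix.ProjectiveSpecialLinearGroup (Fin 2) F))) =
        4 * t := by
      rw [← ht]
      refine Nat.card_congr (e.toEquiv.subtypeEquiv fun x => ?_).symm
      simp only [mem_centralizer_singleton_iff, MulEquiv.toEquiv_eq_coe, EquivLike.coe_coe]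
      exact ⟨fun h => by rw [← map_mul, h, map_mul], fun h => e.injective (by simpa using h)⟩
    obtain ⟨h1, h3⟩ := psl_centralizer hodd (y := e a) ((MulEquiv.orderOf_eq e a).trans ha)
    rw [hC] at h1 h3
    rcases (show Fintype.card F % 4 = 1 ∨ Fintype.card F % 4 = 3 by omega) with h | h
    · have e1 := h1 h
      rw [hi, ← e1, show 4 * t + 1 - 1 = 4 * t by omega] at hcard
      have e2 : 2 * i = (4 * t + 1) * (4 * t + 2) := by
        refine Nat.eq_of_mul_eq_mul_right (show 0 < 4 * t by omega) ?_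
        calc 2 * i * (4 * t) = 2 * (i * (4 * t)) := by ring
          _ = _ := hcard
          _ = _ := by ring
      constructor <;> nlinarith
    · have e1 := h3 h
      obtain ⟨r, hr⟩ : ∃ r, Fintype.card F = r + 1 := ⟨Fintype.card F - 1, by omega⟩
      rw [hr] at e1 hcard
      rw [hi, Nat.add_sub_cancel, show r + 1 + 1 = 4 * t by omega] at hcard
      have e2 : 2 * i = (r + 1) * r := by
        refine Nat.eq_of_mul_eq_mul_right (show 0 < 4 * t by omega) ?_
        calc 2 * i * (4 * t) = 2 * (i * (4 * t)) := by ring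
          _ = _ := hcard
          _ = _ := by ring
      constructor <;> nlinarith

end Cfsg.Agent.Lib.Goldschmidt53.RankTwoBad
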