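import Cfsg.Agent.Lib.OddTransp84.Core.Mean
import Cfsg.Agent.Lib.Coprime.Glauberman
import Cfsg.Agent.Lib.OddOrder.FeitThompson

/-!
# Rank two, bad involutions: the formula of Brauer and Wielandt, products of fixed points

Owner: helper41.  For commuting involutions `x`, `y` normalising a subgroup `K` of odd order,
`|K| |C_K(⟨x,y⟩)|² = |C_K(x)| |C_K(y)| |C_K(xy)|`.  An involution fixing a product `O H` fixes the
product of its fixed points when `O` has odd order.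
-/

set_option autoImplicit false
set_option linter.style.haveILetI false
set_option linter.unusedSectionVars false

universe u

namespace Cfsg.Agent.Lib.Goldschmidt53.RankTwoBad

open Subgroup
open Cfsg.Agent.Lib.OddTransp84.Core (SymSet sqrtOdd)

variable {G : Type u} [Group G] [Finite G]

/-- The elements of `K` on which `x` and `y` act by the given signs. -/
theorem symSet_subgroup (K : Subgroup G) (hK : Odd (Nat.card ↥K)) : SymSet (K : Set G) where
  odd x hx := hK.of_dvd_nat (Subgroup.orderOf_dvd_natCard K hx)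
  inv _ hx := inv_mem hx
  sqrt _ hx := pow_mem hx _
  tri _ hx _ hy := mul_mem (mul_mem hx hy) hx

theorem conj_apply (x y : G) : MulAut.conj x y = x * y * x⁻¹ := rfl

theorem fixed_eq_centralizer (K : Subgroup G) (x : G) :
    {y | y ∈ (K : Set G) ∧ MulAut.conj x y = y} =
      ((K ⊓ centralizer ({x} : Set G) : Subgroup G) : Set G) := by
  ext y
  simp only [Set.mem_ofPred_eq, SetLike.mem_coe, Subgroup.mem_inf, mem_centralizer_singleton_iff,
    conj_apply, mul_inv_eq_iff_eq_mul]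
  exact and_congr_right fun _ => eq_comm

/-- **Brauer–Wielandt.** -/
theorem brauer_wielandt (K : Subgroup G) (hK : Odd (Nat.card ↥K)) {x y : G} (hx : x * x = 1)
    (hy : y * y = 1) (hxy : x * y = y * x) (hxK : ∀ k ∈ K, x * k * x⁻¹ ∈ K)
    (hyK : ∀ k ∈ K, y * k * y⁻¹ ∈ K) :
    Nat.card ↥K * Nat.card ↥(K ⊓ centralizer ({x} : Set G) ⊓ centralizer ({y} : Set G)) ^ 2 =
      Nat.card ↥(K ⊓ centralizer ({x} : Set G)) * Nat.card ↥(K ⊓ centralizer ({y} : Set G)) *
        Nat.card ↥(K ⊓ centralizer ({x * y} : Set G)) := by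
  set σ := MulAut.conj x
  set τ := MulAut.conj y
  have hσσ : ∀ k, σ (σ k) = k := fun k => by
    show x * (x * k * x⁻¹) * x⁻¹ = k
    rw [inv_eq_of_mul_eq_one_right hx]
    simp only [mul_assoc, hx, mul_one]
    rw [← mul_assoc, hx, one_mul]
  have hττ : ∀ k, τ (τ k) = k := fun k => by
    show y * (y * k * y⁻¹) * y⁻¹ = k
    rw [inv_eq_of_mul_eq_one_right hy]
    simp only [mul_assoc, hy, mul_one]
    rw [← mul_assoc, hy, one_mul]
  have hστ : ∀ k, σ (τ k) = τ (σ k) := fun k => by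
    show x * (y * k * y⁻¹) * x⁻¹ = y * (x * k * x⁻¹) * y⁻¹
    rw [show x * (y * k * y⁻¹) * x⁻¹ = x * y * k * (x * y)⁻¹ by group,
      show y * (x * k * x⁻¹) * y⁻¹ = y * x * k * (y * x)⁻¹ by group, hxy]
  have hS := symSet_subgroup K hK
  -- the four joint eigen-sets
  set pp := {k | k ∈ (K : Set G) ∧ σ k = k ∧ τ k = k} with hpp
  set pm := {k | k ∈ (K : Set G) ∧ σ k = k ∧ τ k = k⁻¹} with hpm
  set mp := {k | k ∈ (K : Set G) ∧ σ k = k⁻¹ ∧ τ k = k} with hmp
  set mm := {k | k ∈ (K : Set G) ∧ σ k = k⁻¹ ∧ τ k = k⁻¹} with hmm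
  have h1 := hS.ncard_eq σ (fun k hk => hxK k hk) (fun k _ => hσσ k)
  have hfix := (hS.fixed σ).ncard_eq τ
    (fun k hk => ⟨hyK k hk.1, by rw [hστ, hk.2]⟩) (fun k _ => hττ k)
  have hinv := (hS.inverted σ).ncard_eq τ
    (fun k hk => ⟨hyK k hk.1, by rw [hστ, hk.2, map_inv]⟩) (fun k _ => hττ k)
  have hy' := hS.fixed τ
  have hyy := hy'.ncard_eq σ (fun k hk => ⟨hxK k hk.1, by rw [← hστ, hk.2]⟩) (fun k _ => hσσ k)
  have hz : ∀ k, MulAut.conj (x * y) k = σ (τ k) := fun k => by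
    rw [map_mul]; rfl
  have hzz := (hS.fixed (MulAut.conj (x * y))).ncard_eq σ
    (fun k hk => ⟨hxK k hk.1, by
      have e := hk.2
      rw [hz] at e ⊢
      rw [← hστ, e]⟩) (fun k _ => hσσ k)
  simp only [Set.mem_ofPred_eq, and_assoc] at hfix hinv hyy hzz
  have e1 : {k | k ∈ (K : Set G) ∧ τ k = k ∧ σ k = k} = pp := by
    rw [hpp]; ext k; simp only [Set.mem_ofPred_eq]; tauto
  have e2 : {k | k ∈ (K : Set G) ∧ τ k = k ∧ σ k = k⁻¹} = mp := by
    rw [hmp]; ext k; simp only [Set.mem_ofPred_eq]; tauto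
  have e3 : {k | k ∈ (K : Set G) ∧ MulAut.conj (x * y) k = k ∧ σ k = k} = pp := by
    rw [hpp]; ext k; simp only [Set.mem_ofPred_eq, hz]
    refine and_congr_right fun _ => ⟨fun ⟨h, hs⟩ => ⟨hs, ?_⟩, fun ⟨hs, ht⟩ => ⟨by rw [ht, hs], hs⟩⟩
    rwa [hστ, hs] at h
  have e4 : {k | k ∈ (K : Set G) ∧ MulAut.conj (x * y) k = k ∧ σ k = k⁻¹} = mm := by
    rw [hmm]; ext k; simp only [Set.mem_ofPred_eq, hz]
    refine and_congr_right fun _ => ⟨fun ⟨h, hs⟩ => ⟨hs, ?_⟩,
      fun ⟨hs, ht⟩ => ⟨by rw [ht, map_inv, hs, inv_inv], hs⟩⟩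
    rw [hστ, hs, map_inv] at h
    exact inv_eq_iff_eq_inv.1 h
  rw [e1, e2] at hyy
  rw [e3, e4] at hzz
  have c0 : ((K : Subgroup G) : Set G).ncard = Nat.card ↥K := (Nat.card_coe_set_eq _).symm
  have cx : {k | k ∈ (K : Set G) ∧ σ k = k}.ncard =
      Nat.card ↥(K ⊓ centralizer ({x} : Set G)) := by
    rw [fixed_eq_centralizer]; exact (Nat.card_coe_set_eq _).symm
  have cy : {k | k ∈ (K : Set G) ∧ τ k = k}.ncard =
      Nat.card ↥(K ⊓ centralizer ({y} : Set G)) := by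
    rw [fixed_eq_centralizer]; exact (Nat.card_coe_set_eq _).symm
  have cz : {k | k ∈ (K : Set G) ∧ MulAut.conj (x * y) k = k}.ncard =
      Nat.card ↥(K ⊓ centralizer ({x * y} : Set G)) := by
    rw [fixed_eq_centralizer]; exact (Nat.card_coe_set_eq _).symm
  have cp : pp.ncard =
      Nat.card ↥(K ⊓ centralizer ({x} : Set G) ⊓ centralizer ({y} : Set G)) := by
    refine (congrArg Set.ncard ?_).trans (Nat.card_coe_set_eq _).symm
    ext k
    simp only [hpp, σ, τ, conj_apply, Set.mem_ofPred_eq, SetLike.mem_coe, Subgroup.mem_inf,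
      mem_centralizer_singleton_iff, mul_inv_eq_iff_eq_mul, and_assoc]
    exact and_congr_right fun _ => and_congr eq_comm eq_comm
  rw [← c0, ← cx, ← cy, ← cz, ← cp, h1, hfix, hinv, hyy, hzz]
  ring

/-- An involution acting on a product fixes the product of the fixed points. -/
theorem mul_fixed {O H : Subgroup G} (hO : Odd (Nat.card ↥O)) {x : G} (hx2 : x * x = 1)
    (hxO : ∀ k ∈ O, x * k * x⁻¹ ∈ O) (hxH : ∀ k ∈ H, x * k * x⁻¹ ∈ H) {g : G}
    (hgx : g * x = x * g) {o h : G} (ho : o ∈ O) (hh : h ∈ H) (hg : o * h = g) :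
    ∃ o' ∈ O, ∃ h' ∈ H, o' * x = x * o' ∧ h' * x = x * h' ∧ o' * h' = g := by
  have hxN : zpowers x ≤ normalizer ((O ⊓ H : Subgroup G) : Set G) := by
    rw [zpowers_le]
    refine Subgroup.mem_normalizer_iff.2 fun k => ⟨fun hk => ⟨hxO k hk.1, hxH k hk.2⟩, fun hk => ?_⟩
    have e : x * (x * k * x⁻¹) * x⁻¹ = k := by
      rw [inv_eq_of_mul_eq_one_right hx2]
      simp only [mul_assoc, hx2, mul_one]
      rw [← mul_assoc, hx2, one_mul]
    exact ⟨e ▸ hxO _ hk.1, e ▸ hxH _ hk.2⟩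
  have hodd : Odd (Nat.card ↥(O ⊓ H : Subgroup G)) := hO.of_dvd_nat (card_dvd_of_le inf_le_left)
  have hcop : (Nat.card ↥(zpowers x)).Coprime (Nat.card ↥(O ⊓ H : Subgroup G)) := by
    rw [Nat.card_zpowers]
    exact ((Nat.coprime_two_left.2 hodd)).coprime_dvd_left
      (orderOf_dvd_of_pow_eq_one (by rw [pow_two, hx2]))
  have hgx' : x * g * x⁻¹ = g := by rw [← hgx, mul_inv_cancel_right]
  have hd : (x * o * x⁻¹)⁻¹ * o = x * h * x⁻¹ * h⁻¹ := by
    have e : x * o * x⁻¹ * (x * h * x⁻¹) = o * h := by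
      calc _ = x * (o * h) * x⁻¹ := by group
        _ = _ := by rw [hg, hgx']
    calc (x * o * x⁻¹)⁻¹ * o = (x * o * x⁻¹)⁻¹ * (o * h) * h⁻¹ := by group
      _ = _ := by rw [← e]; group
  have hmem : (x * o * x⁻¹)⁻¹ * o ∈ O ⊓ H :=
    Subgroup.mem_inf.2
      ⟨mul_mem (inv_mem (hxO o ho)) ho, hd ▸ mul_mem (hxH h hh) (inv_mem hh)⟩
  obtain ⟨n, hn, hnc⟩ := Coprime.exists_mul_fixed hxN hcop
    (Or.inr (OddOrder.FeitThompson.isSolvable_of_odd_card hodd)) (k := o) (fun a ha => by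
      obtain ⟨i, rfl⟩ := mem_zpowers_iff.1 ha
      have hx2' : x ^ (2 : ℤ) = 1 := by
        rw [show (2 : ℤ) = ((2 : ℕ) : ℤ) from rfl, zpow_natCast, pow_two, hx2]
      rcases Int.even_or_odd i with ⟨m, rfl⟩ | ⟨m, rfl⟩
      · rw [← two_mul, zpow_mul, hx2', one_zpow]
        simp
      · rw [zpow_add, zpow_mul, hx2', one_zpow, one_mul, zpow_one]
        simpa using inv_mem hmem)
  have hnx : o * n * x = x * (o * n) := (mem_centralizer_iff.1 hnc x (mem_zpowers x)).symm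
  refine ⟨o * n, mul_mem ho hn.1, n⁻¹ * h, mul_mem (inv_mem hn.2) hh, hnx, ?_, by rw [← hg]; group⟩
  calc n⁻¹ * h * x = (o * n)⁻¹ * ((o * h) * x) := by group
    _ = (o * n)⁻¹ * x * (o * h) := by rw [hg, hgx, mul_assoc]
    _ = x * (o * n)⁻¹ * (o * h) := by
      rw [(show Commute (o * n) x from hnx).inv_left.eq]
    _ = x * (n⁻¹ * h) := by group

end Cfsg.Agent.Lib.Goldschmidt53.RankTwoBad
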