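import Cfsg.Agent.Lib.Goldschmidt53.FactsCover
import Cfsg.Agent.Lib.Inter3308.Unitary
import Cfsg.Agent.Lib.SzElements.Basic
import Cfsg.Agent.Lib.Walter.InterfaceFacts
import Cfsg.Agent.Lib.PGroups.Omega

/-!
# Goldschmidt keystone, rows: elements outside `Ω₁` of a Sylow subgroup of a known group

If `x, y` lie in a Sylow subgroup `P` but outside `Ω₁(P)` then some conjugate of `x` under `N(P)`
does not commute with `y`.  So of two commuting subgroups of `P`, one invariant under `N(P)`, one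
lies in `Ω₁(P)`.
-/

set_option autoImplicit false
set_option linter.unusedSectionVars false
set_option linter.style.haveILetI false

universe u v

namespace Cfsg.Agent.Lib.Goldschmidt53.Invariant

open Subgroup
open Cfsg.Agent.Lib

/-- The property of a 2-subgroup. -/
def Moves {M : Type v} [Group M] (Q : Subgroup M) : Prop :=
  ∀ x ∈ Q, x ∉ Cfsg.omegaOne 2 Q → ∀ y ∈ Q, y ∉ Cfsg.omegaOne 2 Q →
    ∃ n ∈ normalizer (Q : Set M), ¬ Commute (n * x * n⁻¹) y

theorem Moves.map {L : Type u} {M : Type v} [Group L] [Group M] (e : L ≃* M) {H : Subgroup L}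
    (h : Moves H) : Moves (H.map e.toMonoidHom) := by
  have hom := FactsCover.map_omega e H
  rintro _ ⟨x, hx, rfl⟩ hxo _ ⟨y, hy, rfl⟩ hyo
  obtain ⟨n, hn, hnc⟩ := h x hx (fun hc => hxo (hom ▸ mem_map_of_mem _ hc)) y hy
    (fun hc => hyo (hom ▸ mem_map_of_mem _ hc))
  refine ⟨e n, Inter3308.mem_normalizer_map e hn, fun hc => hnc (e.injective ?_)⟩
  simpa [map_mul] using hc.eq

/-- One Sylow subgroup of an isomorphic group suffices. -/
theorem moves_of_model {L : Type u} {M : Type v} [Group L] [Finite L] [Group M] (e : L ≃* M)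
    (Q : Sylow 2 M) (hQ : Moves (Q : Subgroup M)) (P : Sylow 2 L) : Moves (P : Subgroup L) := by
  haveI : Fact (Nat.Prime 2) := ⟨Nat.prime_two⟩
  haveI : Finite M := Finite.of_equiv _ e.toEquiv
  obtain ⟨g, hg⟩ := MulAction.exists_smul_eq M Q (P.mapSurjective (f := e.toMonoidHom) e.surjective)
  have h2 := (hQ.map (MulAut.conj g)).map e.symm
  have hPe : ((Q : Subgroup M).map (MulAut.conj g).toMonoidHom).map e.symm.toMonoidHom =
      (P : Subgroup L) := by
    rw [show (Q : Subgroup M).map (MulAut.conj g).toMonoidHom =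
        (P : Subgroup L).map e.toMonoidHom from by
      refine Eq.trans ?_ (congrArg (fun S : Sylow 2 M => (S : Subgroup M)) hg)
      rw [Sylow.coe_subgroup_smul]; rfl]
    ext y
    simp [Subgroup.mem_map]
  rwa [hPe] at h2

section Suzuki

open LieTwisted.Suzuki

variable {F : Type} [Field F] [Fintype F] {m : ℕ} (h : IsSzField F m)

theorem moves_unip (hm : 1 ≤ m) : Moves (unip h) := by
  have homega : ∀ b : F, uS h 0 b ∈ Cfsg.omegaOne 2 (unip h) := fun b => by
    refine subset_closure ⟨h.uS_mem 0 b, ?_⟩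
    rw [sq, h.uS_mul, sg_zero, zero_mul, add_zero]
    simp [← two_mul, h.two0, h.uS_zero]
  rintro _ ⟨a, b, rfl⟩ hxo _ ⟨c, d, rfl⟩ hyo
  have ha : a ≠ 0 := fun e => hxo (e ▸ homega b)
  have hc : c ≠ 0 := fun e => hyo (e ▸ homega d)
  obtain ⟨t, ht0, ht1⟩ := h.exists_ne01 hm
  obtain ⟨l, hl⟩ := Finite.injective_iff_surjective.1 h.sg_injective (c * t / a)
  have hl0 : l ≠ 0 := by
    rintro rfl
    rw [sg_zero, eq_comm, div_eq_zero_iff, mul_eq_zero] at hl
    tauto
  refine ⟨dS h (Units.mk0 l hl0), ?_, fun hcomm => ?_⟩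
  · haveI : Finite (Cfsg.Sz F m) := inferInstance
    refine mem_normalizer_fintype ?_
    rintro _ ⟨a', b', rfl⟩
    rw [h.dS_mul_uS, mul_inv_cancel_right]
    exact h.uS_mem _ _
  · rw [h.dS_mul_uS, mul_inv_cancel_right, Units.val_mk0, hl, div_mul_cancel₀ _ ha] at hcomm
    have e1 := hcomm.eq
    rw [h.uS_comm] at e1
    have e2 : uS h 0 (sg m (c * t) * c + sg m c * (c * t)) = 1 :=
      mul_right_cancel (b := uS h c d * uS h (c * t) _) (by rw [one_mul]; exact e1)
    rw [← h.uS_zero] at e2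
    have e3 := (h.uS_coords_inj e2).2
    rw [sg_mul] at e3
    have e4 : sg m t + t = 0 :=
      (mul_eq_zero.1 (show sg m c * c * (sg m t + t) = 0 by linear_combination e3)).resolve_left
        (mul_ne_zero (mt sg_eq_zero.1 hc) hc)
    exact h.sg_ne_self ht0 ht1 (by linear_combination e4 - t * h.two0)

end Suzuki

section Unitary

open U3Sylow Unitary Inter3308

variable {F : Type} [Field F] [Fintype F] {n : ℕ} (hF : Fintype.card F = (2 ^ n) ^ 2)
  {x : F} (hx : x + x ^ 2 ^ n = 1)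

/-- The fixed field of `z ↦ z ^ q`. -/
def fixField : Subfield F where
  carrier := {z | z ^ 2 ^ n = z}
  zero_mem' := zero_pow_q hF
  one_mem' := one_pow _
  add_mem' := fun {a b} (ha : a ^ 2 ^ n = a) (hb : b ^ 2 ^ n = b) => by
    show (a + b) ^ 2 ^ n = a + b
    rw [add_pow_q hF, ha, hb]
  mul_mem' := fun {a b} (ha : a ^ 2 ^ n = a) (hb : b ^ 2 ^ n = b) => by
    show (a * b) ^ 2 ^ n = a * b
    rw [mul_pow, ha, hb]
  neg_mem' := fun {a} (ha : a ^ 2 ^ n = a) => by
    haveI := charP_two hF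
    show (-a) ^ 2 ^ n = -a
    rw [CharTwo.neg_eq, ha]
  inv_mem' := fun a (ha : a ^ 2 ^ n = a) => by
    show a⁻¹ ^ 2 ^ n = a⁻¹
    rw [inv_pow, ha]

include hF in
/-- The torus multipliers do not lie in the fixed field. -/
theorem exists_mu_not_fixed (hn : 2 ≤ n) : ∃ e : Fˣ, mu n (e : F) ^ 2 ^ n ≠ mu n (e : F) := by
  by_contra hall
  push Not at hall
  have htop := subfield_cubes hF hn (fixField hF) fun w => by
    show (w ^ 3) ^ 2 ^ n = w ^ 3
    rcases eq_or_ne w 0 with rfl | hw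
    · simp [zero_pow_q hF]
    rw [← mu_cube hF]
    exact hall (Units.mk0 _ (mul_ne_zero (pow_ne_zero _ (pow_ne_zero _ hw)) hw))
  obtain ⟨z, hz⟩ := exists_not_fixed hF
  exact hz (htop ▸ Subfield.mem_top z : z ∈ fixField hF)

theorem moves_tGroup (hn : 2 ≤ n) : Moves (tGroup hF hx) := by
  haveI := charP_two hF
  have homega : ∀ p : Pairs F (2 ^ n), p.1.1 = 0 →
      tU hF hx p ∈ Cfsg.omegaOne 2 (tGroup hF hx) := fun p hp => by
    refine subset_closure ⟨⟨p, rfl⟩, ?_⟩
    rw [sq, tU_mul, ← tU_zero hF hx]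
    refine congrArg _ (Subtype.ext (Prod.ext ?_ ?_))
    · rw [(sq_eq hF p).1]; rfl
    · rw [(sq_eq hF p).2, hp, zero_mul]; rfl
  rintro _ ⟨p, rfl⟩ hxo _ ⟨r, rfl⟩ hyo
  have ha : p.1.1 ≠ 0 := fun e => hxo (homega p e)
  have hc : r.1.1 ≠ 0 := fun e => hyo (homega r e)
  -- commuting translations have proportional first coordinates
  have key : ∀ p' : Pairs F (2 ^ n), p'.1.1 ≠ 0 → Commute (tU hF hx p') (tU hF hx r) →
      (r.1.1 / p'.1.1) ^ 2 ^ n = r.1.1 / p'.1.1 := by
    intro p' hp' hcm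
    have e1 := hcm.eq
    rw [tU_mul, tU_mul] at e1
    have e2 : p'.1.2 + r.1.2 + p'.1.1 ^ 2 ^ n * r.1.1 = r.1.2 + p'.1.2 + r.1.1 ^ 2 ^ n * p'.1.1 :=
      congrArg (fun s : Pairs F (2 ^ n) => s.1.2) (tU_inj hF hx e1)
    rw [← fixed_div_iff hF hp']
    linear_combination e2 + CharTwo.add_self_eq_zero (r.1.1 ^ 2 ^ n * p'.1.1)
  obtain ⟨e, he⟩ := exists_mu_not_fixed hF hn
  by_contra hall
  push Not at hall
  have h1 := key (tw hF 1 p) (by simpa [tw, mu] using ha)
    (torus_conj hF hx 1 p ▸ hall _ (torus_mem hF hx 1))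
  have hmu : mu n (e : F) ≠ 0 := fun h0 => he (by rw [h0, zero_pow_q hF])
  have h2 := key (tw hF e p) (mul_ne_zero hmu ha) (torus_conj hF hx e p ▸ hall _ (torus_mem hF hx e))
  have hmu1 : mu n ((1 : Fˣ) : F) = 1 := by simp [mu]
  simp only [tw, hmu1, one_mul] at h1
  simp only [tw] at h2
  refine he ?_
  have hq : r.1.1 / p.1.1 ≠ 0 := div_ne_zero hc ha
  rw [show r.1.1 / (mu n (e : F) * p.1.1) = r.1.1 / p.1.1 * (mu n (e : F))⁻¹ by field_simp,
    mul_pow, h1, inv_pow] at h2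
  exact inv_injective (mul_left_cancel₀ hq h2)

end Unitary

/-- The lemma for the groups of Bender type. -/
theorem moves_of_bender {L : Type u} [Group L] (hL : IsBenderType L) (P : Sylow 2 L) :
    Moves (P : Subgroup L) := by
  classical
  haveI : Fact (Nat.Prime 2) := ⟨Nat.prime_two⟩
  rcases hL with ⟨F, i1, i2, m, hm, hF, ⟨e⟩⟩ | ⟨F, i1, i2, n, hn, hF, ⟨e⟩⟩
  · have h : LieTwisted.Suzuki.IsSzField F m := ⟨hF⟩
    let e' : L ≃* Cfsg.Sz F m := e.trans (LieTwisted.Suzuki.szEquiv h hm).symm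
    haveI : Finite L := Finite.of_equiv _ e'.symm.toEquiv
    obtain ⟨Q, hQ⟩ := h.exists_sylow hm
    exact moves_of_model e' Q (hQ ▸ moves_unip h hm) P
  · haveI : Finite L := Finite.of_equiv _ e.symm.toEquiv
    obtain ⟨x, hx⟩ := Unitary.trace_surj hF (y := (1 : F)) (one_pow _)
    obtain ⟨Q, hQ⟩ := Inter3308.exists_sylow_tGroup hF hx
    exact moves_of_model e Q (hQ ▸ moves_tGroup hF hx hn) P

/-- In a group with abelian Sylow subgroups from the list, `Ω₁ P = P`. -/
theorem omega_eq_of_knownA (hW : Walter.PropKnownFacts.{u}) {L : Type u} [Group L] [Finite L]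
    (hL : Walter.IsKnownA L)
    (P : Sylow 2 L) : Om P = (P : Subgroup L) := by
  have helem := (hW.1 L hL).elementary P
  exact le_antisymm (PGroups.omegaOne_le 2 _) fun x hx => subset_closure ⟨hx, helem.2 x hx⟩

/-- The lemma for the known groups. -/
theorem moves (hW : Walter.PropKnownFacts.{u}) {L : Type u} [Group L] [Finite L] (hL : IsKnown L)
    (P : Sylow 2 L) :
    Moves (P : Subgroup L) := by
  rcases hL with hA | hB
  · intro x hx hxo
    exact absurd (show x ∈ Om P by rw [omega_eq_of_knownA hW hA P]; exact hx) hxo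
  · exact moves_of_bender hB P

/-- Of two commuting subsets of a Sylow subgroup, one invariant under its normaliser, one lies in
`Ω₁`. -/
theorem le_omega_or (hW : Walter.PropKnownFacts.{u}) {L : Type u} [Group L] [Finite L]
    (hL : IsKnown L) (P : Sylow 2 L) {D E : Set L}
    (hD : ∀ x ∈ D, x ∈ (P : Subgroup L)) (hE : ∀ x ∈ E, x ∈ (P : Subgroup L))
    (hinv : ∀ n ∈ normalizer ((P : Subgroup L) : Set L), ∀ x ∈ D, n * x * n⁻¹ ∈ D)
    (hc : ∀ x ∈ D, ∀ y ∈ E, x * y = y * x) : (∀ x ∈ D, x ∈ Om P) ∨ ∀ y ∈ E, y ∈ Om P := by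
  by_contra hne
  push Not at hne
  obtain ⟨⟨x, hx, hxo⟩, y, hy, hyo⟩ := hne
  obtain ⟨n, hn, hnc⟩ := moves hW hL P x (hD x hx) hxo y (hE y hy) hyo
  exact hnc (hc _ (hinv n hn x hx) y hy)

end Cfsg.Agent.Lib.Goldschmidt53.Invariant
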