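import Cfsg.Agent.Lib.Goldschmidt53.Local
import Cfsg.Agent.Lib.Goldschmidt53.Invariant

/-!
# Goldschmidt keystone, rows: a group generated by conjugates of a strongly closed abelian 2-subgroup

`X` without odd core, `A` an abelian subgroup, strongly closed in a Sylow 2-subgroup `T`, with
`X = ⟨A^X⟩`.  Then every component `K` is known modulo its centre, every element of `A` acts on `K`
as one of `A ∩ K`, `Z(K) ≤ A`, and `A = (A ∩ O₂(X))·(A ∩ E(X))` with `A ∩ O₂(X)` central.
-/

set_option autoImplicit false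
set_option linter.unusedSectionVars false
set_option linter.style.haveILetI false

universe u

namespace Cfsg.Agent.Lib.Goldschmidt53

open Subgroup Cfsg.Agent.Lib.Components

/-- The setting. -/
structure CoreSetting {X : Type u} [Group X] [Finite X] (T : Sylow 2 X) (A : Subgroup X) (m : ℕ) :
    Prop where
  core : Cfsg.oddCore X = ⊥
  card : Nat.card X < m
  below : Below.{u} m
  comm : IsMulCommutative ↥A
  closed : Cfsg.IsStronglyClosed A (T : Subgroup X)
  gen : normalClosure (A : Set X) = ⊤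

namespace CoreSetting

variable {X : Type u} [Group X] [Finite X] {T : Sylow 2 X} {A : Subgroup X} {m : ℕ}
  (h : CoreSetting T A m)
include h

theorem mul_comm_of_mem {a b : X} (ha : a ∈ A) (hb : b ∈ A) : a * b = b * a :=
  haveI := h.comm
  setLike_mul_comm ha hb

theorem mem_one_iff {x : X} : x ∈ Cfsg.omegaOne 2 A ↔ x ∈ A ∧ x ^ 2 = 1 :=
  PGroups.mem_omegaOne_iff_of_comm h.comm

/-- The setting for `Ω₁(A)`. -/
theorem toLocal : LocalSetting T (Cfsg.omegaOne 2 A) m := by
  haveI : Fact (Nat.Prime 2) := ⟨Nat.prime_two⟩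
  refine ⟨h.core, h.card, h.below, PGroups.elemAb_omegaOne h.comm,
    (PGroups.omegaOne_le 2 A).trans h.closed.1, fun x hx g hg => ?_⟩
  obtain ⟨hxA, hx2⟩ := h.mem_one_iff.1 hx
  exact h.mem_one_iff.2 ⟨h.closed.2 x hxA g hg, by rw [conj_pow, hx2, mul_one, mul_inv_cancel]⟩

theorem one_le : Cfsg.omegaOne 2 A ≤ A := PGroups.omegaOne_le 2 A

theorem one_le_centralizer : A ≤ centralizer (Cfsg.omegaOne 2 A : Set X) := fun _ ha =>
  mem_centralizer_iff.2 fun _ hb => h.mul_comm_of_mem (h.one_le hb) ha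

theorem exists_pow {a : X} (ha : a ∈ A) : ∃ j : ℕ, a ^ 2 ^ j = 1 := by
  obtain ⟨j, hj⟩ := T.2 ⟨a, h.closed.1 ha⟩
  exact ⟨j, congrArg Subtype.val hj⟩

/-- In a subgroup centralising `Z ≤ A`, an element of `A` whose square lies in `Z` has all its
commutators in a solvable normal subgroup. -/
theorem exists_solvable_normal {Z H : Subgroup X} (hZA : Z ≤ A) (hΩ : Cfsg.omegaOne 2 A ≤ Z)
    (hAH : A ≤ H) (hHZ : H ≤ centralizer (Z : Set X)) {a : X} (ha : a ∈ A) (ha2 : a * a ∈ Z) :
    ∃ M : Subgroup ↥H, M.Normal ∧ Group.IsSolvable ↥M ∧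
      ∀ x : ↥H, ⟨a, hAH ha⟩ * x * (⟨a, hAH ha⟩ : ↥H)⁻¹ * x⁻¹ ∈ M := by
  classical
  haveI : Fact (Nat.Prime 2) := ⟨Nat.prime_two⟩
  set Z' : Subgroup ↥H := Z.subgroupOf H with hZ'
  have hcen : ∀ z ∈ Z', ∀ g : ↥H, g * z = z * g := fun z hz g => Subtype.ext
    (mem_centralizer_iff.1 (hHZ g.2) _ hz).symm
  haveI hZn : Z'.Normal := ⟨fun z hz g => by rwa [hcen z hz g, mul_inv_cancel_right]⟩
  obtain ⟨T₀, hT₀⟩ := (((T.2.to_le h.closed.1)).of_equiv
    (subgroupOfEquivOfLe hAH).symm).exists_le_sylow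
  obtain ⟨R, hR⟩ := (T₀.2.map H.subtype).exists_le_sylow
  have hAR : A ≤ (R : Subgroup X) := fun b hb => hR ⟨⟨b, hAH hb⟩, hT₀ hb, rfl⟩
  obtain ⟨-, hclR⟩ := Cfsg.Agent.S1249.result T R A hAR h.closed
  set q := QuotientGroup.mk' Z' with hq
  let PQ : Sylow 2 (↥H ⧸ Z') := T₀.mapSurjective (QuotientGroup.mk'_surjective Z')
  set a' : ↥H := ⟨a, hAH ha⟩ with ha'
  have hv2' : q a' * q a' = 1 := by
    rw [← map_mul]
    exact (QuotientGroup.eq_one_iff _).2 (mem_subgroupOf.2 ha2)
  have hZM : ∀ N : Subgroup (↥H ⧸ Z'), Group.IsSolvable ↥N → Group.IsSolvable ↥(N.comap q) := by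
    intro N hN
    haveI := hN
    haveI : Group.IsSolvable ↥Z' := isSolvable_of_comm fun x y => Subtype.ext
      (hcen y y.2 x)
    refine Group.isSolvable_of_ker_le_range (inclusion (show Z' ≤ N.comap q from
      fun z hz => by
        show q z ∈ N
        rw [show q z = 1 from (QuotientGroup.eq_one_iff z).2 hz]
        exact one_mem _))
      ((q.comp (N.comap q).subtype).codRestrict N fun x => x.2) fun x hx => ?_
    have h1 : q x.1 = 1 := congrArg Subtype.val hx
    exact ⟨⟨x.1, (QuotientGroup.eq_one_iff _).1 h1⟩, rfl⟩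
  by_cases hv1 : q a' = 1
  · refine ⟨(⊥ : Subgroup (↥H ⧸ Z')).comap q, inferInstance, hZM ⊥ inferInstance, fun x => ?_⟩
    show q _ ∈ (⊥ : Subgroup _)
    simp [map_mul, map_inv, hv1]
  have hT₀H : ∀ {y : ↥H}, y ∈ (T₀ : Subgroup ↥H) → (y : X) ∈ (R : Subgroup X) :=
    fun hy => hR (mem_map_of_mem _ hy)
  have hPmem : q a' ∈ (PQ : Subgroup (↥H ⧸ Z')) := by
    rw [Sylow.coe_mapSurjective]
    exact mem_map_of_mem q (hT₀ ha)
  obtain ⟨N, hN, hodd, hcomm⟩ := Cfsg.Agent.S0215.result PQ (q a')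
    (orderOf_eq_prime (by rw [pow_two]; exact hv2') hv1) hPmem fun x hx => by
      obtain ⟨g, rfl⟩ := QuotientGroup.mk'_surjective Z' x
      rw [← map_inv, ← map_mul, ← map_mul] at hx
      obtain ⟨b, hb, hbe⟩ := hx
      have hz : b⁻¹ * (g * a' * g⁻¹) ∈ Z' := QuotientGroup.eq.1 hbe
      have hmem : (g : X) * a * (g : X)⁻¹ ∈ (R : Subgroup X) := by
        have := mul_mem (hT₀H hb) (hAR (hZA (mem_subgroupOf.1 hz)))
        simpa using this
      have hbA : (g : X) * a * (g : X)⁻¹ ∈ A := hclR a ha g hmem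
      have hc2 : ((g : X) * a * (g : X)⁻¹) * ((g : X) * a * (g : X)⁻¹) = a * a := by
        calc ((g : X) * a * (g : X)⁻¹) * ((g : X) * a * (g : X)⁻¹)
            = (g : X) * (a * a) * (g : X)⁻¹ := by group
          _ = a * a := by
            rw [← mem_centralizer_iff.1 (hHZ g.2) _ ha2, mul_inv_cancel_right]
      have hd : a⁻¹ * ((g : X) * a * (g : X)⁻¹) ∈ Z := hΩ <| h.mem_one_iff.2
        ⟨mul_mem (inv_mem ha) hbA, by
          rw [Commute.mul_pow (h.mul_comm_of_mem (inv_mem ha) hbA), inv_pow, pow_two, pow_two, hc2,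
            inv_mul_cancel]⟩
      rw [← map_inv, ← map_mul, ← map_mul]
      exact (QuotientGroup.eq.2 (show a'⁻¹ * (g * a' * g⁻¹) ∈ Z' from hd)).symm
  haveI := hN
  refine ⟨N.comap q, inferInstance, hZM N (OddOrder.FeitThompson.isSolvable_of_odd_card hodd),
    fun x => ?_⟩
  show q _ ∈ N
  simpa only [map_mul, map_inv] using hcomm (q x)

section component

variable {K : Subgroup X} (hK : Cfsg.IsComponent K)
include hK

/-- If `Ω₁(A)` centralises `K`, so does `A`. -/
theorem le_centralizer_of_one (hc : Cfsg.omegaOne 2 A ≤ centralizer (K : Set X)) :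
    A ≤ centralizer (K : Set X) := by
  haveI : Fact (Nat.Prime 2) := ⟨Nat.prime_two⟩
  intro a₀ ha₀
  obtain ⟨j, hj⟩ := h.exists_pow ha₀
  induction j generalizing a₀ with
  | zero =>
    rw [pow_zero, pow_one] at hj
    rw [hj]; exact one_mem _
  | succ j ih =>
    have hsq : a₀ * a₀ ∈ centralizer (K : Set X) := ih (a₀ := a₀ * a₀) (mul_mem ha₀ ha₀)
      (by rw [← pow_two, ← pow_mul, ← pow_succ']; exact hj)
    set Z : Subgroup X := Cfsg.omegaOne 2 A ⊔ zpowers (a₀ * a₀) with hZ
    have hZA : Z ≤ A := sup_le h.one_le (zpowers_le.2 (mul_mem ha₀ ha₀))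
    set H := centralizer (Z : Set X) with hH
    have hAH : A ≤ H := fun b hb => mem_centralizer_iff.2 fun z hz => h.mul_comm_of_mem (hZA hz) hb
    have hKH : K ≤ H := le_centralizer_iff.1 (sup_le hc (zpowers_le.2 hsq))
    obtain ⟨M, hMn, hMs, hM⟩ := h.exists_solvable_normal hZA le_sup_left hAH le_rfl ha₀
      (mem_sup_right (mem_zpowers _))
    have hKc : Cfsg.IsComponent (K.subgroupOf H) := Component.subgroupOf hK hKH
    have hMK : ∀ y ∈ M, ∀ k : ↥H, (k : X) ∈ K → y * k = k * y := fun y hy k hk =>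
      (mem_centralizer_iff.1 (commutator_eq_bot_iff_le_centralizer.1
        (Component.commutator_eq_bot_of_isSolvable hKc hMn.isSubnormal) hy) k hk).symm
    set a' : ↥H := ⟨a₀, hAH ha₀⟩
    let φ : ↥K →* ↥M :=
      { toFun := fun k => ⟨_, hM (inclusion hKH k)⟩
        map_one' := Subtype.ext (by simp [a'])
        map_mul' := fun k l => Subtype.ext (by
          show a' * inclusion hKH (k * l) * a'⁻¹ * (inclusion hKH (k * l))⁻¹ =
            (a' * inclusion hKH k * a'⁻¹ * (inclusion hKH k)⁻¹) *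
              (a' * inclusion hKH l * a'⁻¹ * (inclusion hKH l)⁻¹)
          have hdk := hMK _ (hM (inclusion hKH l)) (inclusion hKH k) k.2
          rw [map_mul]
          set d := a' * inclusion hKH l * a'⁻¹ * (inclusion hKH l)⁻¹ with hddef
          calc a' * (inclusion hKH k * inclusion hKH l) * a'⁻¹ *
                (inclusion hKH k * inclusion hKH l)⁻¹
              = a' * inclusion hKH k * a'⁻¹ * (inclusion hKH k)⁻¹ *
                  (inclusion hKH k * d * (inclusion hKH k)⁻¹) := by rw [hddef]; group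
            _ = _ := by rw [← hdk, mul_inv_cancel_right]) }
    haveI := hK.2.1
    haveI : Group.IsPerfect ↥φ.range :=
      Group.IsPerfect.ofSurjective (f := φ.rangeRestrict) φ.rangeRestrict_surjective
    haveI := hMs
    have hsub : Subsingleton ↥φ.range := by
      rcases subsingleton_or_nontrivial ↥φ.range with hs | hn
      · exact hs
      · exact absurd (inferInstance : Group.IsSolvable ↥φ.range)
          (Group.IsPerfect.not_isSolvable _)
    refine mem_centralizer_iff.2 fun k hk => ?_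
    have h1 : φ ⟨k, hk⟩ = 1 :=
      congrArg Subtype.val (hsub.elim (⟨_, ⟨k, hk⟩, rfl⟩ : ↥φ.range) 1)
    have h2 := congrArg (fun z : ↥M => ((z : ↥H) : X)) h1
    simp only [φ, MonoidHom.coe_mk, OneHom.coe_mk, Subgroup.coe_mul, InvMemClass.coe_inv,
      OneMemClass.coe_one, Subgroup.coe_inclusion, a'] at h2
    exact (mul_inv_eq_iff_eq_mul.1 (mul_inv_eq_one.1 h2)).symm

end component

end CoreSetting

end Cfsg.Agent.Lib.Goldschmidt53
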