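import Cfsg.Agent.Lib.Goldschmidt53.Core

/-!
# Goldschmidt keystone, rows: the components of the core setting

Every component is moved by `Ω₁(A)`, normalised by `A`, and an element of `A` acts on it as an
involution of `A` inside it.
-/

set_option autoImplicit false
set_option linter.unusedSectionVars false
set_option linter.style.haveILetI false

universe u

namespace Cfsg.Agent.Lib.Goldschmidt53

open Subgroup Cfsg.Agent.Lib.Components

namespace CoreSetting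

/-- The projection of a component on its central quotient. -/
abbrev qC {X : Type u} [Group X] (K : Subgroup X) : ↥K →* ↥K ⧸ Subgroup.center ↥K :=
  QuotientGroup.mk' _

theorem eq_of_qC {X : Type u} [Group X] {K : Subgroup X} {x y : ↥K} (h : qC K x = qC K y) :
    x⁻¹ * y ∈ Subgroup.center ↥K := QuotientGroup.eq.1 h

/-- A central element of a component centralises it. -/
theorem coe_mem_centralizer {X : Type u} [Group X] {K : Subgroup X} {z : ↥K}
    (hz : z ∈ Subgroup.center ↥K) : (z : X) ∈ centralizer (K : Set X) :=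
  mem_centralizer_iff.2 fun y hy => congrArg Subtype.val (Subgroup.mem_center_iff.1 hz ⟨y, hy⟩)

/-- An element of a component centralising it is central in it. -/
theorem mem_center_of_coe {X : Type u} [Group X] {K : Subgroup X} {z : ↥K}
    (hz : (z : X) ∈ centralizer (K : Set X)) : z ∈ Subgroup.center ↥K :=
  Subgroup.mem_center_iff.2 fun y => Subtype.ext (mem_centralizer_iff.1 hz _ y.2)

variable {X : Type u} [Group X] [Finite X] {T : Sylow 2 X} {A : Subgroup X} {m : ℕ}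
  (h : CoreSetting T A m) {K : Subgroup X} (hK : Cfsg.IsComponent K)
include h hK

/-- `Ω₁(A)` meets every component outside its centre. -/
theorem moved (hF : PropFacts.{u}) :
    ¬ ∀ x : ↥K, (x : X) ∈ Cfsg.omegaOne 2 A → x ∈ Subgroup.center ↥K := by
  haveI : Fact (Nat.Prime 2) := ⟨Nat.prime_two⟩
  intro hc
  have h1 : Cfsg.omegaOne 2 A ≤ centralizer (K : Set X) := h.toLocal.le_centralizer hK hc
  refine Component.not_le_centralizer_self hK (le_trans le_top (h.gen ▸ ?_))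
  refine (closure_le _).2 fun x hx => ?_
  obtain ⟨b, hb, hbx⟩ := Group.mem_conjugatesOfSet_iff.1 hx
  obtain ⟨g, rfl⟩ := isConj_iff.1 hbx
  -- the component `g⁻¹ K g` is centralised by `Ω₁(A)`, so by `A`
  set K' := K.map (MulAut.conj g⁻¹).toMonoidHom with hK'
  have hK'c : Cfsg.IsComponent K' := Component.conj hK _
  obtain ⟨k, hk, hkn⟩ := h.toLocal.frattini hF g⁻¹
  have h2 : Cfsg.omegaOne 2 A ≤ centralizer (K' : Set X) := by
    intro c hc'
    refine mem_centralizer_iff.2 ?_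
    intro y hy
    -- `y` is the image of an element of `K` under `n = k g⁻¹ ∈ N(Ω₁(A))`
    have hy' : k * y * k⁻¹ ∈ K' :=
      (mem_normalizer_iff.1 (Layer.layer_le_normalizer hK'c hk) y).1 hy
    obtain ⟨x₀, hx₀, hxe⟩ := hy
    have hxe' : g⁻¹ * x₀ * g = y := by simpa using hxe
    set n := k * g⁻¹ with hn
    have hny : n * x₀ * n⁻¹ = k * y * k⁻¹ := by rw [← hxe', hn]; group
    have hkc : k * c * k⁻¹ * (k * y * k⁻¹) = k * y * k⁻¹ * (k * c * k⁻¹) → c * y = y * c := by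
      intro e
      have e2 : k * (c * y) * k⁻¹ = k * (y * c) * k⁻¹ := by
        calc k * (c * y) * k⁻¹ = k * c * k⁻¹ * (k * y * k⁻¹) := by group
          _ = k * y * k⁻¹ * (k * c * k⁻¹) := e
          _ = _ := by group
      exact mul_left_cancel (mul_right_cancel e2)
    have hall : ∀ z ∈ K', ∀ c' ∈ Cfsg.omegaOne 2 A, c' * z = z * c' := by
      intro z hz c' hc''
      obtain ⟨z₀, hz₀, rfl⟩ :
          z ∈ (K.map (MulAut.conj n).toMonoidHom) := by
        have hz' : k⁻¹ * z * k ∈ K' :=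
          (mem_normalizer_iff''.1 (Layer.layer_le_normalizer hK'c hk) z).1 hz
        obtain ⟨z₁, hz₁, hze⟩ := hz'
        refine ⟨z₁, hz₁, ?_⟩
        have hze' : g⁻¹ * z₁ * g = k⁻¹ * z * k := by simpa using hze
        show n * z₁ * n⁻¹ = z
        calc n * z₁ * n⁻¹ = k * (g⁻¹ * z₁ * g) * k⁻¹ := by rw [hn]; group
          _ = z := by rw [hze']; group
      have hnc : n⁻¹ * c' * n ∈ Cfsg.omegaOne 2 A := (mem_normalizer_iff''.1 hkn c').1 hc''
      have e := mem_centralizer_iff.1 (h1 hnc) z₀ hz₀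
      show c' * (n * z₀ * n⁻¹) = n * z₀ * n⁻¹ * c'
      calc c' * (n * z₀ * n⁻¹) = n * ((n⁻¹ * c' * n) * z₀) * n⁻¹ := by group
        _ = n * (z₀ * (n⁻¹ * c' * n)) * n⁻¹ := by rw [e]
        _ = _ := by group
    exact (hall y ⟨x₀, hx₀, hxe⟩ c hc').symm
  have h3 := h.le_centralizer_of_one hK'c h2 hb
  refine mem_centralizer_iff.2 fun y hy => ?_
  have hy' : g⁻¹ * y * g ∈ K' := ⟨y, hy, by simp⟩
  have e := mem_centralizer_iff.1 h3 _ hy'
  calc y * (g * b * g⁻¹) = g * ((g⁻¹ * y * g) * b) * g⁻¹ := by group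
    _ = g * (b * (g⁻¹ * y * g)) * g⁻¹ := by rw [e]
    _ = _ := by group

/-- `A` normalises every component. -/
theorem le_normalizer (hF : PropFacts.{u}) : A ≤ normalizer (K : Set X) := by
  intro a ha
  set K' := K.map (MulAut.conj a).toMonoidHom with hK'
  refine mem_normalizer_iff_map_conj_eq.2 ?_
  by_contra hne
  refine h.moved hK hF fun x hx => mem_center_of_coe ?_
  refine Component.le_centralizer_of_ne (Component.conj hK a) hK hne ⟨(x : X), x.2, ?_⟩
  show a * (x : X) * a⁻¹ = x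
  rw [h.mul_comm_of_mem ha (h.one_le hx), mul_inv_cancel_right]

/-- `K / Z(K)` is known and `Ω₁(A) ∩ K` covers `Ω₁` of the image of `T ∩ K`. -/
theorem known (hF : PropFacts.{u}) :
    IsKnown (↥K ⧸ Subgroup.center ↥K) ∧ ∃ P : Sylow 2 (↥K ⧸ Subgroup.center ↥K),
      (∀ x : ↥K, qC K x ∈ (P : Subgroup _) ↔ (x : X) ∈ (T : Subgroup X)) ∧
      ((Cfsg.omegaOne 2 A).subgroupOf K).map (qC K) = Om P := by
  obtain ⟨hk, P, hTP, hPT, hOm⟩ := h.toLocal.known hK (h.moved hK hF)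
  refine ⟨hk, P, fun x => ⟨fun hx => ?_, hTP x⟩, hOm⟩
  obtain ⟨y, hy, hye⟩ := hPT _ hx
  have := mul_mem hy (h.toLocal.center_mem_sylow hK (eq_of_qC hye))
  simpa using this

variable {P : Sylow 2 (↥K ⧸ Subgroup.center ↥K)}
  (hP : ∀ x : ↥K, qC K x ∈ (P : Subgroup _) ↔ (x : X) ∈ (T : Subgroup X))
include hP

/-- A conjugate of an element of `T ∩ K` by a lift of an element of `N(P)` lies in `T`. -/
theorem lift_mem {n : ↥K ⧸ Subgroup.center ↥K}
    (hn : n ∈ normalizer ((P : Subgroup (↥K ⧸ Subgroup.center ↥K)) : Set (↥K ⧸ Subgroup.center ↥K))) {k : ↥K}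
    (hk : qC K k = n) {y : ↥K} (hy : (y : X) ∈ (T : Subgroup X)) :
    ((k * y * k⁻¹ : ↥K) : X) ∈ (T : Subgroup X) := by
  refine (hP _).1 ?_
  rw [map_mul, map_mul, map_inv, hk]
  exact (mem_normalizer_iff.1 hn _).1 ((hP y).2 hy)

/-- `A ∩ K` maps into `Ω₁(P)`. -/
theorem inter_le (hW : Walter.PropKnownFacts.{u}) (hkn : IsKnown (↥K ⧸ Subgroup.center ↥K))
    {x : ↥K} (hx : (x : X) ∈ A) : qC K x ∈ Om P := by
  set D : Set (↥K ⧸ Subgroup.center ↥K) := qC K '' {x : ↥K | (x : X) ∈ A} with hD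
  have hDP : ∀ v ∈ D, v ∈ (P : Subgroup _) := by
    rintro _ ⟨y, hy, rfl⟩
    exact (hP y).2 (h.closed.1 hy)
  have hinv : ∀ n ∈ normalizer ((P : Subgroup (↥K ⧸ Subgroup.center ↥K)) : Set (↥K ⧸ Subgroup.center ↥K)), ∀ v ∈ D,
      n * v * n⁻¹ ∈ D := by
    rintro n hn _ ⟨y, hy, rfl⟩
    obtain ⟨k, rfl⟩ := QuotientGroup.mk'_surjective (Subgroup.center ↥K) n
    refine ⟨k * y * k⁻¹, ?_, by rw [map_mul, map_mul, map_inv]⟩
    exact h.closed.2 (y : X) hy (k : X) (by simpa using h.lift_mem hK hP hn rfl (h.closed.1 hy))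
  have hc : ∀ v ∈ D, ∀ w ∈ D, v * w = w * v := by
    rintro _ ⟨y, hy, rfl⟩ _ ⟨z, hz, rfl⟩
    rw [← map_mul, ← map_mul]
    exact congrArg _ (Subtype.ext (h.mul_comm_of_mem hy hz))
  rcases Invariant.le_omega_or hW hkn P hDP hDP hinv hc with h1 | h1 <;>
    exact h1 _ ⟨x, hx, rfl⟩

/-- An element of `A` acts on `K` as an element of `T ∩ K`. -/
theorem exists_inner (hF : PropFacts.{u}) (hW : Walter.PropKnownFacts.{u})
    (hkn : IsKnown (↥K ⧸ Subgroup.center ↥K))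
    (hOm : ((Cfsg.omegaOne 2 A).subgroupOf K).map (qC K) = Om P) {a : X} (ha : a ∈ A) :
    ∃ y : ↥K, (y : X) ∈ (T : Subgroup X) ∧ (y : X)⁻¹ * a ∈ centralizer (K : Set X) := by
  classical
  haveI : Fact (Nat.Prime 2) := ⟨Nat.prime_two⟩
  have hf := hF _ hkn
  set Z := Subgroup.center ↥K with hZ
  have haK := h.le_normalizer hK hF ha
  let β : MulAut ↥K := K.normalizerMonoidHom ⟨a, haK⟩
  have hβ : ∀ x : ↥K, ((β x : ↥K) : X) = a * x * a⁻¹ := fun x => rfl
  have hβZ : Z.map β.toMonoidHom = Z :=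
    Subgroup.characteristic_iff_map_eq.1 inferInstance β
  let α : MulAut (↥K ⧸ Z) := QuotientGroup.congr Z Z β hβZ
  have hα : ∀ x : ↥K, α (qC K x) = qC K (β x) := fun x => rfl
  obtain ⟨j, hj⟩ := h.exists_pow ha
  have hαj : α ^ 2 ^ j = 1 := by
    have hpow : ∀ i : ℕ, ∀ x : ↥K, ∃ y : ↥K, (y : X) = a ^ i * x * (a ^ i)⁻¹ ∧
        (α ^ i) (qC K x) = qC K y := by
      intro i
      induction i with
      | zero => exact fun x => ⟨x, by simp, rfl⟩
      | succ i ih =>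
        intro x
        obtain ⟨y, hy, hy'⟩ := ih x
        refine ⟨β y, by rw [hβ, hy, pow_succ']; group, ?_⟩
        rw [pow_succ', MulAut.mul_apply, hy', hα]
    refine MulEquiv.ext fun v => ?_
    obtain ⟨x, rfl⟩ := QuotientGroup.mk'_surjective Z v
    obtain ⟨y, hy, hy'⟩ := hpow (2 ^ j) x
    rw [hy', MulAut.one_apply]
    refine congrArg _ (Subtype.ext ?_)
    rw [hy, hj, one_mul, inv_one, mul_one]
  obtain ⟨g, hgP, hg⟩ := hf.split P α (by
      obtain ⟨i, -, hi⟩ := (Nat.dvd_prime_pow Nat.prime_two).1 (orderOf_dvd_of_pow_eq_one hαj)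
      exact ⟨i, hi⟩)
    (fun v hv => by
      rw [← hOm] at hv
      obtain ⟨y, hy, rfl⟩ := hv
      refine congrArg (qC K) (Subtype.ext ?_)
      show a * (y : X) * a⁻¹ = y
      rw [h.mul_comm_of_mem ha (h.one_le (show (y : X) ∈ Cfsg.omegaOne 2 A from hy)),
        mul_inv_cancel_right])
    (fun v hv => by
      obtain ⟨y, rfl⟩ := QuotientGroup.mk'_surjective Z v
      have hyT := (hP y).1 hv
      rw [hα, ← map_inv, ← map_mul]
      refine h.inter_le hK hP hW hkn ?_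
      rw [Subgroup.coe_mul, InvMemClass.coe_inv, hβ]
      have h1 : (y : X)⁻¹ * a * (y : X) ∈ A := by
        have := h.closed.2 a ha (y : X)⁻¹ (by
          simpa using mul_mem (mul_mem (inv_mem hyT) (h.closed.1 ha)) hyT)
        simpa using this
      have h2 := mul_mem h1 (inv_mem ha)
      rwa [show (y : X)⁻¹ * (a * y * a⁻¹) = (y : X)⁻¹ * a * y * a⁻¹ by group])
  obtain ⟨y, rfl⟩ := QuotientGroup.mk'_surjective Z g
  refine ⟨y, (hP y).1 hgP, LocalSetting.mem_centralizer_of_mod hK fun k hk => ?_⟩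
  set k' : ↥K := y⁻¹ * β ⟨k, hk⟩ * y * (⟨k, hk⟩ : ↥K)⁻¹ with hk'
  have hkZ : k' ∈ Z := by
    rw [← QuotientGroup.eq_one_iff]
    show qC K _ = 1
    have hg' : ∀ v, α v = qC K y * v * (qC K y)⁻¹ := hg
    rw [hk', map_mul, map_mul, map_mul, ← hα, hg', map_inv, map_inv]
    group
  have e1 : (y : X)⁻¹ * a * k * ((y : X)⁻¹ * a)⁻¹ * k⁻¹ = k' := by
    rw [hk']; simp [hβ, mul_assoc]
  exact ⟨e1 ▸ k'.2, fun z hz => e1 ▸
    congrArg Subtype.val (Subgroup.mem_center_iff.1 hkZ ⟨z, hz⟩)⟩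

omit hP in
/-- An element of `A` acts on `K` as an involution of `A` inside it. -/
theorem exists_mem (hF : PropFacts.{u}) (hW : Walter.PropKnownFacts.{u}) {a : X} (ha : a ∈ A) :
    ∃ w : X, w ∈ Cfsg.omegaOne 2 A ∧ w ∈ K ∧ w⁻¹ * a ∈ centralizer (K : Set X) := by
  classical
  haveI : Fact (Nat.Prime 2) := ⟨Nat.prime_two⟩
  obtain ⟨hkn, P, hP, hOm⟩ := h.known hK hF
  set D : Set (↥K ⧸ Subgroup.center ↥K) := qC K '' {y : ↥K | (y : X) ∈ (T : Subgroup X) ∧
    ∃ b ∈ A, (y : X)⁻¹ * b ∈ centralizer (K : Set X)} with hD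
  have hDP : ∀ v ∈ D, v ∈ (P : Subgroup _) := by
    rintro _ ⟨y, hy, rfl⟩
    exact (hP y).2 hy.1
  have hinv : ∀ n ∈ normalizer ((P : Subgroup (↥K ⧸ Subgroup.center ↥K)) : Set (↥K ⧸ Subgroup.center ↥K)), ∀ v ∈ D,
      n * v * n⁻¹ ∈ D := by
    rintro n hn _ ⟨y, ⟨hyT, b, hb, hbc⟩, rfl⟩
    obtain ⟨k, rfl⟩ := QuotientGroup.mk'_surjective (Subgroup.center ↥K) n
    have hT' := h.lift_mem hK hP hn rfl hyT
    have e : (k : X) * b * (k : X)⁻¹ = ((k * y * k⁻¹ : ↥K) : X) * ((y : X)⁻¹ * b) := by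
      have hkc := mem_centralizer_iff.1 hbc (k : X)⁻¹ (inv_mem k.2)
      simp only [Subgroup.coe_mul, InvMemClass.coe_inv]
      calc (k : X) * b * (k : X)⁻¹ = (k : X) * y * (((y : X)⁻¹ * b) * (k : X)⁻¹) := by group
        _ = (k : X) * y * ((k : X)⁻¹ * ((y : X)⁻¹ * b)) := by rw [hkc]
        _ = _ := by group
    have hbT : (y : X)⁻¹ * b ∈ (T : Subgroup X) := mul_mem (inv_mem hyT) (h.closed.1 hb)
    have hbA : (k : X) * b * (k : X)⁻¹ ∈ A := h.closed.2 b hb _ (e ▸ mul_mem hT' hbT)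
    refine ⟨k * y * k⁻¹, ⟨hT', _, hbA, ?_⟩, by rw [map_mul, map_mul, map_inv]⟩
    rw [e, inv_mul_cancel_left]
    exact hbc
  have hc : ∀ v ∈ D, ∀ w ∈ D, v * w = w * v := by
    rintro _ ⟨y, ⟨-, b, hb, hbc⟩, rfl⟩ _ ⟨y', ⟨-, b', hb', hbc'⟩, rfl⟩
    rw [← map_mul, ← map_mul]
    refine QuotientGroup.eq.2 (mem_center_of_coe (mem_centralizer_iff.2 fun x hx => ?_))
    have hact : ∀ {u c : X}, u⁻¹ * c ∈ centralizer (K : Set X) → ∀ x ∈ K,
        u * x * u⁻¹ = c * x * c⁻¹ := by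
      intro u c huc x hx
      have e := mem_centralizer_iff.1 huc x hx
      calc u * x * u⁻¹ = u * (x * (u⁻¹ * c)) * c⁻¹ := by group
        _ = u * ((u⁻¹ * c) * x) * c⁻¹ := by rw [e]
        _ = c * x * c⁻¹ := by group
    have h1 : (y : X) * (y' * x * (y' : X)⁻¹) * (y : X)⁻¹ = b * (b' * x * b'⁻¹) * b⁻¹ := by
      rw [hact hbc _ (mul_mem (mul_mem y'.2 hx) (inv_mem y'.2)), hact hbc' x hx]
    have h2 : (y' : X) * (y * x * (y : X)⁻¹) * (y' : X)⁻¹ = b' * (b * x * b⁻¹) * b'⁻¹ := by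
      rw [hact hbc' _ (mul_mem (mul_mem y.2 hx) (inv_mem y.2)), hact hbc x hx]
    have h3 : ((y : X) * y') * x * ((y : X) * y')⁻¹ = ((y' : X) * y) * x * ((y' : X) * y)⁻¹ := by
      calc ((y : X) * y') * x * ((y : X) * y')⁻¹ = (y : X) * (y' * x * (y' : X)⁻¹) * (y : X)⁻¹ := by
            group
        _ = (b * b') * x * (b * b')⁻¹ := by rw [h1]; group
        _ = (b' * b) * x * (b' * b)⁻¹ := by rw [h.mul_comm_of_mem hb hb']
        _ = (y' : X) * (y * x * (y : X)⁻¹) * (y' : X)⁻¹ := by rw [h2]; group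
        _ = _ := by group
    simp only [Subgroup.coe_mul, InvMemClass.coe_inv]
    calc x * (((y : X) * y')⁻¹ * ((y' : X) * y))
        = ((y : X) * y')⁻¹ * ((y * y') * x * ((y : X) * y')⁻¹) * ((y' : X) * y) := by group
      _ = ((y : X) * y')⁻¹ * ((y' * y) * x * ((y' : X) * y)⁻¹) * ((y' : X) * y) := by rw [h3]
      _ = _ := by group
  obtain ⟨y, hyT, hyc⟩ := h.exists_inner hK hP hF hW hkn hOm ha
  have hyD : qC K y ∈ D := ⟨y, ⟨hyT, a, ha, hyc⟩, rfl⟩
  have hyo : qC K y ∈ Om P := by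
    rcases Invariant.le_omega_or hW hkn P hDP hDP hinv hc with h1 | h1 <;> exact h1 _ hyD
  rw [← hOm] at hyo
  obtain ⟨w, hw, hwy⟩ := hyo
  refine ⟨w, hw, w.2, ?_⟩
  have hz := coe_mem_centralizer (eq_of_qC hwy)
  rw [Subgroup.coe_mul, InvMemClass.coe_inv] at hz
  have := mul_mem hz hyc
  rwa [mul_assoc, mul_inv_cancel_left] at this

end CoreSetting

end Cfsg.Agent.Lib.Goldschmidt53
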