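import Cfsg.Agent.Lib.Goldschmidt53.CoreComp

/-!
# Goldschmidt keystone, rows: the structure of the core setting

`X = E(X)(A ∩ O₂(X))`, `O₂(X) ≤ A ∩ Z(X)`, the centres of the components lie in `A`, every element
of `T` with central square lies in `A`, and `X' = E(X)`.
-/

set_option autoImplicit false
set_option linter.unusedSectionVars false
set_option linter.style.haveILetI false

universe u

namespace Cfsg.Agent.Lib.Goldschmidt53

open Subgroup Cfsg.Agent.Lib.Components

namespace CoreSetting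

variable {X : Type u} [Group X] [Finite X] {T : Sylow 2 X} {A : Subgroup X} {m : ℕ}
  (h : CoreSetting T A m)
include h

/-- An element of `A` is an element of `A ∩ E(X)` times one centralising the layer. -/
theorem exists_decomp (hF : PropFacts.{u}) (hW : Walter.PropKnownFacts.{u}) {a : X} (ha : a ∈ A) :
    ∃ e ∈ A ⊓ Cfsg.layer X, ∃ c ∈ A ⊓ centralizer (Cfsg.layer X : Set X), a = e * c := by
  classical
  haveI : Fintype (Subgroup X) := Fintype.ofFinite _
  suffices ∀ s : Finset (Subgroup X), (∀ K ∈ s, Cfsg.IsComponent K) →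
      ∃ e ∈ A ⊓ Cfsg.layer X, ∃ c ∈ A, a = e * c ∧ ∀ K ∈ s, c ∈ centralizer (K : Set X) by
    obtain ⟨e, he, c, hc, hac, hall⟩ := this (Finset.univ.filter fun K => Cfsg.IsComponent K)
      (fun K hK => (Finset.mem_filter.1 hK).2)
    exact ⟨e, he, c, ⟨hc, Walter.Pairs.mem_centralizer_layer fun K hK => hall K (by simp [hK])⟩, hac⟩
  intro s
  induction s using Finset.induction with
  | empty => exact fun _ => ⟨1, one_mem _, a, ha, (one_mul a).symm, by simp⟩
  | @insert K s hKs ih =>
    intro hs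
    obtain ⟨e, he, c, hc, hac, hall⟩ := ih fun L hL => hs L (Finset.mem_insert_of_mem hL)
    have hK := hs K (Finset.mem_insert_self K s)
    obtain ⟨w, hw, hwK, hwc⟩ := h.exists_mem hK hF hW hc
    refine ⟨e * w, mul_mem he ⟨h.one_le hw, Layer.component_le_layer hK hwK⟩, w⁻¹ * c,
      mul_mem (inv_mem (h.one_le hw)) hc, by rw [hac]; group, fun L hL => ?_⟩
    rcases Finset.mem_insert.1 hL with rfl | hL
    · exact hwc
    · exact mul_mem (inv_mem (Component.le_centralizer_of_ne hK
        (hs L (Finset.mem_insert_of_mem hL)) (fun e' => hKs (e' ▸ hL)) hwK)) (hall L hL)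

/-- `A ∩ O₂(X)` is normal. -/
theorem conj_core {x : X} (hx : x ∈ A ⊓ Cfsg.pCore 2 X) (g : X) :
    g * x * g⁻¹ ∈ A ⊓ Cfsg.pCore 2 X := by
  haveI : Fact (Nat.Prime 2) := ⟨Nat.prime_two⟩
  haveI : (Cfsg.pCore 2 X).Normal := pCore_normal X
  have hg : g * x * g⁻¹ ∈ Cfsg.pCore 2 X := Subgroup.Normal.conj_mem inferInstance x hx.2 g
  exact ⟨h.closed.2 x hx.1 g (Cores.pCore_le_sylow T hg), hg⟩

/-- `A ∩ O₂(X)` is central. -/
theorem core_le_center : A ⊓ Cfsg.pCore 2 X ≤ Subgroup.center X := by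
  intro x hx
  refine Subgroup.mem_center_iff.2 fun g => mem_centralizer_singleton_iff.1 ?_
  suffices normalClosure (A : Set X) ≤ centralizer ({x} : Set X) from
    this (h.gen ▸ mem_top g)
  refine (closure_le _).2 fun y hy => ?_
  obtain ⟨b, hb, hby⟩ := Group.mem_conjugatesOfSet_iff.1 hy
  obtain ⟨k, rfl⟩ := isConj_iff.1 hby
  refine mem_centralizer_singleton_iff.2 ?_
  have h1 := h.conj_core hx k⁻¹
  rw [inv_inv] at h1
  have e := h.mul_comm_of_mem hb h1.1
  calc k * b * k⁻¹ * x = k * (b * (k⁻¹ * x * k)) * k⁻¹ := by group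
    _ = k * ((k⁻¹ * x * k) * b) * k⁻¹ := by rw [e]
    _ = _ := by group

/-- `X` stabilises the series `O₂(X) ≥ A ∩ O₂(X)`. -/
theorem chain {r : X} (hr : r ∈ Cfsg.pCore 2 X) (g : X) :
    g * r * g⁻¹ * r⁻¹ ∈ A ⊓ Cfsg.pCore 2 X := by
  haveI : Fact (Nat.Prime 2) := ⟨Nat.prime_two⟩
  set R := Cfsg.pCore 2 X with hR
  haveI hRn : R.Normal := pCore_normal X
  set A₀ : Subgroup X := A ⊓ R with hA₀
  haveI : A₀.Normal := ⟨fun x hx k => h.conj_core hx k⟩
  set N := (centralizer ((R.map (QuotientGroup.mk' A₀) : Subgroup _) : Set (X ⧸ A₀))).comap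
    (QuotientGroup.mk' A₀) with hN
  haveI : (R.map (QuotientGroup.mk' A₀)).Normal := hRn.map _ (QuotientGroup.mk'_surjective A₀)
  have hAN : A ≤ N := by
    intro a ha
    refine mem_centralizer_iff.2 ?_
    rintro _ ⟨s, hs, rfl⟩
    have hsT := Cores.pCore_le_sylow T hs
    have h1 : s * a * s⁻¹ * a⁻¹ ∈ A₀ := by
      refine Subgroup.mem_inf.2 ⟨mul_mem (h.closed.2 a ha s ?_) (inv_mem ha), ?_⟩
      · exact mul_mem (mul_mem hsT (h.closed.1 ha)) (inv_mem hsT)
      · rw [show s * a * s⁻¹ * a⁻¹ = s * (a * s⁻¹ * a⁻¹) by group]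
        exact mul_mem hs (hRn.conj_mem _ (inv_mem hs) a)
    rw [← QuotientGroup.eq_one_iff] at h1
    have h2 : QuotientGroup.mk' A₀ (s * a * s⁻¹ * a⁻¹) = 1 := h1
    rw [map_mul, map_mul, map_mul, map_inv, map_inv, mul_inv_eq_one, mul_inv_eq_iff_eq_mul] at h2
    exact h2
  have hg : g ∈ N := normalClosure_le_normal hAN (h.gen ▸ mem_top g)
  rw [← QuotientGroup.eq_one_iff]
  show QuotientGroup.mk' A₀ _ = 1
  rw [map_mul, map_mul, map_mul, ← mem_centralizer_iff.1 hg _ (mem_map_of_mem _ hr), map_inv,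
    map_inv]
  group

/-- The centraliser of the layer is `O₂(X)`. -/
theorem centralizer_layer_le : centralizer (Cfsg.layer X : Set X) ≤ Cfsg.pCore 2 X := by
  classical
  haveI : Fact (Nat.Prime 2) := ⟨Nat.prime_two⟩
  haveI : (Cfsg.layer X).Normal := Layer.layer_normal
  refine Cores.le_pCore (IsPGroup.iff_orderOf.2 fun y => ?_)
  obtain ⟨i, d, hd, hdi⟩ := Nat.exists_eq_two_pow_mul_odd (orderOf_pos (y : X)).ne'
  refine ⟨i, ?_⟩
  rw [← Subgroup.orderOf_coe, hdi]
  suffices hd1 : d = 1 by rw [hd1, mul_one]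
  set w : X := (y : X) ^ 2 ^ i with hw
  have hwC : w ∈ centralizer (Cfsg.layer X : Set X) := Subgroup.pow_mem _ y.2 _
  have hwo : orderOf w = d := by
    rw [hw, orderOf_pow' _ (pow_ne_zero i two_ne_zero), hdi, Nat.gcd_comm,
      Nat.gcd_mul_right_right, Nat.mul_div_cancel_left _ (pow_pos two_pos i)]
  have hwR : ∀ r ∈ Cfsg.pCore 2 X, r * w = w * r := by
    intro r hr
    set e := w * r * w⁻¹ * r⁻¹ with hedef
    have he0 := h.chain hr w
    rw [← hedef] at he0
    have hec := Subgroup.mem_center_iff.1 (h.core_le_center he0)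
    have hwr : w * r * w⁻¹ = e * r := (inv_mul_cancel_right _ _).symm
    have hpow : ∀ n : ℕ, w ^ n * r * (w ^ n)⁻¹ = e ^ n * r := by
      intro n
      induction n with
      | zero => simp
      | succ n ih =>
        rw [show w ^ (n + 1) * r * (w ^ (n + 1))⁻¹ = w * (w ^ n * r * (w ^ n)⁻¹) * w⁻¹ by
          rw [pow_succ']; group, ih]
        calc w * (e ^ n * r) * w⁻¹ = (w * e ^ n * w⁻¹) * (w * r * w⁻¹) := by group
          _ = e ^ n * (e * r) := by
            rw [hwr, (Commute.pow_right (hec w) n).eq, mul_inv_cancel_right]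
          _ = e ^ (n + 1) * r := by rw [pow_succ, mul_assoc (e ^ n)]
    have h1 := hpow (orderOf w)
    rw [pow_orderOf_eq_one, one_mul, inv_one, mul_one, eq_comm, mul_eq_right, hwo] at h1
    have he1 : e = 1 := by
      obtain ⟨j, hj⟩ := IsPGroup.iff_orderOf.1 (Cores.pCore_isPGroup 2) ⟨e, he0.2⟩
      rw [Subgroup.orderOf_mk] at hj
      refine orderOf_eq_one_iff.1 (Nat.eq_one_of_dvd_coprimes
        ((Nat.coprime_two_right.2 hd).pow_right j) ?_ hj.dvd)
      exact orderOf_dvd_of_pow_eq_one h1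
    rw [hedef, mul_inv_eq_one, mul_inv_eq_iff_eq_mul] at he1
    exact he1.symm
  have hwF : w ∈ centralizer (Cfsg.generalizedFittingSubgroup X : Set X) := by
    rw [mem_centralizer_iff]
    intro z hz
    have hle : Cfsg.generalizedFittingSubgroup X ≤ centralizer ({w} : Set X) := sup_le
      (fun k hk => mem_centralizer_singleton_iff.2 (mem_centralizer_iff.1 hwC k hk))
      (fun k hk => mem_centralizer_singleton_iff.2 (hwR k (h.toLocal.fitting.le hk)))
    exact mem_centralizer_singleton_iff.1 (hle hz)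
  haveI : (Cfsg.generalizedFittingSubgroup X).Normal := by
    haveI : (Cfsg.fittingSubgroup X).Normal := by
      rw [h.toLocal.fitting]; exact pCore_normal X
    unfold Cfsg.generalizedFittingSubgroup; infer_instance
  set C := centralizer (Cfsg.generalizedFittingSubgroup X : Set X) with hC
  haveI : IsMulCommutative ↥C := ⟨⟨fun x z => Subtype.ext
    (mem_centralizer_iff.1 z.2 x (GenFitting.centralizer_le x.2))⟩⟩
  have hCR : C ≤ Cfsg.pCore 2 X := by
    rw [← h.toLocal.fitting]
    exact Cores.le_fittingSubgroup (@CommGroup.isNilpotent ↥C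
      { (inferInstance : Group ↥C) with mul_comm := fun x z => IsMulCommutative.is_comm.comm x z })
  obtain ⟨j, hj⟩ := IsPGroup.iff_orderOf.1 ((Cores.pCore_isPGroup 2).to_le hCR) ⟨w, hwF⟩
  rw [Subgroup.orderOf_mk, hwo] at hj
  rcases j with _ | j
  · simpa using hj
  · exact absurd (hj ▸ dvd_pow_self 2 j.succ_ne_zero) hd.not_two_dvd_nat

/-- `A = (A ∩ E(X))(A ∩ O₂(X))`. -/
theorem exists_split (hF : PropFacts.{u}) (hW : Walter.PropKnownFacts.{u}) {a : X} (ha : a ∈ A) :
    ∃ e ∈ A ⊓ Cfsg.layer X, ∃ c ∈ A ⊓ Cfsg.pCore 2 X, a = e * c := by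
  obtain ⟨e, he, c, hc, hac⟩ := h.exists_decomp hF hW ha
  exact ⟨e, he, c, ⟨hc.1, h.centralizer_layer_le hc.2⟩, hac⟩

/-- `X = E(X)(A ∩ O₂(X))`. -/
theorem sup_eq_top (hF : PropFacts.{u}) (hW : Walter.PropKnownFacts.{u}) :
    Cfsg.layer X ⊔ (A ⊓ Cfsg.pCore 2 X) = ⊤ := by
  haveI : (Cfsg.layer X).Normal := Layer.layer_normal
  haveI : (A ⊓ Cfsg.pCore 2 X).Normal := ⟨fun x hx g => h.conj_core hx g⟩
  refine top_unique (h.gen ▸ normalClosure_le_normal fun a ha => ?_)
  obtain ⟨e, he, c, hc, rfl⟩ := h.exists_split hF hW ha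
  exact mul_mem (mem_sup_left he.2) (mem_sup_right hc)

/-- `O₂(X)` is central. -/
theorem pCore_le_center (hF : PropFacts.{u}) (hW : Walter.PropKnownFacts.{u}) :
    Cfsg.pCore 2 X ≤ Subgroup.center X := by
  intro r hr
  have hle : Cfsg.layer X ⊔ (A ⊓ Cfsg.pCore 2 X) ≤ centralizer ({r} : Set X) := by
    refine sup_le (fun e he => mem_centralizer_singleton_iff.2 ?_) fun c hc => ?_
    · exact (mem_centralizer_iff.1 (Layer.fitting_le_centralizer_layer
        (h.toLocal.fitting.ge hr)) e he)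
    · exact mem_centralizer_singleton_iff.2 (Subgroup.mem_center_iff.1 (h.core_le_center hc) r).symm
  rw [h.sup_eq_top hF hW] at hle
  exact Subgroup.mem_center_iff.2 fun g => mem_centralizer_singleton_iff.1 (hle (mem_top g))

/-- The centre of a component lies in `A`. -/
theorem center_le (hF : PropFacts.{u}) {K : Subgroup X}
    (hK : Cfsg.IsComponent K) {z : ↥K} (hz : z ∈ Subgroup.center ↥K) : (z : X) ∈ A := by
  classical
  haveI : Fact (Nat.Prime 2) := ⟨Nat.prime_two⟩
  obtain ⟨hkn, P, hP, hOm⟩ := h.known hK hF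
  have hf := hF _ hkn
  set Z := Subgroup.center ↥K with hZdef
  by_contra hzA
  have hZp : IsPGroup 2 ↥Z :=
    ((Cores.pCore_isPGroup 2).to_le (show Z.map K.subtype ≤ Cfsg.pCore 2 X by
      rintro _ ⟨y, hy, rfl⟩
      exact h.toLocal.center_mem hK hy)).of_equiv
        (Z.equivMapOfInjective K.subtype K.subtype_injective).symm
  obtain ⟨n, hn⟩ := IsPGroup.iff_card.1 hZp
  set H₀ : Subgroup ↥Z := A.comap (K.subtype.comp Z.subtype) with hH₀
  obtain ⟨n₀, hn₀⟩ := IsPGroup.iff_card.1 (hZp.to_subgroup H₀)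
  have hlt : n₀ < n := by
    rcases Nat.lt_or_ge n₀ n with hlt | hge
    · exact hlt
    · refine absurd ?_ hzA
      have htop : H₀ = ⊤ := Subgroup.eq_top_of_card_eq H₀ (le_antisymm (Subgroup.card_le_card_group H₀)
        (by rw [hn, hn₀]; exact Nat.pow_le_pow_right two_pos hge))
      exact (htop ▸ mem_top (⟨z, hz⟩ : ↥Z) : (⟨z, hz⟩ : ↥Z) ∈ H₀)
  obtain ⟨j, rfl⟩ : ∃ j, n = j + 1 := ⟨n - 1, by omega⟩
  obtain ⟨H, hH, hle⟩ := Sylow.exists_subgroup_card_pow_prime_le 2 (n := n₀) (m := j)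
    (by rw [hn]; exact pow_dvd_pow 2 j.le_succ) H₀ hn₀ (by omega)
  have hidx : H.index = 2 := by
    have h1 := H.card_mul_index
    rw [hH, hn, pow_succ] at h1
    exact Nat.eq_of_mul_eq_mul_left (pow_pos two_pos j) h1
  set Z₀ : Subgroup ↥K := H.map Z.subtype with hZ₀
  have hZ₀Z : Z₀ ≤ Z := Subgroup.map_subtype_le H
  haveI : Z₀.Normal := ⟨fun y hy g => by
    rwa [Subgroup.mem_center_iff.1 (hZ₀Z hy) g, mul_inv_cancel_right]⟩
  have hAZ₀ : ∀ y : ↥K, y ∈ Z → (y : X) ∈ A → y ∈ Z₀ := fun y hy hyA =>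
    ⟨⟨y, hy⟩, hle hyA, rfl⟩
  have hsqZ₀ : ∀ y : ↥K, y ∈ Z → y * y ∈ Z₀ := fun y hy =>
    ⟨(⟨y, hy⟩ : ↥Z) * ⟨y, hy⟩, (Subgroup.mul_self_mem_of_index_two hidx _), rfl⟩
  let π : ↥K ⧸ Z₀ →* ↥K ⧸ Z :=
    QuotientGroup.map Z₀ Z (MonoidHom.id ↥K) (by rw [Subgroup.comap_id]; exact hZ₀Z)
  set p := QuotientGroup.mk' Z₀ with hp
  have hπmk : ∀ x : ↥K, π (p x) = qC K x := fun x => rfl
  have hπs : Function.Surjective π := fun v => by
    obtain ⟨x, rfl⟩ := QuotientGroup.mk'_surjective Z v
    exact ⟨p x, hπmk x⟩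
  have hker : π.ker = Z.map p := by
    ext v
    obtain ⟨x, rfl⟩ := QuotientGroup.mk'_surjective Z₀ v
    rw [MonoidHom.mem_ker, hπmk]
    refine ⟨fun e => mem_map_of_mem _ ((QuotientGroup.eq_one_iff x).1 e), ?_⟩
    rintro ⟨y, hy, hyx⟩
    rw [← hπmk, ← hyx, hπmk]
    exact (QuotientGroup.eq_one_iff y).2 hy
  have hcen : π.ker ≤ Subgroup.center (↥K ⧸ Z₀) := by
    rw [hker]
    rintro _ ⟨y, hy, rfl⟩
    refine Subgroup.mem_center_iff.2 fun v => ?_
    obtain ⟨x, rfl⟩ := QuotientGroup.mk'_surjective Z₀ v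
    rw [← map_mul, ← map_mul, Subgroup.mem_center_iff.1 hy x]
  have hcard : Nat.card π.ker = 2 := by
    have e1 : π.ker = (p.comp Z.subtype).range := by
      rw [hker, MonoidHom.range_comp, Subgroup.range_subtype]
    rw [e1, ← Subgroup.index_ker]
    have e2 : (p.comp Z.subtype).ker = H := by
      rw [← MonoidHom.comap_ker, hp, QuotientGroup.ker_mk', hZ₀]
      exact Subgroup.comap_map_eq_self_of_injective Z.subtype_injective H
    rw [e2, hidx]
  haveI := hK.2.1
  haveI hperf : Group.IsPerfect (↥K ⧸ Z₀) :=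
    Group.IsPerfect.ofSurjective (f := p) (QuotientGroup.mk'_surjective Z₀)
  have hlift : ∀ v ∈ Om P, ∃ w : ↥K, (w : X) ∈ Cfsg.omegaOne 2 A ∧ qC K w = v := fun v hv => by
    rw [← hOm] at hv; exact hv
  obtain ⟨x, hx1, hx2, hxx⟩ := hf.cover (↥K ⧸ Z₀) π hπs hperf hcen hcard P (by
    intro v v' hv hv'
    obtain ⟨x, rfl⟩ := QuotientGroup.mk'_surjective Z₀ v
    obtain ⟨y, rfl⟩ := QuotientGroup.mk'_surjective Z₀ v'
    rw [hπmk] at hv hv'
    obtain ⟨w, hw, hwx⟩ := hlift _ hv
    have hz₁ : w⁻¹ * x ∈ Z := eq_of_qC hwx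
    have hyT := (hP y).1 hv'
    have hc : w * y * w⁻¹ * y⁻¹ ∈ Z := by
      rw [← QuotientGroup.eq_one_iff]
      show qC K _ = 1
      rw [map_mul, map_mul, map_mul, map_inv, map_inv,
        hf.omega_central P _ (hwx ▸ hv) _ hv']
      group
    have hcA : ((w * y * w⁻¹ * y⁻¹ : ↥K) : X) ∈ A := by
      have h1 := mul_mem (h.one_le hw) (inv_mem (h.closed.2 (w : X) (h.one_le hw) (y : X)
        (mul_mem (mul_mem hyT (h.closed.1 (h.one_le hw))) (inv_mem hyT))))
      simpa [mul_assoc] using h1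
    have hcomm : p w * p y = p y * p w := by
      have h1 : p (w * y * w⁻¹ * y⁻¹) = 1 := (QuotientGroup.eq_one_iff _).2 (hAZ₀ _ hc hcA)
      rw [map_mul, map_mul, map_mul, map_inv, map_inv] at h1
      exact mul_inv_eq_iff_eq_mul.1 (mul_inv_eq_one.1 h1)
    have hzc : ∀ u : ↥K, p (w⁻¹ * x) * p u = p u * p (w⁻¹ * x) := fun u => by
      rw [← map_mul, ← map_mul, Subgroup.mem_center_iff.1 hz₁ u]
    rw [show x = w * (w⁻¹ * x) by group, map_mul]
    calc p w * p (w⁻¹ * x) * p y = p w * p y * p (w⁻¹ * x) := by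
          rw [mul_assoc, hzc, ← mul_assoc]
      _ = p y * p w * p (w⁻¹ * x) := by rw [hcomm]
      _ = _ := mul_assoc _ _ _)
  obtain ⟨x, rfl⟩ := QuotientGroup.mk'_surjective Z₀ x
  rw [hπmk] at hx1 hx2
  -- conjugate the involution into `Ω₁(P)`
  obtain ⟨U, hU⟩ := (IsPGroup.of_card (n := 1) (by
    rw [Nat.card_zpowers, orderOf_eq_prime (by rw [pow_two]; exact hx2) hx1, pow_one]) :
    IsPGroup 2 ↥(zpowers (qC K x))).exists_le_sylow
  obtain ⟨g, hg⟩ := MulAction.exists_smul_eq (↥K ⧸ Z) U P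
  obtain ⟨k, rfl⟩ := QuotientGroup.mk'_surjective Z g
  have hmem : qC K (k * x * k⁻¹) ∈ Om P := by
    refine subset_closure ⟨?_, ?_⟩
    · rw [map_mul, map_mul, map_inv]
      exact ZStar.Elements.smul_mem hg (hU (mem_zpowers _))
    · rw [map_mul, map_mul, map_inv, conj_pow, pow_two, hx2, mul_one, mul_inv_cancel]
  obtain ⟨w, hw, hwx⟩ := hlift _ hmem
  have hz₁ : w⁻¹ * (k * x * k⁻¹) ∈ Z := eq_of_qC hwx
  refine hxx ?_
  rw [← map_mul]
  refine (QuotientGroup.eq_one_iff _).2 ?_
  have e1 : (k * x * k⁻¹) * (k * x * k⁻¹) = (w⁻¹ * (k * x * k⁻¹)) * (w⁻¹ * (k * x * k⁻¹)) := by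
    set z₁ := w⁻¹ * (k * x * k⁻¹) with hz₁def
    have hww : w * w = 1 := Subtype.ext (by
      rw [Subgroup.coe_mul, ← pow_two]; exact (h.mem_one_iff.1 hw).2)
    calc (k * x * k⁻¹) * (k * x * k⁻¹) = (w * z₁) * (w * z₁) := by rw [hz₁def]; group
      _ = w * (z₁ * w) * z₁ := by group
      _ = w * (w * z₁) * z₁ := by rw [← Subgroup.mem_center_iff.1 hz₁ w]
      _ = (w * w) * (z₁ * z₁) := by group
      _ = z₁ * z₁ := by rw [hww, one_mul]
  have h2 : (k * x * k⁻¹) * (k * x * k⁻¹) ∈ Z₀ := e1 ▸ hsqZ₀ _ hz₁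
  have h3 := (inferInstance : Z₀.Normal).conj_mem _ h2 k⁻¹
  rwa [show k⁻¹ * (k * x * k⁻¹ * (k * x * k⁻¹)) * k⁻¹⁻¹ = x * x by group] at h3

/-- A central element of the layer lies in `A`. -/
theorem layer_center_le (hF : PropFacts.{u}) {x : X} (hx : x ∈ Cfsg.layer X)
    (hxc : x ∈ centralizer (Cfsg.layer X : Set X)) : x ∈ A := by
  classical
  haveI : Fintype (Subgroup X) := Fintype.ofFinite _
  suffices ∀ s : Finset (Subgroup X), (∀ K ∈ s, Cfsg.IsComponent K) → ∀ y ∈ s.sup id,
      (∀ K ∈ s, y ∈ centralizer (K : Set X)) → y ∈ A by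
    refine this (Finset.univ.filter fun K => Cfsg.IsComponent K)
      (fun K hK => (Finset.mem_filter.1 hK).2) x ?_ fun K hK =>
        centralizer_le (SetLike.coe_subset_coe.2
          (Layer.component_le_layer (Finset.mem_filter.1 hK).2)) hxc
    exact (sSup_le fun K (hK : Cfsg.IsComponent K) =>
      Finset.le_sup (f := id) (show K ∈ Finset.univ.filter fun K => Cfsg.IsComponent K by simp [hK])
      : Cfsg.layer X ≤ _) hx
  intro s
  induction s using Finset.induction with
  | empty =>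
    intro _ y hy _
    rw [Finset.sup_empty, Subgroup.mem_bot] at hy
    rw [hy]; exact one_mem _
  | @insert K s hKs ih =>
    intro hs y hy hyc
    have hK := hs K (Finset.mem_insert_self K s)
    have hN : s.sup id ≤ centralizer (K : Set X) := Finset.sup_le fun L hL =>
      Component.le_centralizer_of_ne (hs L (Finset.mem_insert_of_mem hL)) hK
        (fun e => hKs (e ▸ hL))
    rw [Finset.sup_insert, id, sup_comm] at hy
    have hy' : y ∈ ((s.sup id ⊔ K : Subgroup X) : Set X) := hy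
    rw [Subgroup.coe_mul_of_left_le_normalizer_right _ _
      (hN.trans (centralizer_le_normalizer _))] at hy'
    obtain ⟨u, hu, k, hk, rfl⟩ := hy'
    have hkc : k ∈ centralizer (K : Set X) := by
      have := mul_mem (inv_mem (hN hu)) (hyc K (Finset.mem_insert_self K s))
      rwa [inv_mul_cancel_left] at this
    have hkA : k ∈ A := h.center_le hF hK (z := ⟨k, hk⟩) (mem_center_of_coe hkc)
    refine mul_mem (ih (fun L hL => hs L (Finset.mem_insert_of_mem hL)) u hu fun L hL => ?_) hkA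
    have := mul_mem (hyc L (Finset.mem_insert_of_mem hL))
      (inv_mem (Component.le_centralizer_of_ne hK (hs L (Finset.mem_insert_of_mem hL))
        (fun e => hKs (e ▸ hL)) hk))
    rwa [mul_inv_cancel_right] at this

/-- `O₂(X) ≤ A`. -/
theorem pCore_le (hF : PropFacts.{u}) (hW : Walter.PropKnownFacts.{u}) : Cfsg.pCore 2 X ≤ A := by
  intro r hr
  haveI : (Cfsg.layer X).Normal := Layer.layer_normal
  obtain ⟨e, he, c, hc, rfl⟩ := mem_sup_of_normal_left.1
    (h.sup_eq_top hF hW ▸ mem_top r : r ∈ Cfsg.layer X ⊔ (A ⊓ Cfsg.pCore 2 X))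
  refine mul_mem (h.layer_center_le hF he ?_) hc.1
  have := mul_mem (Layer.fitting_le_centralizer_layer (h.toLocal.fitting.ge hr))
    (inv_mem (Layer.fitting_le_centralizer_layer (h.toLocal.fitting.ge hc.2)))
  rwa [mul_inv_cancel_right] at this

/-- `X` is the product of a component and its centraliser. -/
theorem component_sup (hF : PropFacts.{u}) (hW : Walter.PropKnownFacts.{u}) {K : Subgroup X}
    (hK : Cfsg.IsComponent K) (g : X) :
    ∃ k ∈ K, ∃ c ∈ centralizer (K : Set X), g = k * c := by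
  have hg : g ∈ ((K ⊔ centralizer (K : Set X) : Subgroup X) : Set X) := by
    refine (show (⊤ : Subgroup X) ≤ K ⊔ centralizer (K : Set X) from ?_) (mem_top g)
    rw [← h.sup_eq_top hF hW]
    refine sup_le (sSup_le fun L hL => ?_) fun c hc => mem_sup_right ?_
    · by_cases he : L = K
      · exact he ▸ le_sup_left
      · exact (Component.le_centralizer_of_ne hL hK he).trans le_sup_right
    · exact mem_centralizer_iff.2 fun y _ => Subgroup.mem_center_iff.1 (h.core_le_center hc) y
  rw [Subgroup.coe_mul_of_left_le_normalizer_right _ _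
    (Subgroup.le_normalizer.trans (Balance.normalizer_le_normalizer_centralizer K))] at hg
  obtain ⟨k, hk, c, hc, rfl⟩ := hg
  exact ⟨k, hk, c, hc, rfl⟩

/-- An element of `T` with central square lies in `A`. -/
theorem mem_of_sq (hF : PropFacts.{u}) (hW : Walter.PropKnownFacts.{u}) {u : X}
    (hu : u ∈ (T : Subgroup X)) (hu2 : u * u ∈ Subgroup.center X) : u ∈ A := by
  classical
  haveI : Fact (Nat.Prime 2) := ⟨Nat.prime_two⟩
  haveI : Fintype (Subgroup X) := Fintype.ofFinite _
  suffices ∀ s : Finset (Subgroup X), (∀ K ∈ s, Cfsg.IsComponent K) →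
      ∃ d ∈ A, ∃ v ∈ (T : Subgroup X), v * v ∈ Subgroup.center X ∧ u = d * v ∧
        ∀ K ∈ s, v ∈ centralizer (K : Set X) by
    obtain ⟨d, hd, v, -, -, rfl, hall⟩ := this (Finset.univ.filter fun K => Cfsg.IsComponent K)
      (fun K hK => (Finset.mem_filter.1 hK).2)
    exact mul_mem hd (h.pCore_le hF hW (h.centralizer_layer_le
      (Walter.Pairs.mem_centralizer_layer fun K hK => hall K (by simp [hK]))))
  intro s
  induction s using Finset.induction with
  | empty => exact fun _ => ⟨1, one_mem _, u, hu, hu2, (one_mul u).symm, by simp⟩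
  | @insert K s hKs ih =>
    intro hs
    obtain ⟨d, hd, v, hvT, hv2, huv, hall⟩ := ih fun L hL => hs L (Finset.mem_insert_of_mem hL)
    have hK := hs K (Finset.mem_insert_self K s)
    obtain ⟨hkn, P, hP, hOm⟩ := h.known hK hF
    obtain ⟨k, hk, c, hc, rfl⟩ := h.component_sup hF hW hK v
    have hkc : c * k = k * c := (mem_centralizer_iff.1 hc k hk).symm
    set k' : ↥K := ⟨k, hk⟩
    have hconj : ∀ y : ↥K, ((k' * y * k'⁻¹ : ↥K) : X) = (k * c) * y * (k * c)⁻¹ := fun y => by
      have e := mem_centralizer_iff.1 hc (y : X) y.2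
      simp only [Subgroup.coe_mul, InvMemClass.coe_inv, k']
      calc k * (y : X) * k⁻¹ = k * ((y : X) * c) * c⁻¹ * k⁻¹ := by group
        _ = k * (c * y) * c⁻¹ * k⁻¹ := by rw [e]
        _ = _ := by group
    have hkN : qC K k' ∈ normalizer ((P : Subgroup (↥K ⧸ Subgroup.center ↥K)) :
        Set (↥K ⧸ Subgroup.center ↥K)) := by
      refine mem_normalizer_fintype ?_
      intro w hw
      obtain ⟨y, rfl⟩ := QuotientGroup.mk'_surjective (Subgroup.center ↥K) w
      have hmem : ((k' * y * k'⁻¹ : ↥K) : X) ∈ (T : Subgroup X) := by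
        rw [hconj]
        exact mul_mem (mul_mem hvT ((hP y).1 hw)) (inv_mem hvT)
      have := (hP _).2 hmem
      rwa [map_mul, map_mul, map_inv] at this
    have hk2 : qC K k' * qC K k' = 1 := by
      rw [← map_mul]
      refine (QuotientGroup.eq_one_iff _).2 (mem_center_of_coe ?_)
      have e : k * k = (k * c) * (k * c) * (c * c)⁻¹ := by
        calc k * k = k * k * (c * c) * (c * c)⁻¹ := by group
          _ = k * (k * c) * c * (c * c)⁻¹ := by group
          _ = k * (c * k) * c * (c * c)⁻¹ := by rw [hkc]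
          _ = _ := by group
      show k * k ∈ centralizer (K : Set X)
      rw [e]
      exact mul_mem (mem_centralizer_iff.2 fun y _ => Subgroup.mem_center_iff.1 hv2 y)
        (inv_mem (mul_mem hc hc))
    have hkP : qC K k' ∈ (P : Subgroup (↥K ⧸ Subgroup.center ↥K)) := by
      have hp : IsPGroup 2 ↥(zpowers (qC K k')) := by
        refine IsPGroup.of_card_dvd_pow (n := 1) ?_
        rw [Nat.card_zpowers, pow_one]
        exact orderOf_dvd_of_pow_eq_one (by rw [pow_two]; exact hk2)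
      exact (P.3 (hp.to_sup_of_normal_right' P.2 (zpowers_le.2 hkN)) le_sup_right).le
        (mem_sup_left (mem_zpowers _))
    have hkO : qC K k' ∈ Om P := subset_closure ⟨hkP, by rw [pow_two]; exact hk2⟩
    rw [← hOm] at hkO
    obtain ⟨w, hw, hwk⟩ := hkO
    have hz : w⁻¹ * k' ∈ Subgroup.center ↥K := eq_of_qC hwk
    have hzA : ((w⁻¹ * k' : ↥K) : X) ∈ A := h.center_le hF hK hz
    have hzR : ((w⁻¹ * k' : ↥K) : X) ∈ Subgroup.center X :=
      h.pCore_le_center hF hW (h.toLocal.center_mem hK hz)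
    have hkA : k ∈ A := by
      have := mul_mem (h.one_le hw) hzA
      simpa [k'] using this
    refine ⟨d * k, mul_mem hd hkA, c, ?_, ?_, by rw [huv]; group, fun L hL => ?_⟩
    · have := mul_mem (inv_mem (h.closed.1 hkA)) hvT
      rwa [inv_mul_cancel_left] at this
    · have hkk : k * k ∈ Subgroup.center X := by
        have e : k * k = ((w⁻¹ * k' : ↥K) : X) * ((w⁻¹ * k' : ↥K) : X) := by
          set z := ((w⁻¹ * k' : ↥K) : X) with hzdef
          have hk' : k = (w : X) * z := by simp [hzdef, k']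
          have hww : (w : X) * w = 1 := by rw [← pow_two]; exact (h.mem_one_iff.1 hw).2
          calc k * k = (w : X) * (z * w) * z := by rw [hk']; group
            _ = (w : X) * (w * z) * z := by rw [Subgroup.mem_center_iff.1 hzR (w : X)]
            _ = (w * w) * (z * z) := by group
            _ = z * z := by rw [hww, one_mul]
        rw [e]; exact mul_mem hzR hzR
      have e : c * c = (k * k)⁻¹ * ((k * c) * (k * c)) := by
        calc c * c = (k * k)⁻¹ * (k * (k * c) * c) := by group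
          _ = (k * k)⁻¹ * (k * (c * k) * c) := by rw [hkc]
          _ = _ := by group
      rw [e]
      exact mul_mem (inv_mem hkk) hv2
    · rcases Finset.mem_insert.1 hL with rfl | hL
      · exact hc
      · have := mul_mem (inv_mem (Component.le_centralizer_of_ne hK
          (hs L (Finset.mem_insert_of_mem hL)) (fun e => hKs (e ▸ hL)) hk)) (hall L hL)
        rwa [inv_mul_cancel_left] at this

/-- `A = O₂(X) Ω₁(T)`. -/
theorem eq_sup (hF : PropFacts.{u}) (hW : Walter.PropKnownFacts.{u}) :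
    A = Cfsg.pCore 2 X ⊔ Cfsg.omegaOne 2 (T : Subgroup X) := by
  classical
  haveI : Fintype (Subgroup X) := Fintype.ofFinite _
  refine le_antisymm ?_ (sup_le (h.pCore_le hF hW) ((closure_le _).2 fun x hx => h.mem_of_sq hF hW hx.1
    (by rw [← pow_two, hx.2]; exact one_mem _)))
  have hone : Cfsg.omegaOne 2 A ≤ Cfsg.omegaOne 2 (T : Subgroup X) :=
    (closure_le _).2 fun x hx => subset_closure ⟨h.closed.1 hx.1, hx.2⟩
  intro a ha
  suffices ∀ s : Finset (Subgroup X), (∀ K ∈ s, Cfsg.IsComponent K) →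
      ∃ e ∈ Cfsg.omegaOne 2 A, ∃ c ∈ A, a = e * c ∧ ∀ K ∈ s, c ∈ centralizer (K : Set X) by
    obtain ⟨e, he, c, hc, rfl, hall⟩ := this (Finset.univ.filter fun K => Cfsg.IsComponent K)
      (fun K hK => (Finset.mem_filter.1 hK).2)
    exact mul_mem (mem_sup_right (hone he)) (mem_sup_left (h.centralizer_layer_le
      (Walter.Pairs.mem_centralizer_layer fun K hK => hall K (by simp [hK]))))
  intro s
  induction s using Finset.induction with
  | empty => exact fun _ => ⟨1, one_mem _, a, ha, (one_mul a).symm, by simp⟩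
  | @insert K s hKs ih =>
    intro hs
    obtain ⟨e, he, c, hc, hac, hall⟩ := ih fun L hL => hs L (Finset.mem_insert_of_mem hL)
    have hK := hs K (Finset.mem_insert_self K s)
    obtain ⟨w, hw, hwK, hwc⟩ := h.exists_mem hK hF hW hc
    refine ⟨e * w, mul_mem he hw, w⁻¹ * c, mul_mem (inv_mem (h.one_le hw)) hc,
      by rw [hac]; group, fun L hL => ?_⟩
    rcases Finset.mem_insert.1 hL with rfl | hL
    · exact hwc
    · exact mul_mem (inv_mem (Component.le_centralizer_of_ne hK
        (hs L (Finset.mem_insert_of_mem hL)) (fun e' => hKs (e' ▸ hL)) hwK)) (hall L hL)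

/-- The derived group is the layer. -/
theorem commutator_eq (hF : PropFacts.{u}) (hW : Walter.PropKnownFacts.{u}) :
    _root_.commutator X = Cfsg.layer X := by
  haveI : (Cfsg.layer X).Normal := Layer.layer_normal
  refine le_antisymm ?_ ?_
  · rw [_root_.commutator_def, commutator_le]
    intro x _ y _
    have hq : ∀ z : X, ∃ c ∈ Subgroup.center X, QuotientGroup.mk' (Cfsg.layer X) z =
        QuotientGroup.mk' (Cfsg.layer X) c := fun z => by
      obtain ⟨e, he, c, hc, rfl⟩ := mem_sup_of_normal_left.1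
        (h.sup_eq_top hF hW ▸ mem_top z : z ∈ Cfsg.layer X ⊔ (A ⊓ Cfsg.pCore 2 X))
      refine ⟨c, h.core_le_center hc, ?_⟩
      rw [map_mul, show QuotientGroup.mk' (Cfsg.layer X) e = 1 from
        (QuotientGroup.eq_one_iff e).2 he, one_mul]
    obtain ⟨c, hc, hxc⟩ := hq x
    rw [← QuotientGroup.eq_one_iff]
    show QuotientGroup.mk' (Cfsg.layer X) _ = 1
    rw [map_commutatorElement, hxc, ← map_commutatorElement,
      commutatorElement_eq_one_iff_mul_comm.2 (Subgroup.mem_center_iff.1 hc y).symm, map_one]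
  · rw [← Layer.commutator_layer_self, _root_.commutator_def]
    exact commutator_mono le_top le_top

/-- `O₂(X) X' = X`. -/
theorem sup_commutator (hF : PropFacts.{u}) (hW : Walter.PropKnownFacts.{u}) :
    Cfsg.pCore 2 X ⊔ _root_.commutator X = ⊤ := by
  rw [h.commutator_eq hF hW, sup_comm]
  exact top_unique (le_trans (h.sup_eq_top hF hW).ge (sup_le_sup_left inf_le_right _))

/-- The layer modulo its centre is the product of the components modulo theirs. -/
theorem exists_product (hF : PropFacts.{u}) (hW : Walter.PropKnownFacts.{u}) :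
    ∃ (ι : Type) (_ : Fintype ι) (L : ι → Subgroup X), (∀ i, Cfsg.IsComponent (L i)) ∧
      Nonempty (↥(Cfsg.layer X) ⧸ Subgroup.center ↥(Cfsg.layer X) ≃*
        ((i : ι) → ↥(L i) ⧸ Subgroup.center ↥(L i))) := by
  classical
  haveI : Fintype {K : Subgroup X // Cfsg.IsComponent K} := Fintype.ofFinite _
  set e := Fintype.equivFin {K : Subgroup X // Cfsg.IsComponent K}
  set L : Fin (Fintype.card {K : Subgroup X // Cfsg.IsComponent K}) → Subgroup X :=
    fun i => (e.symm i).1 with hL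
  have hLc : ∀ i, Cfsg.IsComponent (L i) := fun i => (e.symm i).2
  have hsurj : ∀ {K : Subgroup X}, Cfsg.IsComponent K → ∃ i, L i = K := fun {K} hK =>
    ⟨e ⟨K, hK⟩, by simp [hL]⟩
  refine ⟨_, inferInstance, L, hLc, ?_⟩
  choose k hk c hc hkc using fun (i : Fin (Fintype.card {K : Subgroup X // Cfsg.IsComponent K}))
    (g : X) => h.component_sup hF hW (hLc i) g
  have huniq : ∀ i (g : X) (y : ↥(L i)), (y : X)⁻¹ * g ∈ centralizer (L i : Set X) →
      qC (L i) ⟨k i g, hk i g⟩ = qC (L i) y := by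
    intro i g y hy
    refine QuotientGroup.eq.2 (mem_center_of_coe ?_)
    have e1 : (k i g)⁻¹ * (y : X) = c i g * ((y : X)⁻¹ * g)⁻¹ := by
      have e0 := hkc i g
      generalize k i g = a, c i g = b at e0 ⊢
      subst e0
      group
    show (k i g)⁻¹ * (y : X) ∈ _
    rw [e1]
    exact mul_mem (hc i g) (inv_mem hy)
  let Φ : ↥(Cfsg.layer X) →* ((i : _) → ↥(L i) ⧸ Subgroup.center ↥(L i)) :=
    MonoidHom.mk' (fun g i => qC (L i) ⟨k i g, hk i g⟩) fun g g' => funext fun i => by
      show _ = qC (L i) _ * qC (L i) _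
      rw [← map_mul]
      refine huniq i _ _ ?_
      have e1 := hkc i (g : X)
      have e2 := hkc i (g' : X)
      have e3 : (((⟨k i g, hk i g⟩ : ↥(L i)) * ⟨k i g', hk i g'⟩ : ↥(L i)) : X)⁻¹ *
          ((g * g' : ↥(Cfsg.layer X)) : X) = ((k i g')⁻¹ * c i g * k i g') * c i g' := by
        simp only [Subgroup.coe_mul]
        generalize k i (g : X) = a, c i (g : X) = b, k i (g' : X) = a', c i (g' : X) = b' at e1 e2 ⊢
        rw [e1, e2]
        group
      rw [e3, mul_assoc (k i g')⁻¹, ← mem_centralizer_iff.1 (hc i g) _ (hk i g'),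
        inv_mul_cancel_left]
      exact mul_mem (hc i g) (hc i g')
  have hker : Φ.ker = Subgroup.center ↥(Cfsg.layer X) := by
    ext g
    constructor
    · intro hg
      have hgc : (g : X) ∈ centralizer (Cfsg.layer X : Set X) :=
        Walter.Pairs.mem_centralizer_layer fun K hK => by
          obtain ⟨i, rfl⟩ := hsurj hK
          have h1 : qC (L i) ⟨k i g, hk i g⟩ = 1 := congrFun (MonoidHom.mem_ker.1 hg) i
          rw [hkc i g]
          exact mul_mem (coe_mem_centralizer ((QuotientGroup.eq_one_iff _).1 h1)) (hc i g)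
      exact Subgroup.mem_center_iff.2 fun y => Subtype.ext (mem_centralizer_iff.1 hgc _ y.2)
    · intro hg
      refine MonoidHom.mem_ker.2 (funext fun i => ?_)
      refine (huniq i _ 1 ?_).trans (map_one _)
      rw [OneMemClass.coe_one, inv_one, one_mul]
      exact mem_centralizer_iff.2 fun y hy => congrArg Subtype.val
        (Subgroup.mem_center_iff.1 hg ⟨y, Layer.component_le_layer (hLc i) hy⟩)
  have hΦs : Function.Surjective Φ := by
    intro x
    refine MonoidHom.mem_range.1 (Subgroup.pi_mem_of_mulSingle_mem x fun i => ?_)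
    obtain ⟨y, hy⟩ := QuotientGroup.mk'_surjective _ (x i)
    refine ⟨⟨(y : X), Layer.component_le_layer (hLc i) y.2⟩, funext fun j => ?_⟩
    show qC (L j) _ = _
    by_cases hji : j = i
    · subst hji
      rw [Pi.mulSingle_eq_same, ← hy]
      refine huniq j _ y ?_
      rw [inv_mul_cancel]
      exact one_mem _
    · rw [Pi.mulSingle_eq_of_ne hji]
      refine (huniq j _ 1 ?_).trans (map_one _)
      rw [OneMemClass.coe_one, inv_one, one_mul]
      exact Component.le_centralizer_of_ne (hLc i) (hLc j) (fun e' => hji (e.symm.injective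
        (Subtype.ext e'.symm))) y.2
  exact ⟨(QuotientGroup.quotientMulEquivOfEq hker.symm).trans
    (QuotientGroup.quotientKerEquivOfSurjective Φ hΦs)⟩

end CoreSetting

end Cfsg.Agent.Lib.Goldschmidt53
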