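import Cfsg.Agent.Lib.Goldschmidt53.MonoBar

/-!
# Goldschmidt: three-balance within `A`

`delta_inf_centralizer_le_core`: `Δ(B) ∩ C(b) ≤ O(C(b))` for `B ≤ A` of order at least eight and
`b ∈ A`.
Owner: helper67 (section M).
-/

set_option autoImplicit false
set_option linter.style.haveILetI false
set_option linter.unusedSectionVars false

universe u

namespace Cfsg.Agent.Lib.Goldschmidt53.Mono

open Subgroup
open Cfsg.Agent.Lib.Walter (CBar liftBar coreC core proj imageBar mem_liftBar mem_imageBar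
  conj_mem_of_le_normalizer card_imageBar_dvd proj_mem_centralizer_component
  centralizer_zpowers coreC_zpowers odd_core core_le centralizer_le_normalizer_core
  inf_centralizer_le_normalizer imageBar_le_normalizer imageBar_mono)

variable {G : Type u} [Group G] [Finite G] {S : Sylow 2 G} {A B : Subgroup G}

theorem delta_normalizer (hB : B ≤ A) :
    centralizer (A : Set G) ≤ normalizer (Cfsg.signalizerDelta 2 B : Set G) := by
  intro s hs
  rw [Subgroup.mem_normalizer_iff]
  intro y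
  simp only [Balance.mem_signalizerDelta]
  exact forall₃_congr fun c hc _ => Subgroup.mem_normalizer_iff.1
    (centralizer_le_normalizer_core c
      (mem_centralizer_singleton_iff.2 (mem_centralizer_iff.1 hs c (hB hc)).symm)) y

theorem centralizer_le_centralizer_singleton {a : G} (ha : a ∈ A) :
    centralizer (A : Set G) ≤ centralizer ({a} : Set G) := fun _ hs =>
  mem_centralizer_singleton_iff.2 (mem_centralizer_iff.1 hs a ha).symm

theorem centralizer_le_normalizer_inf {a b : G} (ha : a ∈ A) (hb : b ∈ A) :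
    centralizer (A : Set G) ≤
      normalizer ((core a ⊓ centralizer ({b} : Set G) : Subgroup G) : Set G) :=
  (le_inf (centralizer_le_centralizer_singleton ha) (centralizer_le_centralizer_singleton hb)).trans
    (inf_centralizer_le_normalizer a b)

/-- `Δ(B) ∩ C(b) ≤ O(C(b))` for `B ≤ A` of order at least eight. -/
theorem delta_inf_centralizer_le_core (h : Hyp S A) (hX : PropLocal.{u}) (hN : PropNoCover.{u}) (hL : PropFacts.{u})
    (hB : B ≤ A) (h8 : 8 ≤ Nat.card ↥B) {b : G} (hb : b ∈ A) (hb1 : b ≠ 1) :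
    Cfsg.signalizerDelta 2 B ⊓ centralizer ({b} : Set G) ≤ core b := by
  haveI : Fact (Nat.Prime 2) := ⟨Nat.prime_two⟩
  have hA := h.elem
  set Z := zpowers b with hZ
  have hZA : Z ≤ A := zpowers_le.2 hb
  have hZ1 : Z ≠ ⊥ := zpowers_ne_bot.2 hb1
  have hCZ : centralizer (Z : Set G) = centralizer ({b} : Set G) := centralizer_zpowers b
  have hG := good h hX hN hZA hZ1
  obtain ⟨⟨c₀, hc₀⟩, hc₀'⟩ := Subgroup.ne_bot_iff_exists_ne_one.1 (show B ≠ ⊥ from fun e => by
    rw [e, card_bot] at h8; omega)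
  have hc₀1 : c₀ ≠ 1 := fun e => hc₀' (Subtype.ext e)
  set D := Cfsg.signalizerDelta 2 B ⊓ centralizer ({b} : Set G) with hD
  have hDodd : Odd (Nat.card ↥D) := (odd_core c₀).of_dvd_nat
    (card_dvd_of_le (inf_le_left.trans (Balance.signalizerDelta_le hc₀ hc₀1)))
  have hAD : centralizer (A : Set G) ≤ normalizer (D : Set G) := by
    intro s hs
    rw [Subgroup.mem_normalizer_iff]
    intro y
    exact and_congr (Subgroup.mem_normalizer_iff.1 (delta_normalizer hB hs) y)
      (Subgroup.mem_normalizer_iff.1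
        (le_normalizer (centralizer_le_centralizer_singleton hb hs)) y)
  intro d hd
  have hdC : d ∈ centralizer (Z : Set G) := hCZ.ge hd.2
  rw [← coreC_zpowers]
  refine mem_coreC_of_components hA hZA hG hDodd hAD hdC hd fun K hK hnc => ?_
  set δ := proj Z ⟨d, hdC⟩ with hδ
  -- the subgroup attached to one element of `B`
  have hD' : ∀ c ∈ B, c ≠ 1 → d ∈ core c ⊓ centralizer ({b} : Set G) ∧
      Odd (Nat.card ↥(core c ⊓ centralizer ({b} : Set G) : Subgroup G)) ∧
      imageBar Z (centralizer (zpowers c : Set G)) ≤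
        normalizer (imageBar Z (core c ⊓ centralizer ({b} : Set G)) : Set (CBar Z)) := by
    intro c hc hc1
    refine ⟨⟨Balance.signalizerDelta_le hc hc1 hd.1, hd.2⟩,
      (odd_core c).of_dvd_nat (card_dvd_of_le inf_le_left), imageBar_le_normalizer ?_⟩
    rw [centralizer_zpowers, hCZ]
    exact inf_centralizer_le_normalizer c b
  by_cases hcase : ∃ c, ∃ hc : c ∈ B, c ≠ 1 ∧
      proj Z ⟨c, le_centralizer hA hZA (hB hc)⟩ ∈ centralizer (K : Set (CBar Z))
  · obtain ⟨c, hc, hc1, hcK⟩ := hcase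
    obtain ⟨hdD, hodd, hnorm⟩ := hD' c hc hc1
    refine proj_mem_centralizer_component hK hodd ?_ hdC hdD
    exact le_trans (component_le_image hA hZA (zpowers_le.2 (hB hc))
      (zpowers_le.2 (mem_liftBar.2 ⟨_, hcK⟩))) hnorm
  -- otherwise `B` embeds into `A ∩ K`
  have hbar : ∀ c : ↥B, ∃ k ∈ bar Z A ⊓ K,
      k⁻¹ * proj Z ⟨(c : G), le_centralizer hA hZA (hB c.2)⟩ ∈
        centralizer (K : Set (CBar Z)) :=
    fun c => hG.exists_split hK (proj_mem_bar hA hZA (hB c.2))
  choose κ hκ hκc using hbar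
  have hinj : Function.Injective fun c : ↥B =>
      (⟨κ c, hκ c⟩ : ↥(bar Z A ⊓ K : Subgroup (CBar Z))) := by
    intro c c' e
    have e' : κ c = κ c' := congrArg Subtype.val e
    by_contra hne
    refine hcase ⟨(c : G)⁻¹ * c', mul_mem (inv_mem c.2) c'.2, fun e1 => hne
      (Subtype.ext (inv_mul_eq_one.1 e1)), ?_⟩
    have hh := mul_mem (inv_mem (hκc c)) (hκc c')
    rw [mul_inv_rev, inv_inv, e', mul_assoc, mul_inv_cancel_left, ← map_inv, ← map_mul] at hh
    exact hh
  have h8K : 8 ≤ Nat.card ↥(bar Z A ⊓ K : Subgroup (CBar Z)) :=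
    h8.trans (Nat.card_le_card_of_injective _ hinj)
  obtain ⟨hknown, P₀, hP₀⟩ := hG.case hK hnc
  have hF := hL ↥K hknown
  have hSyl : ∀ P : Sylow 2 ↥K, 8 ≤ Nat.card ↥(P : Subgroup ↥K) := by
    intro P
    rw [Nat.card_congr (Sylow.equiv P P₀).toEquiv]
    rw [hP₀, card_map_of_injective K.subtype_injective] at h8K
    exact h8K.trans (card_le_of_le (PGroups.omegaOne_le 2 _))
  -- one element of `B`
  set c : ↥B := ⟨c₀, hc₀⟩ with hc
  obtain ⟨hdD, hodd, hnorm⟩ := hD' c₀ hc₀ hc₀1
  set N₁ := imageBar Z (core c₀ ⊓ centralizer ({b} : Set G)) with hN₁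
  have hκ1 : κ c ≠ 1 := fun e => by
    refine hcase ⟨c₀, hc₀, hc₀1, ?_⟩
    have := hκc c
    rwa [e, inv_one, one_mul] at this
  set cb := proj Z ⟨c₀, le_centralizer hA hZA (hB hc₀)⟩ with hcb
  have hcbκ : cb = κ c * ((κ c)⁻¹ * cb) := (mul_inv_cancel_left _ _).symm
  set u : ↥K := ⟨κ c, (hκ c).2⟩ with hu
  have hu2 : orderOf u = 2 := orderOf_eq_prime (Subtype.ext (by
    rw [SubmonoidClass.coe_pow, pow_two]; exact sq_mem (bar_elementary hA) (hκ c).1))
    fun e => hκ1 (congrArg Subtype.val e)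
  -- commuting with `κ` inside `K` is commuting with `c`
  have hiff : ∀ z ∈ K, z * κ c = κ c * z ↔ z * cb = cb * z := by
    intro z hz
    have hg : z * ((κ c)⁻¹ * cb) = (κ c)⁻¹ * cb * z :=
      mem_centralizer_iff.1 (hκc c) z hz
    rw [hcbκ]
    constructor
    · intro e
      rw [← mul_assoc z, e, mul_assoc (κ c) z, hg, ← mul_assoc]
    · intro e
      refine mul_right_cancel (b := (κ c)⁻¹ * cb) ?_
      calc z * κ c * ((κ c)⁻¹ * cb) = κ c * ((κ c)⁻¹ * cb) * z := by rw [mul_assoc, e]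
        _ = κ c * z * ((κ c)⁻¹ * cb) := by rw [mul_assoc, ← hg, mul_assoc]
  have hzN : ∀ z ∈ K, z * κ c = κ c * z → z ∈ normalizer (N₁ : Set (CBar Z)) := by
    intro z hz e
    refine hnorm ?_
    obtain ⟨x, hx, hxz⟩ := exists_lift hA hZA (zpowers_le.2 (hB hc₀)) (y := z)
      fun a ha => by
        obtain ⟨n, rfl⟩ := mem_zpowers_iff.1 ha
        have e2 : (⟨c₀ ^ n, le_centralizer hA hZA (zpowers_le.2 (hB hc₀) ha)⟩ :
            ↥(centralizer (Z : Set G))) =
              ⟨c₀, le_centralizer hA hZA (hB hc₀)⟩ ^ n := Subtype.ext (by simp)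
        rw [e2, map_zpow]
        exact ((show Commute z cb from (hiff z hz).1 e).zpow_right n).eq.symm
    exact hxz ▸ mem_map_of_mem _ (mem_subgroupOf.2 hx)
  have hN₁c : ∀ y ∈ N₁, y * cb = cb * y := by
    rintro _ ⟨x, hx, rfl⟩
    rw [hcb, ← map_mul, ← map_mul]
    exact congrArg _ (Subtype.ext
      (mem_centralizer_singleton_iff.1 (core_le c₀ (mem_subgroupOf.1 hx).1)))
  have hcore := hF.core hSyl u hu2
  have hbot : N₁.subgroupOf K = ⊥ := by
    refine le_bot_iff.1 (le_of_le_of_eq (Balance.le_coreIn (p := 2) ?_ ?_ ?_) hcore)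
    · intro y hy
      exact mem_centralizer_singleton_iff.2 (Subtype.ext
        ((hiff y y.2).2 (hN₁c _ (mem_subgroupOf.1 hy))))
    · intro z hz
      rw [Subgroup.mem_normalizer_iff]
      intro y
      simp only [mem_subgroupOf, Subgroup.coe_mul, InvMemClass.coe_inv]
      exact Subgroup.mem_normalizer_iff.1
        (hzN z z.2 (congrArg Subtype.val (mem_centralizer_singleton_iff.1 hz))) _
    · refine (Nat.coprime_two_right.2 hodd).coprime_dvd_left
        (dvd_trans ?_ (card_imageBar_dvd (B := Z)))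
      exact card_comap_dvd_of_injective _ K.subtype K.subtype_injective
  have hn : δ ∈ normalizer (K : Set (CBar Z)) :=
    proj_mem_normalizer_component hA hZA hG hL hK hDodd hAD hdC hd
  have hδN : δ ∈ N₁ := mem_imageBar hdC hdD
  -- `δ` centralises `C_K(κ)`
  have hfix : ∀ z ∈ K, z * κ c = κ c * z → δ * z * δ⁻¹ = z := by
    intro z hz e
    have hmem : z * δ * z⁻¹ * δ⁻¹ ∈ N₁ ⊓ K := by
      refine ⟨mul_mem ((Subgroup.mem_normalizer_iff.1 (hzN z hz e) δ).1 hδN)
        (Subgroup.inv_mem _ hδN), ?_⟩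
      rw [mul_assoc, mul_assoc, ← mul_assoc δ]
      exact K.mul_mem hz ((Subgroup.mem_normalizer_iff.1 hn _).1 (K.inv_mem hz))
    have h1 : (⟨_, hmem.2⟩ : ↥K) = 1 := by
      rw [← Subgroup.mem_bot, ← hbot]
      exact mem_subgroupOf.2 hmem.1
    have h2 : z * δ * z⁻¹ * δ⁻¹ = 1 := congrArg Subtype.val h1
    calc δ * z * δ⁻¹ = (z * δ * z⁻¹ * δ⁻¹)⁻¹ * z := by group
      _ = z := by rw [h2, inv_one, one_mul]
  set α := K.normalizerMonoidHom ⟨δ, hn⟩ with hα
  have hαo : Odd (orderOf α) := by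
    refine hodd.of_dvd_nat ((orderOf_map_dvd _ _).trans ?_)
    rw [Subgroup.orderOf_mk]
    exact (Subgroup.orderOf_dvd_natCard _ hδN).trans card_imageBar_dvd
  have hα1 := hF.aut u hu2 α hαo fun x hx => Subtype.ext (hfix x x.2 (congrArg Subtype.val hx))
  refine mem_centralizer_iff.2 fun k hk => ?_
  have h3 : δ * k * δ⁻¹ = k := congrArg Subtype.val (DFunLike.congr_fun hα1 (⟨k, hk⟩ : ↥K))
  exact (mul_inv_eq_iff_eq_mul.1 h3).symm

end Cfsg.Agent.Lib.Goldschmidt53.Mono
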