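import Cfsg.Agent.Lib.Goldschmidt53.Interface
import Cfsg.Agent.Lib.Walter.MonoBase
import Cfsg.Agent.Lib.Walter.MonoBalance
import Cfsg.Agent.Lib.Balance.Locals
import Cfsg.Agent.S1250
import Cfsg.Agent.S1262

/-!
# Goldschmidt: centralisers of subgroups of `A` modulo their odd cores

`good`: for `1 ≠ B ≤ A` the image of `A` in `C(B)` modulo the core is strongly closed in a Sylow
subgroup and satisfies `Decomp`.  Criteria for membership in `coreC B` for subgroups of odd order
normalised by `C(A)`.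
Owner: helper67 (section M).
-/

set_option autoImplicit false
set_option linter.style.haveILetI false
set_option linter.unusedSectionVars false

universe u

namespace Cfsg.Agent.Lib.Goldschmidt53.Mono

open Subgroup
open scoped commutatorElement
open Cfsg.Agent.Lib.Walter (CBar liftBar coreC core proj imageBar mem_liftBar mem_imageBar
  proj_surjective proj_eq_one_iff proj_ker_odd barCore conj_mem_of_le_normalizer card_imageBar_dvd
  eq_one_of_sq_of_mem_imageBar proj_mem_centralizer_component odd_coreC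
  centralizer_le_normalizer_coreC imageBar_le_normalizer imageBar_mono)

variable {G : Type u} [Group G] [Finite G] {S : Sylow 2 G} {A B : Subgroup G}

theorem mem_normalizer_of_map_le {H : Subgroup G} {g : G}
    (h : H.map (MulAut.conj g).toMonoidHom ≤ H) : g ∈ normalizer (H : Set G) :=
  mem_normalizer_iff_map_conj_eq.2
    (eq_of_le_of_card_ge h (card_map_of_injective (MulAut.conj g).injective).ge)

/-! ## `A` -/

theorem sq_mem (hA : Cfsg.IsElementaryAbelian 2 A) {x : G} (hx : x ∈ A) : x * x = 1 := by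
  rw [← pow_two]; exact hA.2 x hx

theorem le_centralizer (hA : Cfsg.IsElementaryAbelian 2 A) (hB : B ≤ A) :
    A ≤ centralizer (B : Set G) := fun _ ha =>
  mem_centralizer_iff.2 fun _ hb => PGroups.elemAb_comm hA (hB hb) ha

theorem centralizer_le_centralizer (hB : B ≤ A) :
    centralizer (A : Set G) ≤ centralizer (B : Set G) := centralizer_le hB

theorem centralizer_le_normalizer_self (A : Subgroup G) :
    centralizer (A : Set G) ≤ normalizer (A : Set G) := centralizer_le_normalizer _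

/-- `A` is strongly closed in every Sylow subgroup containing it. -/
theorem closed_of_le (hcl : Cfsg.IsStronglyClosed A (S : Subgroup G)) (U : Sylow 2 G)
    (hAU : A ≤ (U : Subgroup G)) : Cfsg.IsStronglyClosed A (U : Subgroup G) := by
  haveI : Fact (Nat.Prime 2) := ⟨Nat.prime_two⟩
  obtain ⟨c, hc⟩ := MulAction.exists_smul_eq G U S
  have hconj : ∀ u ∈ (U : Subgroup G), c * u * c⁻¹ ∈ (S : Subgroup G) := fun u hu => by
    rw [← hc, Sylow.coe_subgroup_smul]
    exact Subgroup.smul_mem_pointwise_smul (a := MulAut.conj c) u _ hu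
  have hle : A.map (MulAut.conj c).toMonoidHom ≤ A := by
    rintro _ ⟨a, ha, rfl⟩
    exact hcl.2 a ha c (hconj a (hAU ha))
  have hcA : c ∈ normalizer (A : Set G) := mem_normalizer_of_map_le hle
  refine ⟨hAU, fun a ha g hg => ?_⟩
  have h := hcl.2 a ha (c * g) (by
    have := hconj _ hg
    rwa [show c * g * a * (c * g)⁻¹ = c * (g * a * g⁻¹) * c⁻¹ by group])
  rw [show c * g * a * (c * g)⁻¹ = c * (g * a * g⁻¹) * c⁻¹ by group] at h
  exact (Subgroup.mem_normalizer_iff.1 hcA _).2 h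

/-! ## The centraliser modulo its core -/

/-- The image of `A` in `CBar B`. -/
abbrev bar (B A : Subgroup G) : Subgroup (CBar B) := imageBar B A

/-- `CBar B` has trivial core, the image of `A` is strongly closed and splits along the components. -/
structure Good (B A : Subgroup G) : Prop where
  closed : ∃ T : Sylow 2 (CBar B), Cfsg.IsStronglyClosed (bar B A) (T : Subgroup (CBar B))
  decomp : Decomp (bar B A)
  center : ∀ K : Subgroup (CBar B), Cfsg.IsComponent K →
    ¬ bar B A ≤ Subgroup.centralizer (K : Set (CBar B)) → Subgroup.center ↥K = ⊥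

theorem bar_elementary (hA : Cfsg.IsElementaryAbelian 2 A) :
    Cfsg.IsElementaryAbelian 2 (bar B A) := by
  refine ⟨⟨⟨fun x y => Subtype.ext ?_⟩⟩, ?_⟩
  · obtain ⟨_, a, ha, rfl⟩ := x
    obtain ⟨_, b, hb, rfl⟩ := y
    show proj B a * proj B b = proj B b * proj B a
    rw [← map_mul, ← map_mul]
    exact congrArg _ (Subtype.ext
      (PGroups.elemAb_comm hA (mem_subgroupOf.1 ha) (mem_subgroupOf.1 hb)))
  · rintro _ ⟨a, ha, rfl⟩
    rw [← map_pow]
    have : a ^ 2 = 1 := Subtype.ext (hA.2 _ (mem_subgroupOf.1 ha))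
    rw [this, map_one]

theorem proj_mem_bar (hA : Cfsg.IsElementaryAbelian 2 A) (hB : B ≤ A) {x : G} (hx : x ∈ A) :
    proj B ⟨x, le_centralizer hA hB hx⟩ ∈ bar B A := mem_imageBar _ hx

theorem centralizer_ne_top (h : Hyp S A) (hB : B ≠ ⊥) : centralizer (B : Set G) ≠ ⊤ := by
  intro he
  haveI := h.simple
  have hle : B ≤ Subgroup.center G := fun b hb => Subgroup.mem_center_iff.2 fun g => by
    have hg : g ∈ centralizer (B : Set G) := he ▸ mem_top g
    exact (mem_centralizer_iff.1 hg b hb).symm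
  rcases Subgroup.Normal.eq_bot_or_eq_top (inferInstance : (Subgroup.center G).Normal) with hb | ht
  · exact hB (le_bot_iff.1 (hb ▸ hle))
  · exact h.nonabelian ⟨⟨fun a b => Subgroup.mem_center_iff.1 (ht ▸ mem_top b) a⟩⟩

theorem good (h : Hyp S A) (hX : PropLocal.{u}) (hN : PropNoCover.{u}) (hB : B ≤ A) (hB1 : B ≠ ⊥) :
    Good B A := by
  haveI : Fact (Nat.Prime 2) := ⟨Nat.prime_two⟩
  have hA := h.elem
  set C := centralizer (B : Set G)
  have hAC : A ≤ C := le_centralizer hA hB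
  obtain ⟨T₀, hT₀⟩ := ((PGroups.elemAb_isPGroup hA).comap_of_injective C.subtype
    C.subtype_injective).exists_le_sylow (G := ↥C)
  obtain ⟨U, hU⟩ := (T₀.2.map C.subtype).exists_le_sylow
  have hAU : A ≤ (U : Subgroup G) := fun a ha =>
    hU (mem_map_of_mem C.subtype (hT₀ (mem_subgroupOf.2 ha : (⟨a, hAC ha⟩ : ↥C) ∈ A.subgroupOf C)))
  have hcl₀ : Cfsg.IsStronglyClosed (A.subgroupOf C) (T₀ : Subgroup ↥C) := by
    refine ⟨hT₀, fun x hx g hg => mem_subgroupOf.2 ?_⟩
    exact (closed_of_le h.closed U hAU).2 _ (mem_subgroupOf.1 hx) _ (hU (mem_map_of_mem C.subtype hg))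
  have hcl := Cfsg.Agent.S1250.result T₀ (A.subgroupOf C) hcl₀ (Cfsg.oddCore ↥C)
  let T : Sylow 2 (CBar B) := T₀.mapSurjective (proj_surjective B)
  have hcl' : Cfsg.IsStronglyClosed (bar B A) (T : Subgroup (CBar B)) := hcl
  refine ⟨⟨T, hcl'⟩, hX (CBar B) (Nat.card G) (barCore B) ?_ h.below T (bar B A)
    (bar_elementary hA) hcl', fun K hK hnc => hN G S A h B hB hB1 K hK fun hle => hnc ?_⟩
  swap
  · rintro _ ⟨x, hx, rfl⟩
    obtain ⟨_, hk⟩ := mem_liftBar.1 (hle (mem_subgroupOf.1 hx))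
    exact hk
  refine lt_of_le_of_lt (Nat.card_le_card_of_surjective _ (proj_surjective B)) ?_
  refine lt_of_le_of_ne (Subgroup.card_le_card_group _) fun he => centralizer_ne_top h hB1 ?_
  exact Subgroup.eq_top_of_card_eq _ he

/-- A component not centralised by `A`, with what is known about it. -/
theorem Good.case (hg : Good B A) {K : Subgroup (CBar B)} (hK : Cfsg.IsComponent K)
    (hnc : ¬ bar B A ≤ centralizer (K : Set (CBar B))) :
    IsKnown ↥K ∧ ∃ P : Sylow 2 ↥K, bar B A ⊓ K = (Om P).map K.subtype :=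
  hg.decomp.simple K hK hnc (hg.center K hK hnc)

theorem Good.four_le (hg : Good B A) (hL : PropFacts.{u}) {K : Subgroup (CBar B)}
    (hK : Cfsg.IsComponent K) (hnc : ¬ bar B A ≤ centralizer (K : Set (CBar B))) :
    4 ≤ Nat.card ↥(bar B A ⊓ K : Subgroup (CBar B)) := by
  obtain ⟨hk, P, hP⟩ := hg.case hK hnc
  rw [hP, card_map_of_injective K.subtype_injective]
  exact (hL ↥K hk).four_le P

theorem Good.eq_one_of_centralizes (hg : Good B A) (hL : PropFacts.{u}) {K : Subgroup (CBar B)}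
    (hK : Cfsg.IsComponent K) (hnc : ¬ bar B A ≤ centralizer (K : Set (CBar B))) {v : CBar B}
    (hv : v ∈ K) (hc : v ∈ centralizer (K : Set (CBar B))) : v = 1 := by
  have hF := hL ↥K (hg.case hK hnc).1
  haveI := hF.simple
  have hmem : (⟨v, hv⟩ : ↥K) ∈ Subgroup.center ↥K :=
    mem_center_iff.2 fun k => Subtype.ext (mem_centralizer_iff.1 hc _ k.2)
  rcases Subgroup.Normal.eq_bot_or_eq_top (inferInstance : (Subgroup.center ↥K).Normal) with hb | ht
  · rw [hb, mem_bot] at hmem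
    exact congrArg Subtype.val hmem
  · exact absurd ⟨⟨fun a b => mem_center_iff.1 (ht ▸ mem_top b) a⟩⟩ hF.nonabelian

theorem pCore_le_centralizer_component {X : Type u} [Group X] [Finite X] {K : Subgroup X}
    (hK : Cfsg.IsComponent K) : Cfsg.pCore 2 X ≤ centralizer (K : Set X) := by
  haveI : Fact (Nat.Prime 2) := ⟨Nat.prime_two⟩
  exact (Cores.pCore_le_fittingSubgroup 2).trans
    (Components.Component.fittingSubgroup_le_centralizer hK)

/-- A conjugate of a component not centralised by `A` is not centralised by `A`. -/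
theorem Good.not_le_centralizer_conj (hg : Good B A) (hL : PropFacts.{u}) {K : Subgroup (CBar B)}
    (hA : Cfsg.IsElementaryAbelian 2 A) (hK : Cfsg.IsComponent K)
    (hnc : ¬ bar B A ≤ centralizer (K : Set (CBar B))) (γ : CBar B) :
    ¬ bar B A ≤ centralizer (K.map (MulAut.conj γ).toMonoidHom : Set (CBar B)) := by
  haveI : Fact (Nat.Prime 2) := ⟨Nat.prime_two⟩
  intro hc
  set K' := K.map (MulAut.conj γ).toMonoidHom with hK'
  have h4 := hg.four_le hL hK hnc
  obtain ⟨⟨v, hvA, hvK⟩, hv1⟩ := Subgroup.ne_bot_iff_exists_ne_one.1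
    (show (bar B A ⊓ K : Subgroup (CBar B)) ≠ ⊥ from fun e => by
      rw [e, card_bot] at h4; omega)
  have hv'K : γ * v * γ⁻¹ ∈ K' := mem_map_of_mem _ hvK
  obtain ⟨T, hT⟩ := hg.closed
  obtain ⟨Q, hQ⟩ := Walter.Pairs.exists_sylow_subnormal T (Components.Component.conj hK γ).1
  set v' : ↥K' := ⟨γ * v * γ⁻¹, hv'K⟩
  obtain ⟨R, hR⟩ := ((PGroups.elemAb_isPGroup (bar_elementary hA)).map
    (MulAut.conj γ).toMonoidHom |>.comap_of_injective K'.subtype K'.subtype_injective).exists_le_sylow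
  obtain ⟨k, hk⟩ := MulAction.exists_smul_eq ↥K' R Q
  have hkv : k * v' * k⁻¹ ∈ (T : Subgroup (CBar B)).subgroupOf K' := by
    rw [← hQ, ← hk, Sylow.coe_subgroup_smul]
    exact Subgroup.smul_mem_pointwise_smul (a := MulAut.conj k) v' _
      (hR (mem_subgroupOf.2 (mem_map_of_mem _ hvA)))
  have hy : ((k * v' * k⁻¹ : ↥K') : CBar B) ∈ bar B A := by
    have he : ((k * v' * k⁻¹ : ↥K') : CBar B) = ((k : CBar B) * γ) * v * ((k : CBar B) * γ)⁻¹ := by
      show (k : CBar B) * (γ * v * γ⁻¹) * (k : CBar B)⁻¹ = _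
      group
    rw [he]
    exact hT.2 v hvA _ (he ▸ mem_subgroupOf.1 hkv)
  have hcen := hc hy
  have hv'C : γ * v * γ⁻¹ ∈ centralizer (K' : Set (CBar B)) := by
    have h1 := mem_centralizer_iff.1 hcen _ k.2
    have h2 : ((k * v' * k⁻¹ : ↥K') : CBar B) = γ * v * γ⁻¹ := by
      have h3 : ((k * v' * k⁻¹ : ↥K') : CBar B) =
          (k : CBar B) * (γ * v * γ⁻¹) * (k : CBar B)⁻¹ := rfl
      calc ((k * v' * k⁻¹ : ↥K') : CBar B)
          = (k : CBar B)⁻¹ * ((k : CBar B) * ((k * v' * k⁻¹ : ↥K') : CBar B)) := by group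
        _ = (k : CBar B)⁻¹ * (((k * v' * k⁻¹ : ↥K') : CBar B) * k) := by rw [h1]
        _ = _ := by rw [h3]; group
    rwa [h2] at hcen
  refine hv1 (Subtype.ext (hg.eq_one_of_centralizes hL hK hnc hvK ?_))
  refine mem_centralizer_iff.2 fun z hz => (MulAut.conj γ).injective ?_
  rw [map_mul, map_mul]
  exact mem_centralizer_iff.1 hv'C _ (mem_map_of_mem _ hz)

/-- An element of `A` acts on a component as an element of `A` inside it. -/
theorem Good.exists_split (hg : Good B A) {K : Subgroup (CBar B)} (hK : Cfsg.IsComponent K)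
    {y : CBar B} (hy : y ∈ bar B A) :
    ∃ κ ∈ bar B A ⊓ K, κ⁻¹ * y ∈ centralizer (K : Set (CBar B)) := by
  set R := bar B A ⊓ K with hR
  set C := centralizer (K : Set (CBar B)) with hC
  have hRC : R ≤ normalizer (C : Set (CBar B)) := by
    exact inf_le_right.trans (le_normalizer.trans
      (Balance.normalizer_le_normalizer_centralizer K))
  have hle : bar B A ≤ R ⊔ C := by
    refine hg.decomp.split.trans (sup_le ((inf_le_right.trans
      (pCore_le_centralizer_component hK)).trans le_sup_right) (iSup_le fun K' => ?_))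
    rcases eq_or_ne K'.1 K with he | he
    · rw [he]; exact le_sup_left
    · exact inf_le_right.trans ((Components.Component.le_centralizer_of_ne K'.2 hK he).trans
        le_sup_right)
  have hy' : y ∈ ((R ⊔ C : Subgroup (CBar B)) : Set (CBar B)) := hle hy
  rw [Subgroup.coe_mul_of_left_le_normalizer_right _ _ hRC] at hy'
  obtain ⟨κ, hκ, c, hc, rfl⟩ := hy'
  exact ⟨κ, hκ, by simpa using hc⟩

/-! ## Lifting -/

/-- Lifting of centralisers of subgroups of `A`. -/
theorem exists_lift (hA : Cfsg.IsElementaryAbelian 2 A) (hB : B ≤ A) {B' : Subgroup G}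
    (hB' : B' ≤ A) {y : CBar B}
    (hy : ∀ a (ha : a ∈ B'), proj B ⟨a, le_centralizer hA hB (hB' ha)⟩ * y =
      y * proj B ⟨a, le_centralizer hA hB (hB' ha)⟩) :
    ∃ x : ↥(centralizer (B : Set G)), (x : G) ∈ centralizer (B' : Set G) ∧ proj B x = y := by
  haveI : Fact (Nat.Prime 2) := ⟨Nat.prime_two⟩
  obtain ⟨⟨x₀, hx₀⟩, rfl⟩ := proj_surjective B y
  have hB'C : B' ≤ centralizer (B : Set G) := fun a ha => le_centralizer hA hB (hB' ha)
  obtain ⟨j, hj⟩ := IsPGroup.iff_card.1 ((PGroups.elemAb_isPGroup hA).to_le hB')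
  have hcop : (Nat.card ↥B').Coprime (Nat.card ↥(coreC B)) := by
    rw [hj]
    exact (Nat.coprime_two_left.2 (odd_coreC B)).pow_left j
  obtain ⟨n, hn, hnx⟩ := Coprime.exists_fixed_mul (A := B') (N := coreC B)
    (hB'C.trans (centralizer_le_normalizer_coreC B)) hcop
    (Or.inr (OddOrder.FeitThompson.isSolvable_of_odd_card (odd_coreC B))) (k := x₀) fun a ha => by
      refine (proj_eq_one_iff (mul_mem (mul_mem (mul_mem (hB'C ha) hx₀) (inv_mem (hB'C ha)))
        (inv_mem hx₀))).1 ?_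
      show proj B (⟨a, hB'C ha⟩ * ⟨x₀, hx₀⟩ * ⟨a, hB'C ha⟩⁻¹ * ⟨x₀, hx₀⟩⁻¹) = 1
      rw [map_mul, map_mul, map_mul, map_inv, map_inv, hy a ha, mul_inv_cancel_right, mul_inv_cancel]
  refine ⟨⟨n, Walter.coreC_le B hn⟩ * ⟨x₀, hx₀⟩, hnx, ?_⟩
  rw [map_mul, (proj_eq_one_iff (Walter.coreC_le B hn)).2 hn, one_mul]

/-- A component centralised by the image of `B' ≤ A` is covered by `C(B')`. -/
theorem component_le_image (hA : Cfsg.IsElementaryAbelian 2 A) (hB : B ≤ A)
    {K : Subgroup (CBar B)} {B' : Subgroup G} (hB' : B' ≤ A)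
    (hc : B' ≤ liftBar B (centralizer (K : Set (CBar B)))) :
    K ≤ imageBar B (centralizer (B' : Set G)) := by
  intro y hy
  obtain ⟨x, hx, rfl⟩ := exists_lift hA hB hB' (y := y) fun a ha => by
    obtain ⟨_, hak⟩ := mem_liftBar.1 (hc ha)
    exact (mem_centralizer_iff.1 hak y hy).symm
  exact mem_map_of_mem _ (mem_subgroupOf.2 hx)

theorem le_liftBar_of_bar_le (hA : Cfsg.IsElementaryAbelian 2 A) (hB : B ≤ A)
    {K : Subgroup (CBar B)} (h : bar B A ≤ centralizer (K : Set (CBar B))) :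
    A ≤ liftBar B (centralizer (K : Set (CBar B))) := fun _ ha =>
  mem_liftBar.2 ⟨_, h (proj_mem_bar hA hB ha)⟩

theorem not_le_liftBar
    {K : Subgroup (CBar B)} (h : ¬ bar B A ≤ centralizer (K : Set (CBar B))) :
    ¬ A ≤ liftBar B (centralizer (K : Set (CBar B))) := fun hle => h <| by
  rintro _ ⟨x, hx, rfl⟩
  obtain ⟨_, hk⟩ := mem_liftBar.1 (hle (mem_subgroupOf.1 hx))
  exact hk

/-! ## Subgroups of odd order normalised by `C(A)` -/

variable {D : Subgroup G}

theorem le_normalizer_of_centralizer (hA : Cfsg.IsElementaryAbelian 2 A)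
    (hAD : centralizer (A : Set G) ≤ normalizer (D : Set G)) : A ≤ normalizer (D : Set G) :=
  (le_centralizer hA le_rfl).trans hAD

theorem bar_le_normalizer (hA : Cfsg.IsElementaryAbelian 2 A)
    (hAD : centralizer (A : Set G) ≤ normalizer (D : Set G)) :
    bar B A ≤ normalizer (imageBar B D : Set (CBar B)) :=
  imageBar_le_normalizer (inf_le_left.trans (le_normalizer_of_centralizer hA hAD))

theorem eq_one_of_mem_pCore (hodd : Odd (Nat.card ↥D)) {e : CBar B}
    (h1 : e ∈ imageBar B D) (h2 : e ∈ Cfsg.pCore 2 (CBar B)) : e = 1 := by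
  haveI : Fact (Nat.Prime 2) := ⟨Nat.prime_two⟩
  obtain ⟨k, hk⟩ := IsPGroup.iff_orderOf.1 (Cores.pCore_isPGroup 2) ⟨_, h2⟩
  rw [Subgroup.orderOf_mk] at hk
  refine orderOf_eq_one_iff.1 (Nat.eq_one_of_dvd_coprimes ?_ (by rw [hk])
    ((Subgroup.orderOf_dvd_natCard _ h1).trans card_imageBar_dvd))
  exact (Nat.coprime_two_left.2 hodd).pow_left k

theorem odd_orderOf_of_mem (hodd : Odd (Nat.card ↥D)) {e : CBar B} (he : e ∈ imageBar B D) :
    Odd (orderOf e) :=
  hodd.of_dvd_nat ((Subgroup.orderOf_dvd_natCard _ he).trans card_imageBar_dvd)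

theorem commute_of_commutator_mem_pCore (hodd : Odd (Nat.card ↥D)) {δ y : CBar B}
    (hδ : δ ∈ imageBar B D) (hy : y ∈ normalizer (imageBar B D : Set (CBar B)))
    (hyQ : y ∈ Cfsg.pCore 2 (CBar B)) : y * δ = δ * y := by
  haveI : Fact (Nat.Prime 2) := ⟨Nat.prime_two⟩
  haveI : (Cfsg.pCore 2 (CBar B)).Normal := by
    haveI := Cores.pCore_characteristic (G := CBar B) 2
    infer_instance
  refine mul_inv_eq_iff_eq_mul.1 (mul_inv_eq_one.1 (eq_one_of_mem_pCore hodd
    (e := y * δ * y⁻¹ * δ⁻¹) ?_ ?_))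
  · exact mul_mem (conj_mem_of_le_normalizer hy hδ) (inv_mem hδ)
  · rw [mul_assoc, mul_assoc, ← mul_assoc δ]
    exact mul_mem hyQ (Subgroup.Normal.conj_mem inferInstance _ (inv_mem hyQ) _)

/-- A subgroup of odd order normalised by `C(A)` centralises `O₂(CBar B)`. -/
theorem proj_mem_centralizer_pCore (hA : Cfsg.IsElementaryAbelian 2 A) (hB : B ≤ A)
    (hg : Good B A) (hodd : Odd (Nat.card ↥D))
    (hAD : centralizer (A : Set G) ≤ normalizer (D : Set G)) {d : G}
    (hdC : d ∈ centralizer (B : Set G)) (hd : d ∈ D) :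
    proj B ⟨d, hdC⟩ ∈ centralizer (Cfsg.pCore 2 (CBar B) : Set (CBar B)) := by
  haveI : Fact (Nat.Prime 2) := ⟨Nat.prime_two⟩
  set Ab := bar B A with hAb
  set Db := imageBar B D with hDb
  set Q := Cfsg.pCore 2 (CBar B) with hQ
  haveI : Q.Normal := by
    haveI := Cores.pCore_characteristic (G := (CBar B)) 2
    infer_instance
  have hAbD : Ab ≤ normalizer (Db : Set (CBar B)) := bar_le_normalizer hA hAD
  obtain ⟨T, hT⟩ := hg.closed
  have hAe : Cfsg.IsElementaryAbelian 2 Ab := bar_elementary hA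
  -- `Q` normalises the image of `A` modulo `A ∩ Q`
  have hstep : ∀ y ∈ Q, ∀ a ∈ Ab, y * a * y⁻¹ * a⁻¹ ∈ Ab ⊓ Q := by
    intro y hy a ha
    have hyT := Cores.pCore_le_sylow T hy
    refine ⟨Ab.mul_mem (hT.2 a ha y ?_) (Ab.inv_mem ha), ?_⟩
    · exact mul_mem (mul_mem hyT (hT.1 ha)) (inv_mem hyT)
    · rw [mul_assoc, mul_assoc, ← mul_assoc a]
      exact mul_mem hy (Subgroup.Normal.conj_mem inferInstance _ (inv_mem hy) _)
  -- commutators with `A` act trivially
  have hcomm : ⁅Db, Ab⁆ ≤ centralizer (Q : Set (CBar B)) := by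
    rw [commutator_le]
    intro δ hδ a ha
    have hδA : ∀ n ∈ Ab ⊓ Q, n * δ = δ * n := fun n hn =>
      commute_of_commutator_mem_pCore hodd hδ (hAbD hn.1) hn.2
    set e := ⁅δ, a⁆ with he
    have heD : e ∈ Db := by
      rw [he, commutatorElement_def, mul_assoc, mul_assoc, ← mul_assoc a]
      exact mul_mem hδ (conj_mem_of_le_normalizer (hAbD ha) (inv_mem hδ))
    have heA : ∀ n ∈ Ab ⊓ Q, n * e = e * n := fun n hn =>
      commute_of_commutator_mem_pCore hodd heD (hAbD hn.1) hn.2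
    refine mem_centralizer_iff.2 fun y hy => ?_
    -- `e` moves `y` inside `y (A ∩ Q)`
    obtain ⟨n, hn, hyn⟩ : ∃ n ∈ Ab ⊓ Q, e * y * e⁻¹ = y * n := by
      set y₁ := δ⁻¹ * (a⁻¹ * y * a) * δ with hy₁
      have hy₁Q : δ⁻¹ * y * δ ∈ Q := by
        simpa using Subgroup.Normal.conj_mem (inferInstance : Q.Normal) y hy δ⁻¹
      obtain ⟨n₁, hn₁, h1⟩ : ∃ n ∈ Ab ⊓ Q, a⁻¹ * y * a = y * n :=
        ⟨y⁻¹ * (a⁻¹ * y * a), by
          have := hstep y⁻¹ (inv_mem hy) a⁻¹ (inv_mem ha)
          rwa [inv_inv, inv_inv, show y⁻¹ * a⁻¹ * y * a = y⁻¹ * (a⁻¹ * y * a) by group] at this,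
          by group⟩
      obtain ⟨n₂, hn₂, h2⟩ : ∃ n ∈ Ab ⊓ Q, a * (δ⁻¹ * y * δ) * a⁻¹ = δ⁻¹ * y * δ * n :=
        ⟨(δ⁻¹ * y * δ)⁻¹ * (a * (δ⁻¹ * y * δ) * a⁻¹), by
          have := hstep _ (inv_mem hy₁Q) a ha
          rwa [inv_inv, show (δ⁻¹ * y * δ)⁻¹ * a * (δ⁻¹ * y * δ) * a⁻¹ =
            (δ⁻¹ * y * δ)⁻¹ * (a * (δ⁻¹ * y * δ) * a⁻¹) by group] at this,
          by group⟩
      refine ⟨n₂ * n₁, mul_mem hn₂ hn₁, ?_⟩
      have h3 : δ⁻¹ * (y * n₁) * δ = δ⁻¹ * y * δ * n₁ := by
        rw [mul_assoc, mul_assoc, hδA n₁ hn₁]; group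
      have h4 : a * n₁ * a⁻¹ = n₁ := by
        rw [PGroups.elemAb_comm hAe ha hn₁.1, mul_inv_cancel_right]
      calc e * y * e⁻¹ = δ * a * (δ⁻¹ * (a⁻¹ * y * a) * δ) * a⁻¹ * δ⁻¹ := by
            rw [he, commutatorElement_def]; group
        _ = δ * a * (δ⁻¹ * y * δ * n₁) * a⁻¹ * δ⁻¹ := by rw [h1, h3]
        _ = δ * (a * (δ⁻¹ * y * δ) * a⁻¹) * (a * n₁ * a⁻¹) * δ⁻¹ := by group
        _ = y * (δ * (n₂ * n₁) * δ⁻¹) := by rw [h2, h4]; group
        _ = y * (n₂ * n₁) := by rw [← hδA _ (mul_mem hn₂ hn₁), mul_inv_cancel_right]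
    have hpow : ∀ k : ℕ, e ^ k * y * (e ^ k)⁻¹ = y * n ^ k := by
      intro k
      induction k with
      | zero => simp
      | succ k ih =>
        calc e ^ (k + 1) * y * (e ^ (k + 1))⁻¹ = e * (e ^ k * y * (e ^ k)⁻¹) * e⁻¹ := by
              rw [pow_succ']; group
          _ = e * y * e⁻¹ * (e * n ^ k * e⁻¹) := by rw [ih]; group
          _ = y * n * n ^ k := by
              rw [hyn, ← (show Commute n e from heA n hn).pow_left k |>.eq, mul_inv_cancel_right]
          _ = _ := by rw [mul_assoc, ← pow_succ']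
    have hk := hpow (orderOf e)
    rw [pow_orderOf_eq_one, one_mul, inv_one, mul_one, left_eq_mul] at hk
    have hn1 : n = 1 := orderOf_eq_one_iff.1 (Nat.eq_one_of_dvd_coprimes
      (Nat.coprime_two_left.2 (odd_orderOf_of_mem hodd heD))
      (orderOf_dvd_of_pow_eq_one (hAe.2 n hn.1)) (orderOf_dvd_of_pow_eq_one hk))
    rw [hn1, mul_one] at hyn
    exact (mul_inv_eq_iff_eq_mul.1 hyn).symm
  -- fixed points by the `A × B` lemma
  have hAp : IsPGroup 2 ↥Ab := PGroups.elemAb_isPGroup hAe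
  have hcop : (Nat.card ↥Ab).Coprime (Nat.card ↥Db) := by
    obtain ⟨j, hj⟩ := IsPGroup.iff_card.1 hAp
    rw [hj]
    exact (Nat.coprime_two_left.2 (hodd.of_dvd_nat card_imageBar_dvd)).pow_left j
  have hfix : Db ⊓ centralizer (Ab : Set (CBar B)) ≤ centralizer (Q : Set (CBar B)) := by
    intro c hc
    refine Balance.mem_centralizer_pGroup (p := 2) (Cores.pCore_isPGroup 2) hAp
      ((normalizer_eq_top (H := Q)).ge.trans' le_top) (by rw [normalizer_eq_top]; exact mem_top c)
      (Nat.coprime_two_right.2 (odd_orderOf_of_mem hodd hc.1)) hc.2 fun y hy => ?_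
    refine mem_centralizer_singleton_iff.2 ?_
    refine commute_of_commutator_mem_pCore hodd hc.1 ?_ hy.1
    obtain ⟨x, hx, rfl⟩ := exists_lift hA hB (le_refl A) (y := y) fun a ha =>
      mem_centralizer_iff.1 hy.2 _ (proj_mem_bar hA hB ha)
    exact imageBar_le_normalizer (M := centralizer (A : Set G)) (inf_le_left.trans hAD)
      (mem_map_of_mem _ (mem_subgroupOf.2 hx))
  have htop : Db ≤ centralizer (Q : Set (CBar B)) := by
    rw [← Coprime.commutator_sup_centralizer hAbD hcop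
      (Or.inl (Group.isSolvable_of_comm fun a b => hAe.1.is_comm.comm a b))]
    exact sup_le hcomm hfix
  exact htop (mem_imageBar hdC hd)

/-- A component centralised by `A` normalises such subgroups, so centralises them. -/
theorem proj_mem_centralizer_of_trivial (hA : Cfsg.IsElementaryAbelian 2 A) (hB : B ≤ A)
    (hodd : Odd (Nat.card ↥D)) (hAD : centralizer (A : Set G) ≤ normalizer (D : Set G))
    {K : Subgroup (CBar B)} (hK : Cfsg.IsComponent K)
    (hc : bar B A ≤ centralizer (K : Set (CBar B))) {d : G}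
    (hdC : d ∈ centralizer (B : Set G)) (hd : d ∈ D) :
    proj B ⟨d, hdC⟩ ∈ centralizer (K : Set (CBar B)) :=
  proj_mem_centralizer_component hK hodd
    ((component_le_image hA hB le_rfl (le_liftBar_of_bar_le hA hB hc)).trans
      (imageBar_le_normalizer (inf_le_left.trans hAD))) hdC hd

/-- A subgroup of odd order normalised by `C(A)` normalises every component. -/
theorem proj_mem_normalizer_component (hA : Cfsg.IsElementaryAbelian 2 A) (hB : B ≤ A)
    (hg : Good B A) (hL : PropFacts.{u}) {K : Subgroup (CBar B)} (hK : Cfsg.IsComponent K)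
    (hodd : Odd (Nat.card ↥D)) (hAD : centralizer (A : Set G) ≤ normalizer (D : Set G)) {d : G}
    (hdC : d ∈ centralizer (B : Set G)) (hd : d ∈ D) :
    proj B ⟨d, hdC⟩ ∈ normalizer (K : Set (CBar B)) := by
  by_cases hc : bar B A ≤ centralizer (K : Set (CBar B))
  · exact centralizer_le_normalizer _
      (proj_mem_centralizer_of_trivial hA hB hodd hAD hK hc hdC hd)
  by_contra hnot
  set δ := proj B ⟨d, hdC⟩ with hδ
  have hne : K ≠ K.map (MulAut.conj δ).toMonoidHom := fun he =>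
    hnot (mem_normalizer_iff_map_conj_eq.2 he.symm)
  have hcomm := Components.Component.le_centralizer_of_ne hK (Components.Component.conj hK δ) hne
  have h4 := hg.four_le hL hK hc
  obtain ⟨⟨v, hvA, hvK⟩, hv1⟩ := Subgroup.ne_bot_iff_exists_ne_one.1
    (show (bar B A ⊓ K : Subgroup (CBar B)) ≠ ⊥ from fun e => by
      rw [e, card_bot] at h4; omega)
  have hv2 : v * v = 1 := sq_mem (bar_elementary hA) hvA
  have hcv : δ * v * δ⁻¹ * v = v * (δ * v * δ⁻¹) :=
    mem_centralizer_iff.1 (hcomm hvK) _ (mem_map_of_mem _ hvK)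
  have hmem : δ * v * δ⁻¹ * v⁻¹ ∈ imageBar B D := by
    rw [mul_assoc, mul_assoc, ← mul_assoc v]
    exact mul_mem (mem_imageBar hdC hd)
      (conj_mem_of_le_normalizer (bar_le_normalizer hA hAD hvA) (inv_mem (mem_imageBar hdC hd)))
  have hvi : v⁻¹ = v := inv_eq_of_mul_eq_one_right hv2
  have hsq : δ * v * δ⁻¹ * v⁻¹ * (δ * v * δ⁻¹ * v⁻¹) = 1 := by
    rw [hvi, mul_assoc (δ * v * δ⁻¹) v, ← mul_assoc v (δ * v * δ⁻¹) v, ← hcv,
      mul_assoc (δ * v * δ⁻¹) v v, hv2, mul_one]
    calc δ * v * δ⁻¹ * (δ * v * δ⁻¹) = δ * (v * v) * δ⁻¹ := by group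
      _ = 1 := by rw [hv2, mul_one, mul_inv_cancel]
  have he := mul_inv_eq_one.1 (eq_one_of_sq_of_mem_imageBar hodd hmem hsq)
  refine hv1 (Subtype.ext (hg.eq_one_of_centralizes hL hK hc hvK ?_))
  refine mem_centralizer_iff.2 fun k hk => ?_
  have hvK' : v ∈ K.map (MulAut.conj δ).toMonoidHom := ⟨v, hvK, he⟩
  exact (mem_centralizer_iff.1 (hcomm hk) v hvK').symm

/-- An element lies in the core when it centralises every component not centralised by `A`. -/
theorem mem_coreC_of_components (hA : Cfsg.IsElementaryAbelian 2 A) (hB : B ≤ A) (hg : Good B A)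
    (hodd : Odd (Nat.card ↥D)) (hAD : centralizer (A : Set G) ≤ normalizer (D : Set G))
    {d : G} (hdC : d ∈ centralizer (B : Set G)) (hd : d ∈ D)
    (hK : ∀ K : Subgroup (CBar B), Cfsg.IsComponent K →
      ¬ bar B A ≤ centralizer (K : Set (CBar B)) →
        proj B ⟨d, hdC⟩ ∈ centralizer (K : Set (CBar B))) : d ∈ coreC B := by
  haveI : Fact (Nat.Prime 2) := ⟨Nat.prime_two⟩
  refine (proj_eq_one_iff hdC).1 (Balance.eq_one_of_centralizes (barCore B) ?_
    (proj_mem_centralizer_pCore hA hB hg hodd hAD hdC hd) fun K hKc => ?_)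
  · exact (Nat.coprime_two_right.2 hodd).coprime_dvd_left
      ((Subgroup.orderOf_dvd_natCard _ (mem_imageBar hdC hd)).trans card_imageBar_dvd)
  · by_cases hc : bar B A ≤ centralizer (K : Set (CBar B))
    · exact proj_mem_centralizer_of_trivial hA hB hodd hAD hKc hc hdC hd
    · exact hK K hKc hc

/-- `[d, x]` lies in the core, when on every component not centralised by `A` either `D` acts
trivially or `x` acts as an element of `A` commuting with `d`. -/
theorem commutator_mem_coreC (hA : Cfsg.IsElementaryAbelian 2 A) (hB : B ≤ A) (hg : Good B A)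
    (hL : PropFacts.{u}) (hDC : D ≤ centralizer (B : Set G)) (hodd : Odd (Nat.card ↥D))
    (hAD : centralizer (A : Set G) ≤ normalizer (D : Set G)) {d : G} (hd : d ∈ D) {x : G}
    (hx : x ∈ A)
    (hK : ∀ K : Subgroup (CBar B), Cfsg.IsComponent K →
      ¬ bar B A ≤ centralizer (K : Set (CBar B)) →
      K ≤ normalizer (imageBar B D : Set (CBar B)) ∨
      ∃ h ∈ A, h * d = d * h ∧ x * h ∈ liftBar B (centralizer (K : Set (CBar B)))) :
    d * x * d⁻¹ * x⁻¹ ∈ coreC B := by
  have he : d * x * d⁻¹ * x⁻¹ ∈ D := by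
    rw [mul_assoc, mul_assoc, ← mul_assoc x]
    exact mul_mem hd
      (conj_mem_of_le_normalizer (le_normalizer_of_centralizer hA hAD hx) (inv_mem hd))
  refine mem_coreC_of_components hA hB hg hodd hAD (hDC he) he fun K hKc hnc => ?_
  rcases hK K hKc hnc with h | ⟨h, hh, hhd, hxh⟩
  · exact proj_mem_centralizer_component hKc hodd h (hDC he) he
  obtain ⟨hu, hu'⟩ := mem_liftBar.1 hxh
  have hn := proj_mem_normalizer_component hA hB hg hL hKc hodd hAD (hDC hd) hd
  have heq : (⟨d * x * d⁻¹ * x⁻¹, hDC he⟩ : ↥(centralizer (B : Set G))) =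
      ⟨d, hDC hd⟩ * ⟨x * h, hu⟩ * ⟨d, hDC hd⟩⁻¹ * ⟨x * h, hu⟩⁻¹ := Subtype.ext (by
    show d * x * d⁻¹ * x⁻¹ = d * (x * h) * d⁻¹ * (x * h)⁻¹
    have h1 : d⁻¹ * h⁻¹ = h⁻¹ * d⁻¹ := by rw [← mul_inv_rev, hhd, mul_inv_rev]
    calc d * x * d⁻¹ * x⁻¹ = d * x * h * (h⁻¹ * d⁻¹) * x⁻¹ := by group
      _ = d * x * h * (d⁻¹ * h⁻¹) * x⁻¹ := by rw [h1]
      _ = _ := by group)
  rw [heq, map_mul, map_mul, map_mul, map_inv, map_inv]
  exact mul_mem ((Subgroup.mem_normalizer_iff.1
    (Balance.normalizer_le_normalizer_centralizer K hn) _).1 hu') (inv_mem hu')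

/-- `C(B)` is generated by its core, covers of the components and `N(A)`. -/
theorem centralizer_le_of_cover (hA : Cfsg.IsElementaryAbelian 2 A) (hB : B ≤ A) (hg : Good B A)
    {M : Subgroup G} (hcore : coreC B ≤ M) (hN : normalizer (A : Set G) ≤ M)
    (hK : ∀ K : Subgroup (CBar B), Cfsg.IsComponent K →
      ¬ bar B A ≤ centralizer (K : Set (CBar B)) → K ≤ imageBar B M) :
    centralizer (B : Set G) ≤ M := by
  haveI : Fact (Nat.Prime 2) := ⟨Nat.prime_two⟩
  set C := centralizer (B : Set G) with hC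
  have hAC : A ≤ C := le_centralizer hA hB
  have hlayer : Cfsg.layer (CBar B) ≤ imageBar B M := by
    refine sSup_le fun K hKc => ?_
    by_cases hc : bar B A ≤ centralizer (K : Set (CBar B))
    · exact (component_le_image hA hB le_rfl (le_liftBar_of_bar_le hA hB hc)).trans
        (imageBar_mono ((centralizer_le_normalizer_self A).trans hN))
    · exact hK K hKc hc
  have hnorm : normalizer (bar B A : Set (CBar B)) ≤ imageBar B M := by
    have h := Balance.map_normalizer_eq (proj_surjective B) (proj_ker_odd B)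
      (P := A.subgroupOf C)
      ((PGroups.elemAb_isPGroup hA).comap_of_injective C.subtype C.subtype_injective)
    intro y hy
    have hy' : y ∈ (normalizer ((A.subgroupOf C) : Set ↥C)).map (proj B) := by rw [h]; exact hy
    obtain ⟨x, hx, rfl⟩ := hy'
    refine mem_map_of_mem _ (mem_subgroupOf.2 (hN ?_))
    refine mem_normalizer_of_map_le ?_
    rintro _ ⟨a, ha, rfl⟩
    exact (Subgroup.mem_normalizer_iff.1 hx ⟨a, hAC ha⟩).1 (mem_subgroupOf.2 ha)
  have htop : imageBar B M = ⊤ := by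
    rw [eq_top_iff]
    intro g _
    obtain ⟨k, hk, hkn⟩ := hg.decomp.frattini g
    simpa using mul_mem (inv_mem (hlayer hk)) (hnorm hkn)
  intro g hgC
  obtain ⟨x, hx, hxg⟩ : proj B ⟨g, hgC⟩ ∈ imageBar B M := htop ▸ mem_top _
  have h1 : (x : G)⁻¹ * g ∈ coreC B :=
    (proj_eq_one_iff (mul_mem (inv_mem x.2) hgC)).1 (by
      show proj B (x⁻¹ * ⟨g, hgC⟩) = 1
      rw [map_mul, map_inv, hxg, inv_mul_cancel])
  simpa using mul_mem (mem_subgroupOf.1 hx) (hcore h1)

end Cfsg.Agent.Lib.Goldschmidt53.Mono
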