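import Cfsg.Agent.Lib.Balance.KBalanced

/-!
# The signalizer functor of balance inside an elementary abelian group

`isSignalizerFunctor_delta_within`: the proof of `Balance.isSignalizerFunctor_delta` (helper33) with
balance assumed for the subgroups of `A` only.
Owner: helper67 (Goldschmidt section M).
-/

set_option autoImplicit false
set_option linter.style.haveILetI false
open Cfsg
open scoped commutatorElement

namespace Cfsg.Agent.Lib.Goldschmidt53.Mono

open Cfsg.Agent.Lib Cfsg.Agent.Lib.Balance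

variable {G : Type*} [Group G] {p : ℕ}

/-- The signalizer functor attached to balance within `A`. -/
theorem isSignalizerFunctor_delta_within [Finite G] [hp : Fact p.Prime] {k : ℕ}
    {A : Subgroup G} (hA : IsElementaryAbelian p A)
    (hbal : ∀ D : Subgroup G, D ≤ A → p ^ k ≤ Nat.card ↥D → ∀ a ∈ A, a ≠ 1 →
      signalizerDelta p D ⊓ Subgroup.centralizer {a} ≤ centralizerPPrimeCore p a)
    (hAk : p ^ (k + 2) ≤ Nat.card ↥A)
    (hsolv : ∀ a ∈ A, a ≠ 1 → Group.IsSolvable ↥(centralizerPPrimeCore p a)) :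
    IsSignalizerFunctor p A (fun a => ⨆ D : {D : Subgroup G // D ≤ A ∧ Nat.card ↥D = p ^ k},
      signalizerDelta p (D : Subgroup G) ⊓ Subgroup.centralizer {a}) := by
  set θ := fun a => ⨆ D : {D : Subgroup G // D ≤ A ∧ Nat.card ↥D = p ^ k},
      signalizerDelta p (D : Subgroup G) ⊓ Subgroup.centralizer {a} with hθ
  have hcomm : ∀ a ∈ A, ∀ b ∈ A, a * b = b * a := fun a ha b hb => PGroups.elemAb_comm hA ha hb
  have hCA : ∀ a ∈ A, A ≤ Subgroup.centralizer ({a} : Set G) := fun a ha b hb =>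
    Subgroup.mem_centralizer_singleton_iff.2 (hcomm b hb a ha)
  have hΔA : ∀ D : Subgroup G, D ≤ A → A ≤ Subgroup.normalizer (signalizerDelta p D : Set G) := by
    intro D hD g hg
    refine Subgroup.mem_normalizer_iff.2 fun x => ?_
    simp only [mem_signalizerDelta]
    exact forall₃_congr fun d hd _ => Subgroup.mem_normalizer_iff.1
      (centralizer_le_normalizer_centralizerPPrimeCore d (hCA d (hD hd) hg)) x
  -- balance of a single value
  have hkey : ∀ D : Subgroup G, D ≤ A → p ^ k ≤ Nat.card ↥D → ∀ a ∈ A, a ≠ 1 →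
      signalizerDelta p D ⊓ Subgroup.centralizer {a} ≤ θ a ∧
      signalizerDelta p D ⊓ Subgroup.centralizer {a} ≤ centralizerPPrimeCore p a := by
    intro D hD hcard a ha ha1
    obtain ⟨D', hD'D, hD'⟩ : ∃ D' : Subgroup G, D' ≤ D ∧ Nat.card ↥D' = p ^ k := by
      obtain ⟨H, hH⟩ := Sylow.exists_subgroup_card_pow_prime_of_le_card hp.out
        ((PGroups.elemAb_isPGroup hA).to_le hD) hcard
      exact ⟨H.map D.subtype, Subgroup.map_subtype_le _, by
        rw [Subgroup.card_map_of_injective D.subtype_injective, hH]⟩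
    exact ⟨le_trans (inf_le_inf_right _ (signalizerDelta_antitone hD'D))
      (le_iSup (fun D : {D : Subgroup G // D ≤ A ∧ Nat.card ↥D = p ^ k} =>
        signalizerDelta p (D : Subgroup G) ⊓ Subgroup.centralizer {a}) ⟨D', hD'D.trans hD, hD'⟩),
      hbal D hD hcard a ha ha1⟩
  have hθM : ∀ a ∈ A, a ≠ 1 → θ a ≤ centralizerPPrimeCore p a := fun a ha ha1 =>
    iSup_le fun D => (hkey _ D.2.1 D.2.2.ge a ha ha1).2
  have hθp : ∀ a ∈ A, a ≠ 1 → ¬ p ∣ Nat.card ↥(θ a) := fun a ha ha1 h =>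
    not_dvd_card_centralizerPPrimeCore a (h.trans (Subgroup.card_dvd_of_le (hθM a ha ha1)))
  have hθA : ∀ a ∈ A, A ≤ Subgroup.normalizer (θ a : Set G) := by
    intro a ha g hg
    rw [Subgroup.mem_normalizer_iff_map_conj_eq]
    refine Subgroup.eq_of_le_of_card_ge ?_ (Subgroup.card_map_of_injective (MulAut.conj g).injective).ge
    rw [hθ, Subgroup.map_iSup]
    refine iSup_mono fun D => ?_
    rw [Subgroup.map_inf _ _ _ (MulAut.conj g).injective,
      Subgroup.mem_normalizer_iff_map_conj_eq.1 (hΔA _ D.2.1 hg),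
      Subgroup.mem_normalizer_iff_map_conj_eq.1 (Subgroup.le_normalizer (hCA a ha hg))]
  refine ⟨fun a ha ha1 => iSup_le fun D => inf_le_right, hθp,
    fun a ha _ g hg x hx => (Subgroup.mem_normalizer_iff.1 (hθA a ha hg) x).1 hx, ?_⟩
  intro a ha ha1 b hb hb1
  -- hyperplanes
  have hcm : ∀ E : Subgroup G, E ≤ A → Nat.card ↥E * E.relIndex A = Nat.card ↥A := fun E hE => by
    have h := (E.subgroupOf A).card_mul_index
    rwa [Nat.card_congr (Subgroup.subgroupOfEquivOfLe hE).toEquiv] at h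
  have hcardE : ∀ E : Subgroup G, E ≤ A → E.relIndex A ≤ p → p ^ k ≤ Nat.card ↥E := by
    intro E hE hEi
    have h1 : Nat.card ↥E * E.relIndex A = Nat.card ↥A := hcm E hE
    have h2 := Nat.mul_le_mul_left (Nat.card ↥E) hEi
    rw [h1] at h2
    refine Nat.le_of_mul_le_mul_right ?_ hp.out.pos
    calc p ^ k * p ≤ p ^ (k + 2) := by
          rw [← pow_succ]; exact Nat.pow_le_pow_right hp.out.pos (by omega)
      _ ≤ _ := hAk
      _ ≤ _ := h2
  have hcardInf : ∀ E F : Subgroup G, E ≤ A → E.relIndex A ≤ p → F.relIndex A ≤ p →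
      p ^ k ≤ Nat.card ↥(E ⊓ F : Subgroup G) := by
    intro E F hE hEi hFi
    have h1 : Nat.card ↥(E ⊓ F : Subgroup G) * (E ⊓ F).relIndex A = Nat.card ↥A :=
      hcm _ (inf_le_left.trans hE)
    have h3 : (E ⊓ F).relIndex A ≤ p * p := (Subgroup.relIndex_inf_le).trans (Nat.mul_le_mul hEi hFi)
    refine Nat.le_of_mul_le_mul_right ?_ (Nat.mul_pos hp.out.pos hp.out.pos)
    calc p ^ k * (p * p) = p ^ (k + 2) := by rw [pow_add, pow_two]
      _ ≤ _ := hAk
      _ = _ := h1.symm
      _ ≤ _ := Nat.mul_le_mul_left _ h3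
  set P := fun E : Subgroup G =>
    signalizerDelta p E ⊓ Subgroup.centralizer (E : Set G) ⊓ Subgroup.centralizer {a} with hP
  have hPA : ∀ E, E ≤ A → E.relIndex A ≤ p → A ≤ Subgroup.normalizer (P E : Set G) := by
    intro E hE _ g hg
    have hgE : g ∈ Subgroup.centralizer (E : Set G) :=
      Subgroup.mem_centralizer_iff.2 fun e he => hcomm e (hE he) g hg
    rw [Subgroup.mem_normalizer_iff_map_conj_eq, hP,
      Subgroup.map_inf _ _ _ (MulAut.conj g).injective, Subgroup.map_inf _ _ _ (MulAut.conj g).injective,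
      Subgroup.mem_normalizer_iff_map_conj_eq.1 (hΔA _ hE hg),
      Subgroup.mem_normalizer_iff_map_conj_eq.1 (Subgroup.le_normalizer hgE),
      Subgroup.mem_normalizer_iff_map_conj_eq.1 (Subgroup.le_normalizer (hCA a ha hg))]
  have hpair : ∀ E₁, E₁ ≤ A → E₁.relIndex A ≤ p → ∀ E₂, E₂ ≤ A → E₂.relIndex A ≤ p →
      ∀ E, E ≤ A → E.relIndex A ≤ p →
        (P E₁ ⊔ P E₂) ⊓ Subgroup.centralizer (E : Set G) ≤ P E := by
    intro E₁ hE₁ hi₁ E₂ hE₂ hi₂ E hE _ x hx
    obtain ⟨hx12, hxE⟩ := hx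
    have h1 : P E₁ ⊔ P E₂ ≤ signalizerDelta p (E₁ ⊓ E₂) ⊓ Subgroup.centralizer {a} :=
      sup_le (le_inf ((inf_le_left.trans inf_le_left).trans (signalizerDelta_antitone inf_le_left))
          inf_le_right)
        (le_inf ((inf_le_left.trans inf_le_left).trans (signalizerDelta_antitone inf_le_right))
          inf_le_right)
    refine ⟨⟨mem_signalizerDelta.2 fun e he he1 =>
      (hkey _ (inf_le_left.trans hE₁) (hcardInf _ _ hE₁ hi₁ hi₂) e (hE he) he1).2
        ⟨(h1 hx12).1, ?_⟩, hxE⟩, (h1 hx12).2⟩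
    exact Subgroup.mem_centralizer_singleton_iff.2 (Subgroup.mem_centralizer_iff.1 hxE e he).symm
  have hθP : θ a ≤ ⨆ E : {E : Subgroup G // E ≤ A ∧ E.relIndex A ≤ p}, θ a ⊓ P E := by
    refine iSup_le fun D => ?_
    set K := signalizerDelta p (D : Subgroup G) ⊓ Subgroup.centralizer {a} with hK
    have hKθ : K ≤ θ a := (hkey _ D.2.1 D.2.2.ge a ha ha1).1
    have hAK : A ≤ Subgroup.normalizer (K : Set G) := fun g hg => by
      rw [Subgroup.mem_normalizer_iff_map_conj_eq, hK,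
        Subgroup.map_inf _ _ _ (MulAut.conj g).injective,
        Subgroup.mem_normalizer_iff_map_conj_eq.1 (hΔA _ D.2.1 hg),
        Subgroup.mem_normalizer_iff_map_conj_eq.1 (Subgroup.le_normalizer (hCA a ha hg))]
    refine le_trans (PLocal.le_iSup_fixOn_hyperplane hA hAK
      (hp.out.coprime_iff_not_dvd.2 fun h =>
        hθp a ha ha1 (h.trans (Subgroup.card_dvd_of_le hKθ))).symm) (iSup_mono fun E x hx => ?_)
    rw [PLocal.mem_fixOn] at hx
    refine ⟨hKθ hx.1, ⟨mem_signalizerDelta.2 fun e he he1 =>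
      (hkey _ D.2.1 D.2.2.ge e (E.2.1 he) he1).2 ⟨hx.1.1, ?_⟩, Subgroup.mem_centralizer_iff.2 hx.2⟩,
      hx.1.2⟩
    exact Subgroup.mem_centralizer_singleton_iff.2 (hx.2 e he).symm
  haveI := hsolv a ha ha1
  have hθs : Group.IsSolvable ↥(θ a) :=
    Group.isSolvable_of_isSolvable_injective (Subgroup.inclusion_injective (hθM a ha ha1))
  have hθco : (Nat.card ↥(θ a)).Coprime p := (hp.out.coprime_iff_not_dvd.2 (hθp a ha ha1)).symm
  set W := θ a ⊓ Subgroup.centralizer {b} with hW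
  have hAW : A ≤ Subgroup.normalizer (W : Set G) := fun g hg => by
    rw [Subgroup.mem_normalizer_iff_map_conj_eq, hW,
      Subgroup.map_inf _ _ _ (MulAut.conj g).injective,
      Subgroup.mem_normalizer_iff_map_conj_eq.1 (hθA a ha hg),
      Subgroup.mem_normalizer_iff_map_conj_eq.1 (Subgroup.le_normalizer (hCA b hb hg))]
  refine le_trans (PLocal.le_iSup_fixOn_hyperplane hA hAW
    (hθco.coprime_dvd_left (Subgroup.card_dvd_of_le inf_le_left))) (iSup_le fun E x hx => ?_)
  rw [PLocal.mem_fixOn] at hx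
  have hxP : x ∈ P E := inf_centralizer_le_of_pairs hA P hPA
    (fun E _ _ => inf_le_left.trans inf_le_right) hpair (θ a) hθs hθco (hθA a ha) hθP E.2.1 E.2.2
    ⟨hx.1.1, Subgroup.mem_centralizer_iff.2 hx.2⟩
  exact (hkey _ E.2.1 (hcardE _ E.2.1 E.2.2) b hb hb1).1 ⟨hxP.1.1, hx.1.2⟩

end Cfsg.Agent.Lib.Goldschmidt53.Mono
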