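import Cfsg.Agent.Lib.Goldschmidt53.MonoBalance
import Cfsg.Agent.Lib.Goldschmidt53.MonoFunctor
import Cfsg.Agent.S0217

/-!
# Goldschmidt, the monomial case: data and the signalizer functor

Owner: helper67 (section M).
-/

set_option autoImplicit false
set_option linter.style.haveILetI false
set_option linter.unusedSectionVars false

universe u

namespace Cfsg.Agent.Lib.Goldschmidt53.Mono

open Subgroup
open Cfsg.Agent.Lib.Walter (CBar liftBar coreC core proj imageBar mem_liftBar mem_imageBar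
  proj_surjective conj_mem_of_le_normalizer centralizer_zpowers coreC_zpowers odd_core core_le
  centralizer_le_normalizer_core inf_centralizer_le_normalizer imageBar_le_normalizer imageBar_mono)

variable {G : Type u} [Group G] [Finite G] {S : Sylow 2 G} {A : Subgroup G}

/-- A group with `A` normalising it and coprime order lies in `M` when its fixed points under the
hyperplanes of `A` do. -/
theorem le_of_hyperplanes (hA : Cfsg.IsElementaryAbelian 2 A) {D M : Subgroup G}
    (hD : Odd (Nat.card ↥D)) (hAD : A ≤ normalizer (D : Set G))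
    (h : ∀ H : Subgroup G, H ≤ A → H.relIndex A ≤ 2 → D ⊓ centralizer (H : Set G) ≤ M) : D ≤ M := by
  haveI : Fact (Nat.Prime 2) := ⟨Nat.prime_two⟩
  refine (PLocal.le_iSup_fixOn_hyperplane hA hAD
    (Nat.coprime_two_right.2 hD)).trans (iSup_le fun H => ?_)
  intro x hx
  rw [PLocal.mem_fixOn] at hx
  exact h H H.2.1 H.2.2 ⟨hx.1, mem_centralizer_iff.2 hx.2⟩

/-- The data of the monomial case. -/
structure Data (S : Sylow 2 G) (A : Subgroup G) (ι : Type) (W Q : ι → Subgroup G) : Prop where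
  hyp : Hyp S A
  facts : PropFacts.{u}
  loc : PropLocal.{u}
  nocover : PropNoCover.{u}
  mono : CaseMono A (IsPair A) ι W Q

/-- The subgroup generated by the `Δ(B)`, `B ≤ E` of order eight. -/
def deltaSpan (E : Subgroup G) : Subgroup G :=
  ⨆ B : {B : Subgroup G // B ≤ E ∧ Nat.card ↥B = 8}, Cfsg.signalizerDelta 2 (B : Subgroup G)

namespace Data

variable {ι : Type} [Finite ι] {W Q : ι → Subgroup G}

theorem elem (d : Data S A ι W Q) : Cfsg.IsElementaryAbelian 2 A := d.hyp.elem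

theorem Q_le (d : Data S A ι W Q) (i : ι) : Q i ≤ A := by
  rw [← d.mono.Q_eq i]
  exact iSup_le fun j => d.mono.le j

theorem good (d : Data S A ι W Q) {B : Subgroup G} (hB : B ≤ A) (hB1 : B ≠ ⊥) : Good B A :=
  Mono.good d.hyp d.loc d.nocover hB hB1

/-- A component not centralised by `A` comes with a block. -/
theorem exists_block (d : Data S A ι W Q) {B : Subgroup G} (hB : B ≤ A) (hB1 : B ≠ ⊥)
    {K : Subgroup (CBar B)} (hK : Cfsg.IsComponent K)
    (hnc : ¬ bar B A ≤ centralizer (K : Set (CBar B))) :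
    ∃ i, A ⊓ liftBar B K ≤ W i ∧ Q i ≤ liftBar B (centralizer (K : Set (CBar B))) := by
  obtain ⟨i, h1, h2⟩ := d.mono.all B _ _ ⟨hB, hB1, K, hK, not_le_liftBar hnc, rfl, rfl⟩
  exact ⟨i, h1, h2.trans inf_le_right⟩

theorem nonempty (d : Data S A ι W Q) : Nonempty ι :=
  Finite.card_pos_iff.1 (lt_of_lt_of_le (by norm_num) d.mono.three)

theorem exists_other (d : Data S A ι W Q) (i j : ι) : ∃ l, l ≠ i ∧ l ≠ j := by
  classical
  haveI : Fintype ι := Fintype.ofFinite ι
  have h := d.mono.three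
  rw [Nat.card_eq_fintype_card] at h
  by_contra hc
  push Not at hc
  have : (Finset.univ : Finset ι) ⊆ {i, j} := fun l _ => by
    by_cases hl : l = i
    · simp [hl]
    · simp [hc l hl]
  have := (Finset.card_le_card this).trans Finset.card_le_two
  rw [Finset.card_univ] at this
  omega

theorem W_ne_bot (d : Data S A ι W Q) (i : ι) : W i ≠ ⊥ := fun e => by
  have := d.mono.four_le i
  rw [e, card_bot] at this
  omega

theorem Q_ne_bot (d : Data S A ι W Q) (i : ι) : Q i ≠ ⊥ := fun e => by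
  obtain ⟨j, hj, -⟩ := d.exists_other i i
  exact d.W_ne_bot j (le_bot_iff.1 ((d.mono.le_Q i j hj.symm).trans e.le))

theorem disjoint_blocks (d : Data S A ι W Q) {i j : ι} (h : i ≠ j) : W i ⊓ W j = ⊥ := by
  rw [eq_bot_iff, ← d.mono.disj i]
  exact inf_le_inf_left _ (d.mono.le_Q i j h)

theorem card_mul_le {X Y Z : Subgroup G} (hX : X ≤ Z) (hY : Y ≤ Z) (hXY : X ⊓ Y = ⊥) :
    Nat.card ↥X * Nat.card ↥Y ≤ Nat.card ↥Z := by
  rw [← Nat.card_prod]
  refine Nat.card_le_card_of_injective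
    (fun p : ↥X × ↥Y => (⟨(p.1 : G) * p.2, mul_mem (hX p.1.2) (hY p.2.2)⟩ : ↥Z)) ?_
  intro p q hpq
  have h1 : (p.1 : G) * p.2 = q.1 * q.2 := congrArg Subtype.val hpq
  have h2 : (q.1 : G)⁻¹ * p.1 = q.2 * (p.2 : G)⁻¹ := by
    calc (q.1 : G)⁻¹ * p.1 = (q.1 : G)⁻¹ * ((p.1 : G) * p.2) * (p.2 : G)⁻¹ := by group
      _ = _ := by rw [h1]; group
  have h3 : (q.1 : G)⁻¹ * p.1 ∈ X ⊓ Y :=
    ⟨X.mul_mem (X.inv_mem q.1.2) p.1.2, h2 ▸ Y.mul_mem q.2.2 (Y.inv_mem p.2.2)⟩
  rw [hXY, mem_bot] at h3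
  rw [h3] at h2
  exact Prod.ext (Subtype.ext (inv_mul_eq_one.1 h3).symm)
    (Subtype.ext (mul_inv_eq_one.1 h2.symm).symm)

theorem sixteen_le (d : Data S A ι W Q) (i : ι) : 16 ≤ Nat.card ↥(Q i) := by
  obtain ⟨j, hj, -⟩ := d.exists_other i i
  obtain ⟨k, hk, hkj⟩ := d.exists_other i j
  exact le_trans (le_trans (by norm_num) (Nat.mul_le_mul (d.mono.four_le j) (d.mono.four_le k)))
    (card_mul_le (d.mono.le_Q i j hj.symm) (d.mono.le_Q i k hk.symm) (d.disjoint_blocks hkj.symm))

theorem sixtyfour_le (d : Data S A ι W Q) : 64 ≤ Nat.card ↥A := by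
  obtain ⟨i⟩ := d.nonempty
  exact le_trans (le_trans (by norm_num) (Nat.mul_le_mul (d.mono.four_le i) (d.sixteen_le i)))
    (card_mul_le (d.mono.le i) (d.Q_le i) (d.mono.disj i))

theorem thirtytwo_le_hyperplane (d : Data S A ι W Q) {H : Subgroup G} (hH : H ≤ A)
    (hi : H.relIndex A ≤ 2) : 32 ≤ Nat.card ↥H := by
  have h := (H.subgroupOf A).card_mul_index
  rw [Nat.card_congr (subgroupOfEquivOfLe hH).toEquiv] at h
  have h2 := Nat.mul_le_mul_left (Nat.card ↥H) hi
  have h64 := d.sixtyfour_le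
  change Nat.card ↥H * H.relIndex A = _ at h
  omega

/-! ## The signalizer functor -/

theorem odd_delta {B : Subgroup G} (h8 : 8 ≤ Nat.card ↥B) :
    Odd (Nat.card ↥(Cfsg.signalizerDelta 2 B)) := by
  obtain ⟨c, hc⟩ := Subgroup.ne_bot_iff_exists_ne_one.1 (show B ≠ ⊥ from fun e => by
    rw [e, card_bot] at h8; omega)
  exact (odd_core (c : G)).of_dvd_nat (card_dvd_of_le
    (Balance.signalizerDelta_le c.2 fun e => hc (Subtype.ext e)))

theorem odd_deltaSpan (d : Data S A ι W Q) : Odd (Nat.card ↥(deltaSpan A)) := by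
  haveI : Fact (Nat.Prime 2) := ⟨Nat.prime_two⟩
  have hA := d.elem
  have hsolv : ∀ a ∈ A, a ≠ 1 → Group.IsSolvable ↥(Cfsg.centralizerPPrimeCore 2 a) :=
    fun a _ _ => OddOrder.FeitThompson.isSolvable_of_odd_card (odd_core a)
  have hf := isSignalizerFunctor_delta_within (p := 2) (k := 3) hA
    (fun D hD h8 a ha ha1 => delta_inf_centralizer_le_core d.hyp d.loc d.nocover d.facts hD h8 ha ha1)
    (le_trans (by norm_num) d.sixtyfour_le) hsolv
  set θ := fun a : G => ⨆ D : {D : Subgroup G // D ≤ A ∧ Nat.card ↥D = 2 ^ 3},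
    Cfsg.signalizerDelta 2 (D : Subgroup G) ⊓ centralizer {a} with hθ
  have hθcore : ∀ a ∈ A, a ≠ 1 → θ a ≤ core a := fun a ha ha1 => iSup_le fun D =>
    delta_inf_centralizer_le_core d.hyp d.loc d.nocover d.facts D.2.1 (by rw [D.2.2]; norm_num) ha ha1
  obtain ⟨h1, -⟩ := Cfsg.Agent.S0217.result A
    (fun a ha b hb => PGroups.elemAb_comm hA ha hb) hA.2
    (le_trans (by norm_num) d.sixtyfour_le) θ hf.1 hf.2.1 hf.2.2.1
    (fun a ha ha1 => by
      haveI := hsolv a ha ha1
      exact Group.isSolvable_of_isSolvable_injective (inclusion_injective (hθcore a ha ha1)))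
    hf.2.2.2
  have hle : deltaSpan A ≤ ⨆ a : {a : G // a ∈ A ∧ a ≠ 1}, θ a := by
    refine iSup_le fun D => le_of_hyperplanes hA (odd_delta D.2.2.ge)
      (le_normalizer_of_centralizer hA (delta_normalizer D.2.1)) fun H hH hi => ?_
    obtain ⟨a, ha⟩ := Subgroup.ne_bot_iff_exists_ne_one.1 (show H ≠ ⊥ from fun e => by
      have := d.thirtytwo_le_hyperplane hH hi
      rw [e, card_bot] at this
      omega)
    intro x hx
    refine le_iSup (fun a : {a : G // a ∈ A ∧ a ≠ 1} => θ a)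
      ⟨a, hH a.2, fun e => ha (Subtype.ext e)⟩ ?_
    exact le_iSup (fun D' : {D : Subgroup G // D ≤ A ∧ Nat.card ↥D = 2 ^ 3} =>
      Cfsg.signalizerDelta 2 (D' : Subgroup G) ⊓ centralizer {(a : G)})
      ⟨D, D.2.1, by rw [D.2.2]; norm_num⟩
      ⟨hx.1, mem_centralizer_singleton_iff.2 (mem_centralizer_iff.1 hx.2 a a.2).symm⟩
  rw [← Nat.not_even_iff_odd, even_iff_two_dvd]
  exact fun h => h1 (h.trans (card_dvd_of_le hle))

theorem centralizer_le_normalizer_deltaSpan (d : Data S A ι W Q) {E : Subgroup G}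
    (hE : E ≤ A) (h16 : 16 ≤ Nat.card ↥E) :
    centralizer (E : Set G) ≤ normalizer (deltaSpan A : Set G) := by
  haveI : Fact (Nat.Prime 2) := ⟨Nat.prime_two⟩
  have hA := d.elem
  have heq : deltaSpan A = deltaSpan E := by
    refine le_antisymm (iSup_le fun D => ?_) (iSup_le fun B =>
      le_iSup (fun B : {B : Subgroup G // B ≤ A ∧ Nat.card ↥B = 8} =>
        Cfsg.signalizerDelta 2 (B : Subgroup G)) ⟨B, B.2.1.trans hE, B.2.2⟩)
    have hEe : Cfsg.IsElementaryAbelian 2 E := PGroups.elemAb_mono hA hE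
    refine (PLocal.le_iSup_fixOn_hyperplane hEe
      (hE.trans (le_normalizer_of_centralizer hA (delta_normalizer D.2.1)))
      (Nat.coprime_two_right.2 (odd_delta D.2.2.ge))).trans (iSup_le fun H x hx => ?_)
    rw [PLocal.mem_fixOn] at hx
    have hc : 2 ^ 3 ≤ Nat.card ↥(H : Subgroup G) := by
      have h := ((H : Subgroup G).subgroupOf E).card_mul_index
      rw [Nat.card_congr (subgroupOfEquivOfLe H.2.1).toEquiv] at h
      have h2 := Nat.mul_le_mul_left (Nat.card ↥(H : Subgroup G)) H.2.2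
      change Nat.card ↥(H : Subgroup G) * (H : Subgroup G).relIndex E = _ at h
      norm_num
      omega
    obtain ⟨B, hB⟩ := Sylow.exists_subgroup_card_pow_prime_of_le_card Nat.prime_two
      (((PGroups.elemAb_isPGroup hA).to_le hE).to_le H.2.1) hc
    have hBH : B.map (H : Subgroup G).subtype ≤ H := map_subtype_le B
    refine le_iSup (fun B : {B : Subgroup G // B ≤ E ∧ Nat.card ↥B = 8} =>
        Cfsg.signalizerDelta 2 (B : Subgroup G))
      ⟨B.map (H : Subgroup G).subtype, hBH.trans H.2.1, by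
        rw [card_map_of_injective (subtype_injective _), hB]; norm_num⟩ ?_
    exact Balance.mem_signalizerDelta.2 fun b hb hb1 =>
      delta_inf_centralizer_le_core d.hyp d.loc d.nocover d.facts D.2.1 D.2.2.ge (hE (H.2.1 (hBH hb))) hb1
        ⟨hx.1, mem_centralizer_singleton_iff.2 (hx.2 b (hBH hb)).symm⟩
  intro g hg
  refine mem_normalizer_of_map_le ?_
  rw [heq, deltaSpan, Subgroup.map_iSup]
  refine iSup_mono fun B => ?_
  rintro _ ⟨x, hx, rfl⟩
  exact Balance.mem_signalizerDelta.2 fun b hb hb1 => (Subgroup.mem_normalizer_iff.1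
    (centralizer_le_normalizer_core b
      (mem_centralizer_singleton_iff.2 (mem_centralizer_iff.1 hg b (B.2.1 hb)).symm)) x).1
    (Balance.mem_signalizerDelta.1 hx b hb hb1)

theorem normalizer_le_normalizer_deltaSpan (A : Subgroup G) :
    normalizer (A : Set G) ≤ normalizer (deltaSpan A : Set G) := by
  intro n hn
  refine mem_normalizer_of_map_le ?_
  rw [deltaSpan, Subgroup.map_iSup]
  refine iSup_le fun B => ?_
  rw [Balance.map_signalizerDelta]
  refine le_iSup (fun B : {B : Subgroup G // B ≤ A ∧ Nat.card ↥B = 8} =>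
    Cfsg.signalizerDelta 2 (B : Subgroup G)) ⟨_, ?_, ?_⟩
  · rintro _ ⟨b, hb, rfl⟩
    exact (Subgroup.mem_normalizer_iff.1 hn b).1 (B.2.1 hb)
  · exact (card_map_of_injective (f := (MulAut.conj n).toMonoidHom)
      (MulAut.conj n).injective).trans B.2.2

/-- A subgroup with `N(A)`, the centralisers of the `Q i` and all cores contains every
centraliser of an involution of `A`. -/
theorem centSpan_le (d : Data S A ι W Q) {M : Subgroup G} (hN : normalizer (A : Set G) ≤ M)
    (hQ : ∀ i, centralizer (Q i : Set G) ≤ M) (hcore : ∀ a ∈ A, a ≠ 1 → core a ≤ M) :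
    centSpan A ≤ M := by
  haveI : Fact (Nat.Prime 2) := ⟨Nat.prime_two⟩
  refine iSup_le fun t => ?_
  obtain ⟨t, ht, ht2⟩ := t
  have ht1 : t ≠ 1 := fun e => by rw [e, orderOf_one] at ht2; omega
  have hB : zpowers t ≤ A := zpowers_le.2 ht
  have hB1 : zpowers t ≠ ⊥ := zpowers_ne_bot.2 ht1
  show centralizer ({t} : Set G) ≤ M
  rw [← centralizer_zpowers]
  refine centralizer_le_of_cover d.elem hB (d.good hB hB1)
    (by rw [coreC_zpowers]; exact hcore t ht ht1) hN fun K hK hnc => ?_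
  obtain ⟨i, -, hi⟩ := d.exists_block hB hB1 hK hnc
  exact (component_le_image d.elem hB (d.Q_le i) hi).trans (imageBar_mono (hQ i))

theorem ne_top_of_deltaSpan (d : Data S A ι W Q) (hne : deltaSpan A ≠ ⊥) : centSpan A ≠ ⊤ := by
  haveI : Fact (Nat.Prime 2) := ⟨Nat.prime_two⟩
  have hA := d.elem
  set M := normalizer (deltaSpan A : Set G) with hM
  have hMtop : M ≠ ⊤ := by
    intro e
    haveI : (deltaSpan A).Normal := normalizer_eq_top_iff.1 e
    haveI := d.hyp.simple
    rcases (inferInstance : (deltaSpan A).Normal).eq_bot_or_eq_top with h | h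
    · exact hne h
    have hodd := d.odd_deltaSpan
    rw [h, card_top] at hodd
    obtain ⟨x, hx⟩ := Subgroup.ne_bot_iff_exists_ne_one.1 d.hyp.ne
    have h2 : 2 ∣ Nat.card G := by
      rw [← orderOf_eq_prime (hA.2 _ x.2) fun e' => hx (Subtype.ext e')]
      exact orderOf_dvd_natCard _
    exact (Nat.not_even_iff_odd.2 hodd) (even_iff_two_dvd.2 h2)
  refine fun htop => hMtop (top_le_iff.1 (htop ▸ d.centSpan_le ?_
    (fun i => d.centralizer_le_normalizer_deltaSpan (d.Q_le i) (d.sixteen_le i)) ?_))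
  · exact normalizer_le_normalizer_deltaSpan A
  · intro a ha _
    refine le_of_hyperplanes hA (odd_core a)
      ((le_centralizer hA (zpowers_le.2 ha)).trans
        ((centralizer_zpowers a).le.trans (centralizer_le_normalizer_core a)))
      fun H hH hi => inf_le_right.trans ?_
    exact d.centralizer_le_normalizer_deltaSpan hH
      (le_trans (by norm_num) (d.thirtytwo_le_hyperplane hH hi))

/-- With trivial signalizer an element in all cores on `B` is trivial. -/
theorem eq_one_of_mem_cores (d : Data S A ι W Q) (h0 : deltaSpan A = ⊥) {B : Subgroup G}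
    (hB : B ≤ A) (h8 : 8 ≤ Nat.card ↥B) {x : G} (hx : ∀ b ∈ B, b ≠ 1 → x ∈ core b) : x = 1 := by
  haveI : Fact (Nat.Prime 2) := ⟨Nat.prime_two⟩
  obtain ⟨D, hD⟩ := Sylow.exists_subgroup_card_pow_prime_of_le_card Nat.prime_two
    ((PGroups.elemAb_isPGroup d.elem).to_le hB) (n := 3) (by norm_num; exact h8)
  have hDB : D.map B.subtype ≤ B := map_subtype_le D
  rw [← mem_bot, ← h0]
  refine le_iSup (fun B : {B : Subgroup G // B ≤ A ∧ Nat.card ↥B = 8} =>
      Cfsg.signalizerDelta 2 (B : Subgroup G))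
    ⟨D.map B.subtype, hDB.trans hB, by
      rw [card_map_of_injective (subtype_injective _), hD]; norm_num⟩ ?_
  exact Balance.mem_signalizerDelta.2 fun b hb hb1 => hx b (hDB hb) hb1

/-- `[x, w] = 1` when it lies in all cores on `B`. -/
theorem commute_of_mem_cores (d : Data S A ι W Q) (h0 : deltaSpan A = ⊥) {B : Subgroup G}
    (hB : B ≤ A) (h8 : 8 ≤ Nat.card ↥B) {x w : G}
    (h : ∀ b ∈ B, b ≠ 1 → x * w * x⁻¹ * w⁻¹ ∈ core b) : x * w = w * x :=
  mul_inv_eq_iff_eq_mul.1 (mul_inv_eq_one.1 (d.eq_one_of_mem_cores h0 hB h8 h))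

end Data

end Cfsg.Agent.Lib.Goldschmidt53.Mono
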