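import Cfsg.Agent.Lib.Goldschmidt53.CoreStructure
import Cfsg.Agent.Lib.Balance.LBalance

/-!
# Two commuting strongly closed 2-subgroups: components (S2767)

`G` without odd core, `Sᵢ` commuting strongly closed subgroups of the Sylow subgroup `S`,
`D = S₁ ⊓ S₂`, `K = ⟨D^G⟩`.  For every component of `G` in `K` the conjugates of one of `S₁`, `S₂`
act on it as inner automorphisms.
-/

set_option autoImplicit false
set_option linter.unusedSectionVars false
set_option linter.style.haveILetI false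

universe u

namespace Cfsg.Agent.Lib.Goldschmidt53

open Subgroup Cfsg.Agent.Lib.Components

/-- The setting. -/
structure PairSetting {G : Type u} [Group G] (S : Sylow 2 G) (S₁ S₂ : Subgroup G) : Prop where
  core : Cfsg.oddCore G = ⊥
  closed₁ : Cfsg.IsStronglyClosed S₁ (S : Subgroup G)
  closed₂ : Cfsg.IsStronglyClosed S₂ (S : Subgroup G)
  hc : ∀ a ∈ S₁, ∀ b ∈ S₂, a * b = b * a

namespace PairSetting

variable {G : Type u} [Group G]

/-- The normal closure of the intersection. -/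
abbrev cl (S₁ S₂ : Subgroup G) : Subgroup G := normalClosure ((S₁ ⊓ S₂ : Subgroup G) : Set G)

/-- The automorphisms of a component which are inner. -/
abbrev inner (L : Subgroup G) : Subgroup G := L ⊔ centralizer (L : Set G)

/-- `U ∩ L` maps into the image of `Ω₁(D) ∩ L`. -/
def InOm (D U L : Subgroup G) : Prop :=
  ∀ x ∈ U, x ∈ L → ∃ d ∈ Cfsg.omegaOne 2 D, d ∈ L ∧ d⁻¹ * x ∈ centralizer (L : Set G)

theorem le_normalizer_inner (L : Subgroup G) :
    normalizer (L : Set G) ≤ normalizer (inner L : Set G) := by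
  intro g hg
  refine mem_normalizer_iff_map_conj_eq.2 ?_
  rw [inner, Subgroup.map_sup]
  exact congrArg₂ (· ⊔ ·) (mem_normalizer_iff_map_conj_eq.1 hg)
    (mem_normalizer_iff_map_conj_eq.1 (Balance.normalizer_le_normalizer_centralizer L hg))

theorem inner_le_normalizer (L : Subgroup G) : inner L ≤ normalizer (L : Set G) :=
  sup_le Subgroup.le_normalizer (Subgroup.centralizer_le_normalizer _)

theorem exists_mem_inner {L : Subgroup G} {g : G} (hg : g ∈ inner L) :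
    ∃ k ∈ L, ∃ c ∈ centralizer (L : Set G), g = k * c := by
  have hg' : g ∈ ((L ⊔ centralizer (L : Set G) : Subgroup G) : Set G) := hg
  rw [Subgroup.coe_mul_of_left_le_normalizer_right _ _
    (Subgroup.le_normalizer.trans (Balance.normalizer_le_normalizer_centralizer L))] at hg'
  obtain ⟨k, hk, c, hc, rfl⟩ := hg'
  exact ⟨k, hk, c, hc, rfl⟩

variable [Finite G] {S : Sylow 2 G} {S₁ S₂ : Subgroup G} (h : PairSetting S S₁ S₂)
include h

theorem comm : IsMulCommutative ↥(S₁ ⊓ S₂) :=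
  ⟨⟨fun x y => Subtype.ext (h.hc x x.2.1 y y.2.2)⟩⟩

theorem closed : Cfsg.IsStronglyClosed (S₁ ⊓ S₂) (S : Subgroup G) :=
  ⟨inf_le_left.trans h.closed₁.1, fun x hx g hg =>
    ⟨h.closed₁.2 x hx.1 g hg, h.closed₂.2 x hx.2 g hg⟩⟩

theorem le_centralizer₁ : S₁ ≤ centralizer ((S₁ ⊓ S₂ : Subgroup G) : Set G) := fun s hs =>
  mem_centralizer_iff.2 fun d hd => (h.hc s hs d hd.2).symm

theorem le_centralizer₂ : S₂ ≤ centralizer ((S₁ ⊓ S₂ : Subgroup G) : Set G) := fun s hs =>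
  mem_centralizer_iff.2 fun d hd => h.hc d hd.1 s hs

theorem mem_one {x : G} :
    x ∈ Cfsg.omegaOne 2 (S₁ ⊓ S₂ : Subgroup G) ↔ x ∈ S₁ ⊓ S₂ ∧ x ^ 2 = 1 :=
  PGroups.mem_omegaOne_iff_of_comm h.comm

/-- The setting of section X for `G` itself. -/
theorem loc (hP : PropSimple.{u}) :
    LocalSetting S (Cfsg.omegaOne 2 (S₁ ⊓ S₂ : Subgroup G)) (Nat.card G + 1) := by
  haveI : Fact (Nat.Prime 2) := ⟨Nat.prime_two⟩
  refine ⟨h.core, Nat.lt_succ_self _, hP _, PGroups.elemAb_omegaOne h.comm,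
    (PGroups.omegaOne_le 2 _).trans h.closed.1, fun x hx g hg => ?_⟩
  obtain ⟨hxA, hx2⟩ := h.mem_one.1 hx
  exact h.mem_one.2 ⟨h.closed.2 x hxA g hg, by rw [conj_pow, hx2, mul_one, mul_inv_cancel]⟩

/-- Frattini argument: `G = K N`, with `N` preserving the strongly closed subgroups inside `K`. -/
theorem frattini (g : G) : ∃ k ∈ cl S₁ S₂, ∃ n : G, g = k * n ∧
    ∀ U : Subgroup G, Cfsg.IsStronglyClosed U (S : Subgroup G) → ∀ x ∈ U, x ∈ cl S₁ S₂ →
      n * x * n⁻¹ ∈ U ∧ n⁻¹ * x * n ∈ U := by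
  haveI : Fact (Nat.Prime 2) := ⟨Nat.prime_two⟩
  obtain ⟨S₀, hS₀⟩ := Balance.exists_sylow_inf_normal S (cl S₁ S₂)
  have hg : g ∈ normalizer (((S₀ : Subgroup ↥(cl S₁ S₂)).map (cl S₁ S₂).subtype : Subgroup G) :
      Set G) ⊔ cl S₁ S₂ := Sylow.normalizer_sup_eq_top S₀ ▸ mem_top g
  rw [sup_comm, ← SetLike.mem_coe, Subgroup.normal_mul] at hg
  obtain ⟨k, hk, n, hn, rfl⟩ := hg
  refine ⟨k, hk, n, rfl, ?_⟩
  have hmem : ∀ x, x ∈ (S₀ : Subgroup ↥(cl S₁ S₂)).map (cl S₁ S₂).subtype ↔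
      x ∈ (S : Subgroup G) ∧ x ∈ cl S₁ S₂ := by
    intro x
    rw [hS₀]
    constructor
    · rintro ⟨y, hy, rfl⟩; exact ⟨hy, y.2⟩
    · rintro ⟨h1, h2⟩; exact ⟨⟨x, h2⟩, h1, rfl⟩
  intro U hU x hx hxK
  refine ⟨hU.2 x hx n ((hmem _).1 ((mem_normalizer_iff.1 hn x).1
    ((hmem x).2 ⟨hU.1 hx, hxK⟩))).1, ?_⟩
  have h1 : n⁻¹ * x * n⁻¹⁻¹ ∈ U := hU.2 x hx n⁻¹ (by
    rw [inv_inv]
    exact ((hmem _).1 ((mem_normalizer_iff''.1 hn x).1 ((hmem x).2 ⟨hU.1 hx, hxK⟩))).1)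
  rwa [inv_inv] at h1

/-- The core setting on `K`. -/
theorem setting (hP : PropSimple.{u}) : ∃ T : Sylow 2 ↥(cl S₁ S₂),
    CoreSetting T ((S₁ ⊓ S₂).subgroupOf (cl S₁ S₂)) (Nat.card G + 1) := by
  haveI : Fact (Nat.Prime 2) := ⟨Nat.prime_two⟩
  obtain ⟨T, hT⟩ := Balance.exists_sylow_inf_normal S (cl S₁ S₂)
  have hDK : S₁ ⊓ S₂ ≤ cl S₁ S₂ := Subgroup.subset_normalClosure
  haveI := h.comm
  refine ⟨T, ?_, ?_, hP _, ?_, ?_, ?_⟩
  · have h1 := Balance.coreIn_eq_inf_of_isSubnormal (p := 2)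
      (Subgroup.Normal.isSubnormal (inferInstance : (cl S₁ S₂).Normal))
    rw [show Cfsg.pPrimeCore 2 G = ⊥ from h.core, inf_bot_eq] at h1
    exact (Subgroup.map_eq_bot_iff_of_injective _ (cl S₁ S₂).subtype_injective).1 h1
  · exact Nat.lt_succ_of_le (Subgroup.card_le_card_group _)
  · exact ⟨⟨fun x y => Subtype.ext (Subtype.ext (h.hc _ x.2.1 _ y.2.2))⟩⟩
  · rw [hT]
    exact ⟨fun x hx => h.closed.1 hx, fun x hx g hg => h.closed.2 (x : G) hx (g : G) hg⟩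
  set M := normalClosure (((S₁ ⊓ S₂).subgroupOf (cl S₁ S₂)) : Set ↥(cl S₁ S₂)) with hM
  have hle : cl S₁ S₂ ≤ M.map (cl S₁ S₂).subtype := by
    refine (closure_le _).2 fun x hx => ?_
    obtain ⟨a, ha, hax⟩ := Group.mem_conjugatesOfSet_iff.1 hx
    obtain ⟨g, rfl⟩ := isConj_iff.1 hax
    obtain ⟨k, hk, n, rfl, hn⟩ := h.frattini g
    set y : ↥(cl S₁ S₂) := ⟨n * a * n⁻¹, hDK (hn _ h.closed a ha (hDK ha)).1⟩ with hy
    have hy1 : y ∈ M := subset_normalClosure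
      (show y ∈ (S₁ ⊓ S₂).subgroupOf (cl S₁ S₂) from (hn _ h.closed a ha (hDK ha)).1)
    refine ⟨(⟨k, hk⟩ : ↥(cl S₁ S₂)) * y * (⟨k, hk⟩ : ↥(cl S₁ S₂))⁻¹,
      Subgroup.Normal.conj_mem inferInstance _ hy1 _, ?_⟩
    simp [hy, mul_assoc]
  refine eq_top_iff.2 fun x _ => ?_
  obtain ⟨y, hy, hyx⟩ := hle x.2
  rwa [← Subtype.ext hyx]

variable {L : Subgroup G} (hL : Cfsg.IsComponent L) (hLK : L ≤ cl S₁ S₂)
include hL hLK

/-- `Ω₁(D)` meets `L` outside its centre. -/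
theorem moved (hP : PropSimple.{u}) (hF : PropFacts.{u}) :
    ¬ ∀ x : ↥L, (x : G) ∈ Cfsg.omegaOne 2 (S₁ ⊓ S₂ : Subgroup G) → x ∈ Subgroup.center ↥L := by
  obtain ⟨T, hT⟩ := h.setting hP
  intro hc
  refine hT.moved (Component.subgroupOf hL hLK) hF fun x hx => ?_
  obtain ⟨h1, h2⟩ := hT.mem_one_iff.1 hx
  have hz := hc ⟨((x : ↥(cl S₁ S₂)) : G), x.2⟩
    (h.mem_one.2 ⟨h1, congrArg Subtype.val h2⟩)
  refine Subgroup.mem_center_iff.2 fun y => Subtype.ext (Subtype.ext ?_)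
  have h3 := congrArg Subtype.val
    (Subgroup.mem_center_iff.1 hz ⟨((y : ↥(cl S₁ S₂)) : G), y.2⟩)
  exact h3

/-- The centraliser of `D` normalises `L`. -/
theorem centralizer_le_normalizer (hP : PropSimple.{u}) (hF : PropFacts.{u}) :
    centralizer ((S₁ ⊓ S₂ : Subgroup G) : Set G) ≤ normalizer (L : Set G) := by
  intro g hg
  refine mem_normalizer_iff_map_conj_eq.2 ?_
  by_contra hne
  refine h.moved hL hLK hP hF fun x hx => ?_
  refine CoreSetting.mem_center_of_coe ?_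
  refine Component.le_centralizer_of_ne (Component.conj hL g) hL hne ⟨(x : G), x.2, ?_⟩
  show g * (x : G) * g⁻¹ = x
  rw [← mem_centralizer_iff.1 hg _ (h.mem_one.1 hx).1, mul_inv_cancel_right]

/-- `K` acts on `L` by inner automorphisms. -/
theorem cl_le_inner (hP : PropSimple.{u}) (hF : PropFacts.{u}) (hW : Walter.PropKnownFacts.{u}) :
    cl S₁ S₂ ≤ inner L := by
  obtain ⟨T, hT⟩ := h.setting hP
  intro g hg
  obtain ⟨k, hk, c, hc, he⟩ := hT.component_sup hF hW (Component.subgroupOf hL hLK) ⟨g, hg⟩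
  rw [show g = (k : G) * c from congrArg Subtype.val he]
  refine mul_mem (mem_sup_left hk) (mem_sup_right (mem_centralizer_iff.2 fun y hy => ?_))
  exact congrArg Subtype.val (mem_centralizer_iff.1 hc (⟨y, hLK hy⟩ : ↥(cl S₁ S₂)) hy)

/-- All conjugates of an element of `C(D)` normalise `L`. -/
theorem conj_mem_normalizer (hP : PropSimple.{u}) (hF : PropFacts.{u}) {s : G}
    (hs : s ∈ centralizer ((S₁ ⊓ S₂ : Subgroup G) : Set G)) (g : G) :
    g * s * g⁻¹ ∈ normalizer (L : Set G) := by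
  have hL'K : L.map (MulAut.conj g⁻¹).toMonoidHom ≤ cl S₁ S₂ := by
    rintro _ ⟨x, hx, rfl⟩
    exact Subgroup.normalClosure_normal.conj_mem x (hLK hx) g⁻¹
  have h1 := h.centralizer_le_normalizer (Component.conj hL g⁻¹) hL'K hP hF hs
  have key : ∀ x, (x ∈ L.map (MulAut.conj g⁻¹).toMonoidHom) ↔ g * x * g⁻¹ ∈ L := by
    intro x
    constructor
    · rintro ⟨y, hy, rfl⟩
      simpa [mul_assoc] using hy
    · exact fun hx => ⟨_, hx, by simp [mul_assoc]⟩
  refine mem_normalizer_iff.2 fun x => ?_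
  have h2 := mem_normalizer_iff.1 h1 (g⁻¹ * x * g)
  rw [key, key, show g * (g⁻¹ * x * g) * g⁻¹ = x by group,
    show g * (s * (g⁻¹ * x * g) * s⁻¹) * g⁻¹ = g * s * g⁻¹ * x * (g * s * g⁻¹)⁻¹ by group] at h2
  exact h2

/-- One of `S₁ ∩ L`, `S₂ ∩ L` maps into `Ω₁`. -/
theorem dichotomy (hP : PropSimple.{u}) (hF : PropFacts.{u}) (hW : Walter.PropKnownFacts.{u}) :
    InOm (S₁ ⊓ S₂) S₁ L ∨ InOm (S₁ ⊓ S₂) S₂ L := by
  classical
  haveI : Fact (Nat.Prime 2) := ⟨Nat.prime_two⟩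
  obtain ⟨hkn, P, hTP, hPT, hOm⟩ := (h.loc hP).known hL (h.moved hL hLK hP hF)
  set q := CoreSetting.qC L with hq
  have hP' : ∀ x : ↥L, q x ∈ (P : Subgroup _) → (x : G) ∈ (S : Subgroup G) := by
    intro x hx
    obtain ⟨y, hy, hye⟩ := hPT _ hx
    have := mul_mem hy ((h.loc hP).center_mem_sylow hL (CoreSetting.eq_of_qC hye))
    simpa using this
  have himg : ∀ {U : Subgroup G}, (∀ v ∈ q '' {x : ↥L | (x : G) ∈ U}, v ∈ Om P) →
      InOm (S₁ ⊓ S₂) U L := by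
    intro U hU x hxU hxL
    have h1 := hU _ ⟨⟨x, hxL⟩, hxU, rfl⟩
    rw [← hOm] at h1
    obtain ⟨d, hd, hde⟩ := h1
    have := CoreSetting.coe_mem_centralizer (CoreSetting.eq_of_qC hde)
    exact ⟨d, hd, d.2, by simpa using this⟩
  have hin : ∀ {U : Subgroup G}, Cfsg.IsStronglyClosed U (S : Subgroup G) →
      ∀ v ∈ q '' {x : ↥L | (x : G) ∈ U}, v ∈ (P : Subgroup _) := by
    rintro U hU _ ⟨x, hx, rfl⟩
    exact hTP x (hU.1 hx)
  refine (Invariant.le_omega_or hW hkn P (hin h.closed₁) (hin h.closed₂) (fun n hn v hv => ?_)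
      (fun v hv w hw => ?_)).imp (fun h1 => himg h1) (fun h1 => himg h1)
  · obtain ⟨x, hx, rfl⟩ := hv
    obtain ⟨l, rfl⟩ := QuotientGroup.mk'_surjective _ n
    refine ⟨l * x * l⁻¹, h.closed₁.2 (x : G) hx (l : G) ?_, by rw [map_mul, map_mul, map_inv]⟩
    refine hP' (l * x * l⁻¹) ?_
    rw [map_mul, map_mul, map_inv]
    exact (mem_normalizer_iff.1 hn _).1 (hTP x (h.closed₁.1 hx))
  · obtain ⟨x, hx, rfl⟩ := hv
    obtain ⟨y, hy, rfl⟩ := hw
    rw [← map_mul, ← map_mul]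
    exact congrArg q (Subtype.ext (h.hc _ hx _ hy))

/-- A strongly closed subgroup centralising `D` whose part in `L` maps into `Ω₁` acts on `L` by
inner automorphisms. -/
theorem le_inner (hP : PropSimple.{u}) (hF : PropFacts.{u}) {U : Subgroup G}
    (hU : Cfsg.IsStronglyClosed U (S : Subgroup G))
    (hUD : U ≤ centralizer ((S₁ ⊓ S₂ : Subgroup G) : Set G)) (hO : InOm (S₁ ⊓ S₂) U L) :
    U ≤ inner L := by
  classical
  haveI : Fact (Nat.Prime 2) := ⟨Nat.prime_two⟩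
  intro s hs
  obtain ⟨hkn, P, hTP, hPT, hOm⟩ := (h.loc hP).known hL (h.moved hL hLK hP hF)
  have hf := hF _ hkn
  set Z := Subgroup.center ↥L with hZ
  set q := CoreSetting.qC L with hq
  have hsL := h.centralizer_le_normalizer hL hLK hP hF (hUD hs)
  let β : MulAut ↥L := L.normalizerMonoidHom ⟨s, hsL⟩
  have hβ : ∀ x : ↥L, ((β x : ↥L) : G) = s * x * s⁻¹ := fun x => rfl
  have hβZ : Z.map β.toMonoidHom = Z :=
    Subgroup.characteristic_iff_map_eq.1 inferInstance β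
  let α : MulAut (↥L ⧸ Z) := QuotientGroup.congr Z Z β hβZ
  have hα : ∀ x : ↥L, α (q x) = q (β x) := fun x => rfl
  obtain ⟨j, hj⟩ : ∃ j : ℕ, s ^ 2 ^ j = 1 := by
    obtain ⟨j, hj⟩ := S.2 ⟨s, hU.1 hs⟩
    exact ⟨j, congrArg Subtype.val hj⟩
  have hαj : α ^ 2 ^ j = 1 := by
    have hpow : ∀ i : ℕ, ∀ x : ↥L, ∃ y : ↥L, (y : G) = s ^ i * x * (s ^ i)⁻¹ ∧
        (α ^ i) (q x) = q y := by
      intro i
      induction i with
      | zero => exact fun x => ⟨x, by simp, rfl⟩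
      | succ i ih =>
        intro x
        obtain ⟨y, hy, hy'⟩ := ih x
        refine ⟨β y, by rw [hβ, hy, pow_succ']; group, ?_⟩
        rw [pow_succ', MulAut.mul_apply, hy', hα]
    refine MulEquiv.ext fun v => ?_
    obtain ⟨x, rfl⟩ := QuotientGroup.mk'_surjective Z v
    obtain ⟨y, hy, hy'⟩ := hpow (2 ^ j) x
    rw [hy', MulAut.one_apply]
    refine congrArg _ (Subtype.ext ?_)
    rw [hy, hj, one_mul, inv_one, mul_one]
  obtain ⟨g, hgP, hg⟩ := hf.split P α (by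
      obtain ⟨i, -, hi⟩ := (Nat.dvd_prime_pow Nat.prime_two).1 (orderOf_dvd_of_pow_eq_one hαj)
      exact ⟨i, hi⟩)
    (fun v hv => by
      rw [← hOm] at hv
      obtain ⟨y, hy, rfl⟩ := hv
      refine congrArg q (Subtype.ext ?_)
      show s * (y : G) * s⁻¹ = y
      rw [← mem_centralizer_iff.1 (hUD hs) _
        (h.mem_one.1 (show (y : G) ∈ Cfsg.omegaOne 2 (S₁ ⊓ S₂ : Subgroup G) from hy)).1,
        mul_inv_cancel_right])
    (fun v hv => by
      obtain ⟨y, rfl⟩ := QuotientGroup.mk'_surjective Z v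
      obtain ⟨y', hy', hye⟩ := hPT _ hv
      have hyS : (y : G) ∈ (S : Subgroup G) := by
        have := mul_mem hy' ((h.loc hP).center_mem_sylow hL (CoreSetting.eq_of_qC hye))
        simpa using this
      rw [hα, ← map_inv, ← map_mul]
      have h1 : (y : G)⁻¹ * s * (y : G) ∈ U := by
        have := hU.2 s hs (y : G)⁻¹ (by
          simpa using mul_mem (mul_mem (inv_mem hyS) (hU.1 hs)) hyS)
        simpa using this
      have h2 : ((y⁻¹ * β y : ↥L) : G) ∈ U := by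
        have := mul_mem h1 (inv_mem hs)
        rw [Subgroup.coe_mul, InvMemClass.coe_inv, hβ]
        rwa [show (y : G)⁻¹ * (s * y * s⁻¹) = (y : G)⁻¹ * s * y * s⁻¹ by group]
      obtain ⟨d, hd, hdL, hdc⟩ := hO _ h2 (y⁻¹ * β y).2
      rw [← hOm]
      refine ⟨⟨d, hdL⟩, hd, ?_⟩
      exact QuotientGroup.eq.2 (CoreSetting.mem_center_of_coe hdc))
  obtain ⟨y, rfl⟩ := QuotientGroup.mk'_surjective Z g
  have hc : (y : G)⁻¹ * s ∈ centralizer (L : Set G) := by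
    refine LocalSetting.mem_centralizer_of_mod hL fun k hk => ?_
    set k' : ↥L := y⁻¹ * β ⟨k, hk⟩ * y * (⟨k, hk⟩ : ↥L)⁻¹ with hk'
    have hkZ : k' ∈ Z := by
      rw [← QuotientGroup.eq_one_iff]
      show q _ = 1
      have hg' : ∀ v, α v = q y * v * (q y)⁻¹ := hg
      rw [hk', map_mul, map_mul, map_mul, ← hα, hg', map_inv, map_inv]
      group
    have e1 : (y : G)⁻¹ * s * k * ((y : G)⁻¹ * s)⁻¹ * k⁻¹ = k' := by
      rw [hk']; simp [hβ, mul_assoc]
    exact ⟨e1 ▸ k'.2, fun z hz => e1 ▸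
      congrArg Subtype.val (Subgroup.mem_center_iff.1 hkZ ⟨z, hz⟩)⟩
  have := mul_mem (mem_sup_left y.2 : (y : G) ∈ inner L) (mem_sup_right hc)
  rwa [mul_inv_cancel_left] at this

/-- The property `InOm` is constant on conjugacy classes of components. -/
theorem inOm_conj (hP : PropSimple.{u}) (hF : PropFacts.{u}) (hW : Walter.PropKnownFacts.{u})
    {U : Subgroup G} (hU : Cfsg.IsStronglyClosed U (S : Subgroup G))
    (hO : InOm (S₁ ⊓ S₂) U L) (g : G) :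
    InOm (S₁ ⊓ S₂) U (L.map (MulAut.conj g).toMonoidHom) := by
  obtain ⟨k, hk, n, rfl, hn⟩ := h.frattini g
  haveI : (cl S₁ S₂).Normal := Subgroup.normalClosure_normal
  have hDK : S₁ ⊓ S₂ ≤ cl S₁ S₂ := Subgroup.subset_normalClosure
  set L' := L.map (MulAut.conj n).toMonoidHom with hL'
  have hL'K : L' ≤ cl S₁ S₂ := by
    rintro _ ⟨x, hx, rfl⟩
    exact Subgroup.Normal.conj_mem inferInstance x (hLK hx) n
  have hkn : k ∈ normalizer (L' : Set G) :=
    inner_le_normalizer L' (h.cl_le_inner (Component.conj hL n) hL'K hP hF hW hk)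
  have e : L.map (MulAut.conj (k * n)).toMonoidHom = L' := by
    rw [← show L'.map (MulAut.conj k).toMonoidHom = L' from mem_normalizer_iff_map_conj_eq.1 hkn,
      hL', Subgroup.map_map]
    congr 1
    ext x
    simp [mul_assoc]
  rw [e]
  intro x hxU hxL
  obtain ⟨x₀, hx₀, hxe⟩ := hxL
  have hx0 : x₀ = n⁻¹ * x * n := by rw [← hxe]; simp [mul_assoc]
  have hxK : x ∈ cl S₁ S₂ := hxe ▸ Subgroup.Normal.conj_mem inferInstance x₀ (hLK hx₀) n
  obtain ⟨d, hd, hdL, hdc⟩ := hO x₀ (hx0 ▸ (hn U hU x hxU hxK).2) hx₀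
  obtain ⟨hd1, hd2⟩ := h.mem_one.1 hd
  refine ⟨n * d * n⁻¹, h.mem_one.2 ⟨(hn _ h.closed d hd1 (hDK hd1)).1,
    by rw [conj_pow, hd2, mul_one, mul_inv_cancel]⟩, ⟨d, hdL, rfl⟩, ?_⟩
  refine mem_centralizer_iff.2 ?_
  rintro _ ⟨z, hz, rfl⟩
  have hz' := mem_centralizer_iff.1 hdc z hz
  show n * z * n⁻¹ * _ = _ * (n * z * n⁻¹)
  rw [← show n * x₀ * n⁻¹ = x from hxe]
  calc n * z * n⁻¹ * ((n * d * n⁻¹)⁻¹ * (n * x₀ * n⁻¹)) = n * (z * (d⁻¹ * x₀)) * n⁻¹ := by group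
    _ = n * ((d⁻¹ * x₀) * z) * n⁻¹ := by rw [hz']
    _ = _ := by group

/-- The normal closure of `U` acts by inner automorphisms. -/
theorem closure_le_inner (hP : PropSimple.{u}) (hF : PropFacts.{u})
    (hW : Walter.PropKnownFacts.{u}) {U : Subgroup G}
    (hU : Cfsg.IsStronglyClosed U (S : Subgroup G))
    (hUD : U ≤ centralizer ((S₁ ⊓ S₂ : Subgroup G) : Set G)) (hO : InOm (S₁ ⊓ S₂) U L) :
    normalClosure (U : Set G) ≤ inner L := by
  refine (closure_le _).2 fun x hx => ?_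
  obtain ⟨s, hs, hsx⟩ := Group.mem_conjugatesOfSet_iff.1 hx
  obtain ⟨g, rfl⟩ := isConj_iff.1 hsx
  set L' := L.map (MulAut.conj g⁻¹).toMonoidHom with hL'
  have hL'K : L' ≤ cl S₁ S₂ := by
    rintro _ ⟨x, hx, rfl⟩
    exact Subgroup.normalClosure_normal.conj_mem x (hLK hx) g⁻¹
  have h1 : s ∈ inner L' := h.le_inner (Component.conj hL g⁻¹) hL'K hP hF hU hUD
    (h.inOm_conj hL hLK hP hF hW hU hO g⁻¹) hs
  refine (show inner L' ≤ (inner L).comap (MulAut.conj g).toMonoidHom from sup_le ?_ ?_) h1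
  · rintro _ ⟨z, hz, rfl⟩
    show g * (g⁻¹ * z * g⁻¹⁻¹) * g⁻¹ ∈ inner L
    rw [show g * (g⁻¹ * z * g⁻¹⁻¹) * g⁻¹ = z by group]
    exact mem_sup_left hz
  · intro c hc
    refine mem_sup_right (mem_centralizer_iff.2 fun z hz => ?_)
    have hz' := mem_centralizer_iff.1 hc _ (mem_map_of_mem (MulAut.conj g⁻¹).toMonoidHom hz)
    show z * (g * c * g⁻¹) = g * c * g⁻¹ * z
    calc z * (g * c * g⁻¹) = g * ((g⁻¹ * z * g⁻¹⁻¹) * c) * g⁻¹ := by group
      _ = g * (c * (g⁻¹ * z * g⁻¹⁻¹)) * g⁻¹ := congrArg (fun w => g * w * g⁻¹) hz'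
      _ = _ := by group

/-- The commutator of the normal closures acts by inner automorphisms. -/
theorem commutator_le_inner (hP : PropSimple.{u}) (hF : PropFacts.{u})
    (hW : Walter.PropKnownFacts.{u}) :
    ⁅normalClosure (S₁ : Set G), normalClosure (S₂ : Set G)⁆ ≤ inner L := by
  have hN : ∀ U : Subgroup G, U ≤ centralizer ((S₁ ⊓ S₂ : Subgroup G) : Set G) →
      normalClosure (U : Set G) ≤ normalizer (inner L : Set G) := by
    intro U hUD
    refine (closure_le _).2 fun x hx => le_normalizer_inner L ?_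
    obtain ⟨s, hs, hsx⟩ := Group.mem_conjugatesOfSet_iff.1 hx
    obtain ⟨g, rfl⟩ := isConj_iff.1 hsx
    exact h.conj_mem_normalizer hL hLK hP hF (hUD hs) g
  refine commutator_le.2 fun a ha b hb => ?_
  rw [commutatorElement_def]
  rcases h.dichotomy hL hLK hP hF hW with ho | ho
  · have hI := h.closure_le_inner hL hLK hP hF hW h.closed₁ h.le_centralizer₁ ho ha
    have hb' := (mem_normalizer_iff.1 (hN S₂ h.le_centralizer₂ hb) a⁻¹).1 (inv_mem hI)
    rw [show a * b * a⁻¹ * b⁻¹ = a * (b * a⁻¹ * b⁻¹) by group]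
    exact mul_mem hI hb'
  · have hI := h.closure_le_inner hL hLK hP hF hW h.closed₂ h.le_centralizer₂ ho hb
    have ha' := (mem_normalizer_iff.1 (hN S₁ h.le_centralizer₁ ha) b).1 hI
    exact mul_mem ha' (inv_mem hI)

end PairSetting

end Cfsg.Agent.Lib.Goldschmidt53
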