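import Cfsg.Agent.Lib.Goldschmidt53.Pair
import Cfsg.Agent.Lib.ProductFusion.Main
import Cfsg.Agent.S1250

/-!
# Two commuting strongly closed 2-subgroups: the commutator of the normal closures (S2767)

With `N = N(D)` the commutator maps to a subgroup of odd order of `G / K`, by the theorem on
commuting strongly closed subgroups with trivial intersection in `N / D`.
-/

set_option autoImplicit false
set_option linter.unusedSectionVars false
set_option linter.style.haveILetI false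

universe u

namespace Cfsg.Agent.Lib.Goldschmidt53

open Subgroup Cfsg.Agent.Lib.Components

namespace PairSetting

variable {G : Type u} [Group G] [Finite G] {S : Sylow 2 G} {S₁ S₂ : Subgroup G}
  (h : PairSetting S S₁ S₂)
include h

/-- The commutator is inner on `K` and centralises what is central of `D`. -/
theorem exists_split (hP : PropSimple.{u}) (hF : PropFacts.{u}) (hW : Walter.PropKnownFacts.{u})
    {w : G} (hw : w ∈ ⁅normalClosure (S₁ : Set G), normalClosure (S₂ : Set G)⁆) :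
    ∃ e ∈ cl S₁ S₂, e⁻¹ * w ∈ centralizer (cl S₁ S₂ : Set G) := by
  classical
  haveI : Fintype (Subgroup G) := Fintype.ofFinite _
  have hDK : S₁ ⊓ S₂ ≤ cl S₁ S₂ := Subgroup.subset_normalClosure
  suffices ∀ s : Finset (Subgroup G), (∀ L ∈ s, Cfsg.IsComponent L ∧ L ≤ cl S₁ S₂) →
      ∃ e ∈ cl S₁ S₂, ∀ L ∈ s, e⁻¹ * w ∈ centralizer (L : Set G) by
    obtain ⟨e, he, hall⟩ := this
      (Finset.univ.filter fun L => Cfsg.IsComponent L ∧ L ≤ cl S₁ S₂)
      (fun L hL => (Finset.mem_filter.1 hL).2)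
    refine ⟨e, he, ?_⟩
    obtain ⟨T, hT⟩ := h.setting hP
    have hle : (⊤ : Subgroup ↥(cl S₁ S₂)) ≤
        (centralizer ({e⁻¹ * w} : Set G)).comap (cl S₁ S₂).subtype := by
      rw [← hT.sup_eq_top hF hW]
      refine sup_le (sSup_le fun L₀ hL₀ => ?_) fun r hr => ?_
      · intro x hx
        have hc := Component.map_subtype
          (Subgroup.Normal.isSubnormal (inferInstance : (cl S₁ S₂).Normal)) hL₀
        refine mem_comap.2 (mem_centralizer_singleton_iff.2 ?_)
        exact (mem_centralizer_iff.1 (hall _ (Finset.mem_filter.2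
          ⟨Finset.mem_univ _, hc, map_subtype_le L₀⟩)) _ (mem_map_of_mem _ hx))
      · refine mem_comap.2 (mem_centralizer_singleton_iff.2 ?_)
        have hrK : ∀ y ∈ cl S₁ S₂, y * (r : G) = r * y := fun y hy =>
          congrArg Subtype.val (Subgroup.mem_center_iff.1 (hT.core_le_center hr) ⟨y, hy⟩)
        have hN : normalClosure (S₁ : Set G) ≤ centralizer ({(r : G)} : Set G) := by
          refine (closure_le _).2 fun x hx => ?_
          obtain ⟨s, hs, hsx⟩ := Group.mem_conjugatesOfSet_iff.1 hx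
          obtain ⟨g, rfl⟩ := isConj_iff.1 hsx
          obtain ⟨k, hk, n, rfl, hn⟩ := h.frattini g
          have hd : n⁻¹ * r * n ∈ S₁ ⊓ S₂ := (hn _ h.closed r hr.1 r.2).2
          refine mem_centralizer_singleton_iff.2 ?_
          have e1 : k⁻¹ * r * k = r := by rw [mul_assoc, ← hrK k hk, inv_mul_cancel_left]
          have e2 := mem_centralizer_iff.1 (h.le_centralizer₁ hs) _ hd
          calc k * n * s * (k * n)⁻¹ * r = k * n * (s * (n⁻¹ * (k⁻¹ * r * k) * n)) * (k * n)⁻¹ := by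
                group
            _ = k * n * ((n⁻¹ * r * n) * s) * (k * n)⁻¹ := by rw [e1, e2]
            _ = k * n * ((n⁻¹ * (k⁻¹ * r * k) * n) * s) * (k * n)⁻¹ := by rw [e1]
            _ = _ := by group
        have hN' : normalClosure (S₂ : Set G) ≤ centralizer ({(r : G)} : Set G) := by
          refine (closure_le _).2 fun x hx => ?_
          obtain ⟨s, hs, hsx⟩ := Group.mem_conjugatesOfSet_iff.1 hx
          obtain ⟨g, rfl⟩ := isConj_iff.1 hsx
          obtain ⟨k, hk, n, rfl, hn⟩ := h.frattini g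
          have hd : n⁻¹ * r * n ∈ S₁ ⊓ S₂ := (hn _ h.closed r hr.1 r.2).2
          refine mem_centralizer_singleton_iff.2 ?_
          have e1 : k⁻¹ * r * k = r := by rw [mul_assoc, ← hrK k hk, inv_mul_cancel_left]
          have e2 := mem_centralizer_iff.1 (h.le_centralizer₂ hs) _ hd
          calc k * n * s * (k * n)⁻¹ * r = k * n * (s * (n⁻¹ * (k⁻¹ * r * k) * n)) * (k * n)⁻¹ := by
                group
            _ = k * n * ((n⁻¹ * r * n) * s) * (k * n)⁻¹ := by rw [e1, e2]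
            _ = k * n * ((n⁻¹ * (k⁻¹ * r * k) * n) * s) * (k * n)⁻¹ := by rw [e1]
            _ = _ := by group
        have hcw : w ∈ centralizer ({(r : G)} : Set G) := by
          refine (commutator_le.2 fun a ha b hb => ?_) hw
          rw [commutatorElement_def]
          exact mul_mem (mul_mem (mul_mem (hN ha) (hN' hb)) (inv_mem (hN ha))) (inv_mem (hN' hb))
        have hce : e⁻¹ ∈ centralizer ({(r : G)} : Set G) :=
          inv_mem (mem_centralizer_singleton_iff.2 (hrK e he))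
        exact (mem_centralizer_singleton_iff.1 (mul_mem hce hcw)).symm
    refine mem_centralizer_iff.2 fun y hy => ?_
    exact mem_centralizer_singleton_iff.1 (hle (mem_top (⟨y, hy⟩ : ↥(cl S₁ S₂))))
  intro s
  induction s using Finset.induction with
  | empty => exact fun _ => ⟨1, one_mem _, by simp⟩
  | @insert L s hLs ih =>
    intro hs
    obtain ⟨e, he, hall⟩ := ih fun M hM => hs M (Finset.mem_insert_of_mem hM)
    obtain ⟨hL, hLK⟩ := hs L (Finset.mem_insert_self L s)
    have hin : e⁻¹ * w ∈ inner L := mul_mem (inv_mem (h.cl_le_inner hL hLK hP hF hW he))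
      (h.commutator_le_inner hL hLK hP hF hW hw)
    obtain ⟨k, hk, c, hc, hkc⟩ := exists_mem_inner hin
    refine ⟨e * k, mul_mem he (hLK hk), fun M hM => ?_⟩
    have e1 : (e * k)⁻¹ * w = k⁻¹ * (e⁻¹ * w) := by group
    rw [e1]
    rcases Finset.mem_insert.1 hM with rfl | hM
    · rw [hkc, inv_mul_cancel_left]
      exact hc
    · exact mul_mem (inv_mem (Component.le_centralizer_of_ne hL
        (hs M (Finset.mem_insert_of_mem hM)).1 (fun e' => hLs (e' ▸ hM)) hk)) (hall M hM)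

/-- The commutator maps to a subgroup of odd order of `G / K`. -/
theorem exists_odd_pow :
    ∃ c : ℕ, Odd c ∧ ∀ w ∈ ⁅normalClosure (S₁ : Set G), normalClosure (S₂ : Set G)⁆,
      w ^ c ∈ cl S₁ S₂ := by
  classical
  haveI : Fact (Nat.Prime 2) := ⟨Nat.prime_two⟩
  haveI : (cl S₁ S₂).Normal := Subgroup.normalClosure_normal
  have hDK : S₁ ⊓ S₂ ≤ cl S₁ S₂ := Subgroup.subset_normalClosure
  set N := normalizer ((S₁ ⊓ S₂ : Subgroup G) : Set G) with hNdef
  have hSN : (S : Subgroup G) ≤ N := by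
    intro t ht
    refine mem_normalizer_iff.2 fun x => ⟨fun hx => h.closed.2 x hx t
      (mul_mem (mul_mem ht (h.closed.1 hx)) (inv_mem ht)), fun hx => ?_⟩
    have h1 := h.closed.2 _ hx t⁻¹ (by
      simpa [mul_assoc] using mul_mem (mul_mem (inv_mem ht) (h.closed.1 hx)) ht)
    simpa [mul_assoc] using h1
  set D' : Subgroup ↥N := (S₁ ⊓ S₂).subgroupOf N with hD'
  haveI : D'.Normal := Subgroup.normal_in_normalizer
  set f := QuotientGroup.mk' D' with hf
  set O := Cfsg.pPrimeCore 2 (↥N ⧸ D') with hO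
  set g := QuotientGroup.mk' O with hg
  -- the images in `(N / D) / O`
  let SN : Sylow 2 ↥N := S.subtype hSN
  have hcl : ∀ {U : Subgroup G}, Cfsg.IsStronglyClosed U (S : Subgroup G) →
      Cfsg.IsStronglyClosed ((((U.subgroupOf N).map f).map g))
        ((((SN : Subgroup ↥N).map f).map g)) := by
    intro U hU
    have h0 : Cfsg.IsStronglyClosed (U.subgroupOf N) (SN : Subgroup ↥N) := by
      rw [Sylow.coe_subtype]
      exact ⟨fun x hx => hU.1 hx, fun x hx n hn => hU.2 (x : G) hx (n : G) hn⟩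
    have h1 := Cfsg.Agent.S1250.result SN _ h0 D'
    exact Cfsg.Agent.S1250.result (SN.mapSurjective (QuotientGroup.mk'_surjective D')) _
      (by rwa [Sylow.coe_mapSurjective]) O
  let P : Sylow 2 ((↥N ⧸ D') ⧸ O) := (SN.mapSurjective (QuotientGroup.mk'_surjective D')).mapSurjective
    (QuotientGroup.mk'_surjective O)
  have hPc : (P : Subgroup _) = ((SN : Subgroup ↥N).map f).map g := by
    simp [P, Sylow.coe_mapSurjective, hf, hg]
  have hset : ProductFusion.Setup P (((S₁.subgroupOf N).map f).map g)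
      (((S₂.subgroupOf N).map f).map g) := by
    refine ⟨hPc ▸ hcl h.closed₁, hPc ▸ hcl h.closed₂, ?_, ?_⟩
    · rintro _ ⟨_, ⟨a, ha, rfl⟩, rfl⟩ _ ⟨_, ⟨b, hb, rfl⟩, rfl⟩
      rw [← map_mul, ← map_mul, ← map_mul, ← map_mul]
      exact congrArg g (congrArg f (Subtype.ext (h.hc a ha b hb)))
    · rw [eq_bot_iff]
      rintro _ ⟨⟨_, ⟨a, ha, rfl⟩, rfl⟩, ⟨_, ⟨b, hb, rfl⟩, hab⟩⟩
      have h1 : (f b)⁻¹ * f a ∈ O := QuotientGroup.eq.1 hab
      have hp : IsPGroup 2 ↥((SN : Subgroup ↥N).map f) := SN.2.map f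
      have hab' : (f b)⁻¹ * f a = 1 := by
        have h2 : IsPGroup 2 ↥(zpowers ((f b)⁻¹ * f a)) := hp.to_le (zpowers_le.2
          (mul_mem (inv_mem (mem_map_of_mem f (show b ∈ (SN : Subgroup ↥N) from h.closed₂.1 hb)))
            (mem_map_of_mem f (show a ∈ (SN : Subgroup ↥N) from h.closed₁.1 ha))))
        obtain ⟨j, hj⟩ := IsPGroup.iff_card.1 h2
        rw [Nat.card_zpowers] at hj
        have h3 := Subgroup.orderOf_dvd_natCard O h1
        rw [hj] at h3
        refine orderOf_eq_one_iff.1 (hj.trans (Nat.eq_one_of_dvd_coprimes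
          ((Cores.pPrimeCore_coprime 2).symm.pow_left j) dvd_rfl h3))
      rw [← map_inv, ← map_mul] at hab'
      have hba' : (b⁻¹ * a : ↥N) ∈ D' := (QuotientGroup.eq_one_iff _).1 hab'
      have hbaD : ((b⁻¹ * a : ↥N) : G) ∈ S₁ ⊓ S₂ := mem_subgroupOf.1 hba'
      have haD : (a : G) ∈ S₁ ⊓ S₂ := by
        refine ⟨ha, ?_⟩
        have := mul_mem (show (b : G) ∈ S₂ from hb) hbaD.2
        simpa using this
      rw [mem_bot, show f a = 1 from (QuotientGroup.eq_one_iff a).2 haD, map_one]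
  have hc0 := ProductFusion.commutator_normalClosure_eq_bot
    (Cores.pPrimeCore_quotient_pPrimeCore 2) hset
  have hc1 : ∀ m ∈ ⁅normalClosure ((S₁.subgroupOf N : Subgroup ↥N) : Set ↥N),
      normalClosure ((S₂.subgroupOf N : Subgroup ↥N) : Set ↥N)⁆, f m ∈ O := by
    intro m hm
    have h1 : (g.comp f) m = 1 := by
      rw [← mem_bot, ← hc0]
      have hsur : Function.Surjective (g.comp f) :=
        (QuotientGroup.mk'_surjective O).comp (QuotientGroup.mk'_surjective D')
      rw [show ((((S₁.subgroupOf N).map f).map g : Subgroup _) : Set _) =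
          (g.comp f) '' (S₁.subgroupOf N : Set ↥N) by
            rw [Subgroup.map_map, Subgroup.coe_map],
        show ((((S₂.subgroupOf N).map f).map g : Subgroup _) : Set _) =
          (g.comp f) '' (S₂.subgroupOf N : Set ↥N) by
            rw [Subgroup.map_map, Subgroup.coe_map],
        ← map_normalClosure _ _ hsur, ← map_normalClosure _ _ hsur, ← map_commutator]
      exact mem_map_of_mem _ hm
    exact (QuotientGroup.eq_one_iff _).1 h1
  -- transfer to `G / K`
  set q : ↥N →* G ⧸ cl S₁ S₂ := (QuotientGroup.mk' (cl S₁ S₂)).comp N.subtype with hq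
  have hqs : Function.Surjective q := by
    intro v
    obtain ⟨x, rfl⟩ := QuotientGroup.mk'_surjective (cl S₁ S₂) v
    obtain ⟨k, hk, n, rfl, hn⟩ := h.frattini x
    refine ⟨⟨n, mem_normalizer_iff.2 fun y => ⟨fun hy => (hn _ h.closed y hy (hDK hy)).1,
      fun hy => ?_⟩⟩, ?_⟩
    · have := (hn _ h.closed _ hy (hDK hy)).2
      simpa [mul_assoc] using this
    · show QuotientGroup.mk' (cl S₁ S₂) n = _
      rw [map_mul, show QuotientGroup.mk' (cl S₁ S₂) k = 1 from (QuotientGroup.eq_one_iff k).2 hk,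
        one_mul]
  refine ⟨Nat.card ↥O, Nat.coprime_two_right.1 (Cores.pPrimeCore_coprime 2), fun w hw => ?_⟩
  have himg : ∀ U : Subgroup G, U ≤ (S : Subgroup G) →
      (normalClosure (U : Set G)).map (QuotientGroup.mk' (cl S₁ S₂)) =
        (normalClosure ((U.subgroupOf N : Subgroup ↥N) : Set ↥N)).map q := by
    intro U hU
    rw [map_normalClosure _ _ (QuotientGroup.mk'_surjective _), map_normalClosure _ _ hqs,
      ← Subgroup.coe_map, ← Subgroup.coe_map, hq, ← Subgroup.map_map,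
      Subgroup.map_subgroupOf_eq_of_le (hU.trans hSN)]
  have h2 := mem_map_of_mem (QuotientGroup.mk' (cl S₁ S₂)) hw
  rw [map_commutator, himg S₁ h.closed₁.1, himg S₂ h.closed₂.1, ← map_commutator] at h2
  obtain ⟨m, hm, hmw⟩ := h2
  have h3 : f (m ^ Nat.card ↥O) = 1 := by
    rw [map_pow]
    exact congrArg Subtype.val (pow_card_eq_one' (x := (⟨f m, hc1 m hm⟩ : ↥O)))
  have h4' : m ^ Nat.card ↥O ∈ D' := (QuotientGroup.eq_one_iff _).1 h3
  have h4 : ((m ^ Nat.card ↥O : ↥N) : G) ∈ cl S₁ S₂ := hDK (mem_subgroupOf.1 h4')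
  rw [← QuotientGroup.eq_one_iff]
  show QuotientGroup.mk' (cl S₁ S₂) _ = 1
  rw [map_pow, ← hmw, ← map_pow]
  exact (QuotientGroup.eq_one_iff _).2 h4

/-- Without odd core the commutator of the normal closures lies in `⟨D^G⟩`. -/
theorem commutator_le_cl (hP : PropSimple.{u}) (hF : PropFacts.{u})
    (hW : Walter.PropKnownFacts.{u}) :
    ⁅normalClosure (S₁ : Set G), normalClosure (S₂ : Set G)⁆ ≤ cl S₁ S₂ := by
  classical
  haveI : Fact (Nat.Prime 2) := ⟨Nat.prime_two⟩
  haveI : (cl S₁ S₂).Normal := Subgroup.normalClosure_normal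
  obtain ⟨c, hc, hpow⟩ := h.exists_odd_pow
  set W := ⁅normalClosure (S₁ : Set G), normalClosure (S₂ : Set G)⁆ with hWdef
  haveI : W.Normal := by rw [hWdef]; infer_instance
  set C₀ := centralizer (cl S₁ S₂ : Set G) ⊓ (cl S₁ S₂ ⊔ W) with hC0
  haveI : C₀.Normal := by rw [hC0]; infer_instance
  suffices hC : C₀ ≤ cl S₁ S₂ by
    intro w hw
    obtain ⟨e, he, hew⟩ := h.exists_split hP hF hW hw
    have := mul_mem he (hC (Subgroup.mem_inf.2 ⟨hew, mul_mem (inv_mem (mem_sup_left he)) (mem_sup_right hw)⟩))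
    rwa [mul_inv_cancel_left] at this
  have hCpow : ∀ x ∈ C₀, x ^ c ∈ cl S₁ S₂ := by
    intro x hx
    obtain ⟨k, hk, w, hw, rfl⟩ := mem_sup_of_normal_left.1 hx.2
    rw [← QuotientGroup.eq_one_iff]
    show QuotientGroup.mk' (cl S₁ S₂) _ = 1
    rw [map_pow, map_mul, show QuotientGroup.mk' (cl S₁ S₂) k = 1 from
      (QuotientGroup.eq_one_iff k).2 hk, one_mul, ← map_pow]
    exact (QuotientGroup.eq_one_iff _).2 (hpow w hw)
  -- elements of `C₀ ∩ K` are central 2-elements
  have hZ : ∀ x ∈ C₀, x ∈ cl S₁ S₂ → ∃ j : ℕ, x ^ 2 ^ j = 1 := by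
    intro x hx hxK
    obtain ⟨T, hT⟩ := h.setting hP
    have hxc : (⟨x, hxK⟩ : ↥(cl S₁ S₂)) ∈ Subgroup.center ↥(cl S₁ S₂) :=
      Subgroup.mem_center_iff.2 fun y => Subtype.ext (mem_centralizer_iff.1 hx.1 y y.2)
    have hxF : (⟨x, hxK⟩ : ↥(cl S₁ S₂)) ∈ Cfsg.pCore 2 ↥(cl S₁ S₂) := by
      rw [← hT.toLocal.fitting]
      exact Cores.le_fittingSubgroup (N := Subgroup.center ↥(cl S₁ S₂))
        (@CommGroup.isNilpotent ↥(Subgroup.center ↥(cl S₁ S₂))
          { (inferInstance : Group ↥(Subgroup.center ↥(cl S₁ S₂))) with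
            mul_comm := fun a b => Subtype.ext (Subgroup.mem_center_iff.1 b.2 a) }) hxc
    obtain ⟨j, hj⟩ := Cores.pCore_isPGroup 2 ⟨_, hxF⟩
    exact ⟨j, congrArg (fun z : ↥(Cfsg.pCore 2 ↥(cl S₁ S₂)) => ((z : ↥(cl S₁ S₂)) : G)) hj⟩
  -- a normal subgroup of odd order is trivial
  have hodd : ∀ V : Subgroup G, V.Normal → (∀ x ∈ V, Odd (orderOf x)) → ∀ x ∈ V, x = 1 := by
    intro V hV ho x hx
    haveI := hV
    have h1 : ¬ 2 ∣ Nat.card ↥V := by
      intro h2
      obtain ⟨y, hy⟩ := exists_prime_orderOf_dvd_card' (G := ↥V) 2 h2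
      have := ho y y.2
      rw [Subgroup.orderOf_coe, hy] at this
      exact absurd this (by decide)
    have h2 : x ∈ Cfsg.pPrimeCore 2 G := Cores.le_pPrimeCore_of_not_dvd h1 hx
    rw [show Cfsg.pPrimeCore 2 G = ⊥ from h.core] at h2
    exact h2
  -- the centre of `C₀` has odd index
  have hidx : Odd (Subgroup.center ↥C₀).index := by
    rw [← Nat.not_even_iff_odd, even_iff_two_dvd]
    intro h2
    obtain ⟨P⟩ : Nonempty (Sylow 2 ↥C₀) := inferInstance
    refine P.not_dvd_index (h2.trans (Subgroup.index_dvd_of_le fun y hy => ?_))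
    obtain ⟨j, hj⟩ := P.2 ⟨y, hy⟩
    have hy2 : (y : G) ^ 2 ^ j = 1 :=
      congrArg (fun z : ↥(P : Subgroup ↥C₀) => ((z : ↥C₀) : G)) hj
    have hyK : (y : G) ∈ cl S₁ S₂ := by
      obtain ⟨i, hi⟩ := exists_pow_eq_self_of_coprime (x := (y : G)) (n := c)
        ((Nat.Coprime.pow_right j (Nat.coprime_two_right.2 hc)).coprime_dvd_right
          (orderOf_dvd_of_pow_eq_one hy2))
      rw [← hi]
      exact pow_mem (hCpow y y.2) i
    exact Subgroup.mem_center_iff.2 fun z =>
      Subtype.ext (mem_centralizer_iff.1 z.2.1 _ hyK).symm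
  have hcomm : ∀ x ∈ C₀, ∀ y ∈ C₀, x * y = y * x := by
    let φ := MonoidHom.transferCenterPow ↥C₀
    have hker : φ.ker = ⊥ := by
      rw [eq_bot_iff]
      intro x hx
      rw [mem_bot]
      refine Subtype.ext (hodd (φ.ker.map C₀.subtype) ⟨?_⟩ ?_ _ (mem_map_of_mem _ hx))
      · rintro _ ⟨z, hz, rfl⟩ g
        refine ⟨⟨g * z * g⁻¹, Subgroup.Normal.conj_mem inferInstance _ z.2 g⟩, ?_, rfl⟩
        refine MonoidHom.mem_ker.2 (Subtype.ext ?_)
        have hz' := congrArg Subtype.val (MonoidHom.mem_ker.1 hz)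
        rw [MonoidHom.transferCenterPow_apply] at hz' ⊢
        refine Subtype.ext ?_
        have hz'' := congrArg Subtype.val hz'
        simp only [Subgroup.coe_pow, OneMemClass.coe_one] at hz'' ⊢
        rw [conj_pow, hz'', mul_one, mul_inv_cancel]
      · rintro _ ⟨z, hz, rfl⟩
        have hz' := congrArg Subtype.val (MonoidHom.mem_ker.1 hz)
        rw [MonoidHom.transferCenterPow_apply] at hz'
        have hz'' : (z : G) ^ (Subgroup.center ↥C₀).index = 1 := congrArg Subtype.val hz'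
        exact Odd.of_dvd_nat hidx (orderOf_dvd_of_pow_eq_one hz'')
    intro x hx y hy
    have hinj := (MonoidHom.ker_eq_bot_iff φ).1 hker
    refine congrArg Subtype.val (a₁ := (⟨x, hx⟩ * ⟨y, hy⟩ : ↥C₀))
      (a₂ := (⟨y, hy⟩ * ⟨x, hx⟩ : ↥C₀)) (hinj ?_)
    rw [map_mul, map_mul]
    exact Subtype.ext (Subgroup.mem_center_iff.1 (φ ⟨y, hy⟩).2 _)
  -- so the elements of exponent `c` form a normal subgroup
  let V : Subgroup G :=
    { carrier := {x | x ∈ C₀ ∧ x ^ c = 1}
      one_mem' := ⟨one_mem _, one_pow _⟩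
      mul_mem' := fun {x y} hx hy => ⟨mul_mem hx.1 hy.1, by
        rw [(show Commute x y from hcomm x hx.1 y hy.1).mul_pow, hx.2, hy.2, one_mul]⟩
      inv_mem' := fun {x} hx => ⟨inv_mem hx.1, by rw [inv_pow, hx.2, inv_one]⟩ }
  intro x hx
  obtain ⟨j, hj⟩ := hZ _ (pow_mem hx c) (hCpow x hx)
  have hxj : x ^ 2 ^ j = 1 := hodd V ⟨fun y hy g => ⟨Subgroup.Normal.conj_mem inferInstance _ hy.1 g,
      by rw [conj_pow, hy.2, mul_one, mul_inv_cancel]⟩⟩
    (fun y hy => Odd.of_dvd_nat hc (orderOf_dvd_of_pow_eq_one hy.2)) _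
    ⟨pow_mem hx _, by rw [← pow_mul, mul_comm, pow_mul]; exact hj⟩
  obtain ⟨i, hi⟩ := exists_pow_eq_self_of_coprime (x := x) (n := c)
    ((Nat.Coprime.pow_right j (Nat.coprime_two_right.2 hc)).coprime_dvd_right
      (orderOf_dvd_of_pow_eq_one hxj))
  rw [← hi]
  exact pow_mem (hCpow x hx) i

end PairSetting

/-- S2767 from Goldschmidt's theorem for simple groups. -/
theorem row2767 (hP : PropSimple.{u}) (hF : PropFacts.{u}) (hW : Walter.PropKnownFacts.{u})
    {G : Type u} [Group G] [Finite G] (S : Sylow 2 G) (S₁ S₂ : Subgroup G)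
    (h₁ : Cfsg.IsStronglyClosed S₁ (S : Subgroup G))
    (h₂ : Cfsg.IsStronglyClosed S₂ (S : Subgroup G)) (hc : ∀ a ∈ S₁, ∀ b ∈ S₂, a * b = b * a) :
    ⁅normalClosure (S₁ : Set G), normalClosure (S₂ : Set G)⁆ ≤
      normalClosure ((S₁ ⊓ S₂ : Subgroup G) : Set G) ⊔ Cfsg.pPrimeCore 2 G := by
  haveI : Fact (Nat.Prime 2) := ⟨Nat.prime_two⟩
  set q := QuotientGroup.mk' (Cfsg.pPrimeCore 2 G) with hq
  have hqs := QuotientGroup.mk'_surjective (Cfsg.pPrimeCore 2 G)
  let T : Sylow 2 (G ⧸ Cfsg.pPrimeCore 2 G) := S.mapSurjective hqs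
  have hcl : ∀ {U : Subgroup G}, Cfsg.IsStronglyClosed U (S : Subgroup G) →
      Cfsg.IsStronglyClosed (U.map q) (T : Subgroup _) := fun {U} hU => by
    rw [Sylow.coe_mapSurjective]
    exact Cfsg.Agent.S1250.result S U hU _
  have h : PairSetting T (S₁.map q) (S₂.map q) :=
    ⟨Cores.pPrimeCore_quotient_pPrimeCore 2, hcl h₁, hcl h₂, by
      rintro _ ⟨a, ha, rfl⟩ _ ⟨b, hb, rfl⟩
      rw [← map_mul, ← map_mul, hc a ha b hb]⟩
  have hinf : S₁.map q ⊓ S₂.map q ≤ (S₁ ⊓ S₂).map q := by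
    rintro _ ⟨⟨a, ha, rfl⟩, ⟨b, hb, hab⟩⟩
    have h1 : b⁻¹ * a ∈ Cfsg.pPrimeCore 2 G := QuotientGroup.eq.1 hab
    have hS : b⁻¹ * a ∈ (S : Subgroup G) := mul_mem (inv_mem (h₂.1 hb)) (h₁.1 ha)
    obtain ⟨j, hj⟩ := IsPGroup.iff_orderOf.1 S.2 ⟨_, hS⟩
    rw [Subgroup.orderOf_mk] at hj
    have h3 := Subgroup.orderOf_dvd_natCard _ h1
    rw [hj] at h3
    have he : b = a := inv_mul_eq_one.1 (orderOf_eq_one_iff.1 (hj.trans
      (Nat.eq_one_of_dvd_coprimes ((Cores.pPrimeCore_coprime 2).symm.pow_left j) dvd_rfl h3)))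
    exact ⟨a, ⟨ha, he ▸ hb⟩, rfl⟩
  intro w hw
  have hw' : q w ∈ (normalClosure ((S₁ ⊓ S₂ : Subgroup G) : Set G)).map q := by
    have h1 := mem_map_of_mem q hw
    rw [map_commutator, map_normalClosure _ _ hqs, map_normalClosure _ _ hqs, ← Subgroup.coe_map,
      ← Subgroup.coe_map] at h1
    rw [map_normalClosure _ _ hqs, ← Subgroup.coe_map]
    exact normalClosure_mono hinf (h.commutator_le_cl hP hF hW h1)
  rw [← mem_comap, Subgroup.comap_map_eq, QuotientGroup.ker_mk'] at hw'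
  exact hw'

end Cfsg.Agent.Lib.Goldschmidt53
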