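import Cfsg.Agent.Lib.Goldschmidt53.PairMain
import Cfsg.Agent.Lib.Goldschmidt53.Main
import Cfsg.Agent.Lib.Walter.KnownFactsJR

/-!
# S2767 from the input of the keystone still open
-/

set_option autoImplicit false

universe u

namespace Cfsg.Agent.Lib.Goldschmidt53

/-- S2767 from the open input of section R. -/
theorem pair_of_inputs (hMin : PropRankTwoMin.{u}) {G : Type u} [Group G]
    [Finite G] (S : Sylow 2 G) (S₁ S₂ : Subgroup G)
    (h₁ : Cfsg.IsStronglyClosed S₁ (S : Subgroup G))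
    (h₂ : Cfsg.IsStronglyClosed S₂ (S : Subgroup G)) (hc : ∀ a ∈ S₁, ∀ b ∈ S₂, a * b = b * a) :
    ⁅Subgroup.normalClosure (S₁ : Set G), Subgroup.normalClosure (S₂ : Set G)⁆ ≤
      Subgroup.normalClosure ((S₁ ⊓ S₂ : Subgroup G) : Set G) ⊔ Cfsg.pPrimeCore 2 G :=
  row2767 (simple_of_sections (sections_of hMin)) facts
    (Walter.knownFacts BenderOne.propSplitFinal) S S₁ S₂ h₁ h₂ hc

end Cfsg.Agent.Lib.Goldschmidt53
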