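import Cfsg.Agent.Lib.Goldschmidt53.Interface
import Cfsg.Agent.Lib.Walter.Bar
import Cfsg.Agent.Lib.PGroups.ElemAb
import Cfsg.Agent.S1250

/-!
# Goldschmidt's theorem, section P: the image of `A` in `C(B)` modulo its odd core

helper34.  For `B ≤ A` the image of `A` in `CBar B` is elementary and strongly closed, so
`PropLocal` decomposes it.
-/

set_option autoImplicit false
set_option linter.style.haveILetI false
set_option linter.unusedSectionVars false

universe u

namespace Cfsg.Agent.Lib.Goldschmidt53.Pairs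

open Subgroup
open Cfsg.Agent.Lib.Walter (CBar liftBar coreC imageBar proj mem_liftBar proj_eq_one_iff
  proj_surjective mem_imageBar)

variable {G : Type u} [Group G] [Finite G] {S : Sylow 2 G} {A : Subgroup G}

/-- `G` has trivial centre, so the centraliser of a non-trivial subgroup is proper. -/
theorem centralizer_ne_top (h : Hyp S A) {B : Subgroup G} (hB : B ≠ ⊥) :
    centralizer (B : Set G) ≠ ⊤ := by
  intro he
  haveI := h.simple
  have hle : B ≤ Subgroup.center G := fun b hb =>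
    Subgroup.mem_center_iff.2 fun g => by
      have hg : g ∈ centralizer (B : Set G) := he ▸ mem_top g
      exact (mem_centralizer_iff.1 hg b hb).symm
  rcases Subgroup.Normal.eq_bot_or_eq_top (inferInstance : (Subgroup.center G).Normal) with hb | ht
  · exact hB (le_bot_iff.1 (hb ▸ hle))
  · exact h.nonabelian ⟨⟨fun a b => Subgroup.mem_center_iff.1 (ht ▸ mem_top b) a⟩⟩

variable (h : Hyp S A) {B : Subgroup G} (hB : B ≤ A)
include h hB

theorem le_centralizer : A ≤ centralizer (B : Set G) := fun _ ha =>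
  mem_centralizer_iff.2 fun _ hb => PGroups.elemAb_comm h.elem (hB hb) ha

omit hB in
theorem eq_one_of_mem_core {x : G} (hx : x ∈ A) (hc : x ∈ coreC B) : x = 1 :=
  Walter.eq_one_of_mem_coreC (h.closed.1 hx) hc

theorem proj_injective {x y : G} (hx : x ∈ A) (hy : y ∈ A)
    (he : proj B ⟨x, le_centralizer h hB hx⟩ = proj B ⟨y, le_centralizer h hB hy⟩) : x = y := by
  have h1 : proj B ⟨x⁻¹ * y, le_centralizer h hB (mul_mem (inv_mem hx) hy)⟩ = 1 := by
    rw [show (⟨x⁻¹ * y, le_centralizer h hB (mul_mem (inv_mem hx) hy)⟩ :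
        ↥(centralizer (B : Set G))) =
      ⟨x, le_centralizer h hB hx⟩⁻¹ * ⟨y, le_centralizer h hB hy⟩ from rfl, map_mul, map_inv, he,
      inv_mul_cancel]
  exact inv_mul_eq_one.1
    (eq_one_of_mem_core h (mul_mem (inv_mem hx) hy) ((proj_eq_one_iff _).1 h1))

omit h in
theorem mem_image {y : CBar B} (hy : y ∈ imageBar B A) :
    ∃ a, ∃ ha : a ∈ centralizer (B : Set G), a ∈ A ∧ proj B ⟨a, ha⟩ = y := by
  obtain ⟨⟨a, ha⟩, haA, rfl⟩ := hy
  exact ⟨a, ha, mem_subgroupOf.1 haA, rfl⟩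

theorem mem_liftBar_iff {K : Subgroup (CBar B)} {x : G} (hx : x ∈ A) :
    x ∈ A ⊓ liftBar B K ↔ proj B ⟨x, le_centralizer h hB hx⟩ ∈ K :=
  ⟨fun he => (mem_liftBar.1 he.2).2, fun he => ⟨hx, mem_liftBar.2 ⟨_, he⟩⟩⟩

theorem proj_mem_image {x : G} (hx : x ∈ A) :
    proj B ⟨x, le_centralizer h hB hx⟩ ∈ imageBar B A :=
  mem_imageBar _ hx

omit hB in
/-- `A` is strongly closed in every Sylow 2-subgroup containing it. -/
theorem closed_of_le {U : Sylow 2 G} (hU : A ≤ (U : Subgroup G)) :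
    Cfsg.IsStronglyClosed A (U : Subgroup G) := by
  haveI : Fact (Nat.Prime 2) := ⟨Nat.prime_two⟩
  obtain ⟨g, hg⟩ := MulAction.exists_smul_eq G U S
  have hmap : ∀ y, y ∈ (U : Subgroup G) → g * y * g⁻¹ ∈ (S : Subgroup G) := fun y hy => by
    rw [← hg, Sylow.coe_subgroup_smul, mem_smul_pointwise_iff_exists]
    exact ⟨y, hy, rfl⟩
  have hgA : ∀ a ∈ A, g * a * g⁻¹ ∈ A := fun a ha => h.closed.2 a ha g (hmap a (hU ha))
  let φ : ↥A → ↥A := fun a => ⟨g * a * g⁻¹, hgA a a.2⟩
  have hφ : Function.Surjective φ := Finite.injective_iff_surjective.1 fun a b e => by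
    simpa [φ] using e
  refine ⟨hU, fun x hx k hk => ?_⟩
  have h1 : (g * k) * x * (g * k)⁻¹ ∈ (S : Subgroup G) := by
    have := hmap _ hk
    simpa [mul_assoc] using this
  obtain ⟨a, ha⟩ := hφ ⟨_, h.closed.2 x hx _ h1⟩
  have e : g * (a : G) * g⁻¹ = g * k * x * (g * k)⁻¹ := congrArg Subtype.val ha
  have e2 : k * x * k⁻¹ = a := by
    calc k * x * k⁻¹ = g⁻¹ * (g * k * x * (g * k)⁻¹) * g := by group
      _ = g⁻¹ * (g * (a : G) * g⁻¹) * g := by rw [e]
      _ = a := by group
  exact e2 ▸ a.2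

/-- The decomposition of the image of `A` in `CBar B`. -/
theorem decomp (hX : PropLocal.{u}) (hB1 : B ≠ ⊥) : Decomp (imageBar B A) := by
  haveI : Fact (Nat.Prime 2) := ⟨Nat.prime_two⟩
  set C := centralizer (B : Set G)
  have hAC : A ≤ C := le_centralizer h hB
  obtain ⟨T, hT⟩ := ((PGroups.elemAb_isPGroup h.elem).of_equiv
    (subgroupOfEquivOfLe hAC).symm : IsPGroup 2 ↥(A.subgroupOf C)).exists_le_sylow
  obtain ⟨U, hU⟩ := (T.2.map C.subtype).exists_le_sylow
  have hAU : A ≤ (U : Subgroup G) := fun a ha =>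
    hU ⟨⟨a, hAC ha⟩, hT (mem_subgroupOf.2 ha), rfl⟩
  have hclU := closed_of_le h hAU
  have hclT : Cfsg.IsStronglyClosed (A.subgroupOf C) (T : Subgroup C) := ⟨hT, fun x hx k hk =>
    mem_subgroupOf.2 (hclU.2 x (mem_subgroupOf.1 hx) k (hU (mem_map_of_mem C.subtype hk)))⟩
  have hcard : Nat.card (CBar B) < Nat.card G := by
    refine lt_of_le_of_lt (Nat.card_le_card_of_surjective _ (proj_surjective B)) ?_
    refine lt_of_le_of_ne (card_le_card_group C) fun e => centralizer_ne_top h hB1 ?_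
    exact eq_top_of_card_eq C e
  refine hX (CBar B) (Nat.card G) (Walter.barCore B) hcard h.below
    (T.mapSurjective (proj_surjective B)) _ (PGroups.elemAb_map _ (PGroups.elemAb_subgroupOf h.elem C))
    ?_
  rw [Sylow.coe_mapSurjective]
  exact Cfsg.Agent.S1250.result T _ hclT _

end Cfsg.Agent.Lib.Goldschmidt53.Pairs
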