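import Cfsg.Agent.Lib.Goldschmidt53.RankTwoBadBW
import Cfsg.Agent.Lib.Goldschmidt53.RankTwoBadDefs
import Cfsg.Agent.Lib.Goldschmidt53.Base
import Cfsg.Agent.Lib.Goldschmidt53.PairsBar
import Cfsg.Agent.Lib.Walter.PairsX

/-!
# Rank two, bad involutions: the setting

Owner: helper41.  `|A| = 4` and `A` is central in `S`: the action of `N(A)` on `A` has order three,
`C(a) = O(C(a)) C(A)` for `a ∈ A`, and the classes `D` of `A` meets every 2-subgroup through `A`
in `A`.  `e a H` is the index of `C(A)` in `C(a) ∩ H`.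
-/

set_option autoImplicit false
set_option linter.style.haveILetI false
set_option linter.unusedSectionVars false

universe u

namespace Cfsg.Agent.Lib.Goldschmidt53.RankTwoBad

open Subgroup
open scoped Pointwise
open Cfsg.Agent.Lib.Walter (CBar imageBar mem_imageBar coreC proj proj_surjective proj_eq_one_iff
  barCore core)

variable {G : Type u} [Group G]

/-- The hypotheses of section R, an involution outside `A` aside. -/
structure Setting [Finite G] (S : Sylow 2 G) (A : Subgroup G) : Prop where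
  hyp : Hyp S A
  card : Nat.card ↥A = 4
  central : ∀ s ∈ (S : Subgroup G), ∀ a ∈ A, s * a = a * s
  derived : A.subgroupOf (S : Subgroup G) ≤ commutator ↥(S : Subgroup G)
  local_ : PropLocal.{u}
  facts : PropFacts.{u}

/-- The conjugates of the involutions of `A`. -/
def IsD (A : Subgroup G) (x : G) : Prop := ∃ g : G, ∃ a ∈ A, a ≠ 1 ∧ g * a * g⁻¹ = x

/-- The conjugates of the involutions of `A` in a subgroup. -/
def dset (A : Subgroup G) (H : Subgroup G) : Set G := {x | IsD A x ∧ x ∈ H}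

/-- The index of `C(A)` in `C(a) ∩ H`. -/
noncomputable def e (A : Subgroup G) (a : G) (H : Subgroup G) : ℕ :=
  (centralizer (A : Set G)).relIndex (centralizer ({a} : Set G) ⊓ H)

/-- `C(a) ∩ H` is the product of its parts in `O(C(a))` and in `C(A)`. -/
def IsProd (A : Subgroup G) (a : G) (H : Subgroup G) : Prop :=
  ∀ g ∈ centralizer ({a} : Set G) ⊓ H,
    ∃ o ∈ core a ⊓ H, ∃ c ∈ centralizer (A : Set G) ⊓ H, o * c = g

variable [Finite G] {S : Sylow 2 G} {A : Subgroup G}

namespace Setting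

variable (h : Setting S A)
include h

theorem sq {a : G} (ha : a ∈ A) : a * a = 1 := by
  rw [← pow_two]; exact h.hyp.elem.2 a ha

theorem inv_eq {a : G} (ha : a ∈ A) : a⁻¹ = a := inv_eq_of_mul_eq_one_right (h.sq ha)

theorem orderOf_eq {a : G} (ha : a ∈ A) (ha1 : a ≠ 1) : orderOf a = 2 := by
  haveI : Fact (Nat.Prime 2) := ⟨Nat.prime_two⟩
  exact orderOf_eq_prime (h.hyp.elem.2 a ha) ha1

theorem comm {a b : G} (ha : a ∈ A) (hb : b ∈ A) : a * b = b * a := h.hyp.commute ha hb

theorem sylow_le : (S : Subgroup G) ≤ centralizer (A : Set G) := fun s hs =>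
  mem_centralizer_iff.2 fun a ha => (h.central s hs a ha).symm

theorem le_centralizer : A ≤ centralizer (A : Set G) := h.hyp.closed.1.trans h.sylow_le

theorem mem_centralizer_of_commute {g a : G} (hg : g ∈ centralizer (A : Set G)) (ha : a ∈ A) :
    g * a = a * g := (mem_centralizer_iff.1 hg a ha).symm

theorem centralizer_le {a : G} (ha : a ∈ A) :
    centralizer (A : Set G) ≤ centralizer ({a} : Set G) := fun _ hg =>
  mem_centralizer_singleton_iff.2 (h.mem_centralizer_of_commute hg ha)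

theorem exists_ne {a : G} : ∃ b ∈ A, b ≠ 1 ∧ b ≠ a := by
  by_contra hcon
  push Not at hcon
  have hsub : (A : Set G) ⊆ {1, a} := fun b hb => by
    by_cases h1 : b = 1
    · exact Or.inl h1
    · exact Or.inr (hcon b hb h1)
  have h1 := Set.ncard_le_ncard hsub
  rw [← Nat.card_coe_set_eq] at h1
  have h2 : ({1, a} : Set G).ncard ≤ 2 := (Set.ncard_insert_le _ _).trans (by simp)
  have h3 : Nat.card ↥(A : Set G) = 4 := h.card
  omega

/-- `A = {1, a, b, ab}`. -/
theorem cases {a b : G} (ha : a ∈ A) (ha1 : a ≠ 1) (hb : b ∈ A) (hb1 : b ≠ 1) (hab : a ≠ b)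
    {x : G} (hx : x ∈ A) : x = 1 ∨ x = a ∨ x = b ∨ x = a * b := by
  by_contra hcon
  push Not at hcon
  have hsub : ({x, 1, a, b, a * b} : Set G) ⊆ A := by
    rintro y (rfl | rfl | rfl | rfl | rfl)
    exacts [hx, one_mem _, ha, hb, mul_mem ha hb]
  have h1 := Set.ncard_le_ncard hsub
  rw [← Nat.card_coe_set_eq (A : Set G)] at h1
  have h3 : Nat.card ↥(A : Set G) = 4 := h.card
  have hc : a * b ≠ 1 := fun e => hab (by
    rw [eq_inv_of_mul_eq_one_left e, h.inv_eq hb])
  have hca : a * b ≠ a := fun e => hb1 (mul_eq_left.1 e)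
  have hcb : a * b ≠ b := fun e => ha1 (mul_eq_right.1 e)
  rw [Set.ncard_insert_of_notMem (by simp [hcon.1, hcon.2.1, hcon.2.2.1, hcon.2.2.2]),
    Set.ncard_insert_of_notMem (by simp [Ne.symm ha1, Ne.symm hb1, Ne.symm hc]),
    Set.ncard_insert_of_notMem (by simp [hab, Ne.symm hca]),
    Set.ncard_insert_of_notMem (by simp [Ne.symm hcb]), Set.ncard_singleton] at h1
  omega

/-! ### The action of `N(A)` -/

theorem conj_mem {n a : G} (hn : n ∈ normalizer (A : Set G)) (ha : a ∈ A) : n * a * n⁻¹ ∈ A :=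
  (Subgroup.mem_normalizer_iff.1 hn a).1 ha

/-- An element of `N(A)` fixing an involution of `A` centralises `A`. -/
theorem mem_centralizer_of_fixed {n : G} (hn : n ∈ normalizer (A : Set G)) {a : G} (ha : a ∈ A)
    (ha1 : a ≠ 1) (hfix : n * a * n⁻¹ = a) : n ∈ centralizer (A : Set G) := by
  classical
  haveI : Fintype ↥A := Fintype.ofFinite _
  let toP : MulAut ↥A →* Equiv.Perm ↥A :=
    { toFun := fun f => f.toEquiv, map_one' := rfl, map_mul' := fun _ _ => rfl }
  let act : ↥(normalizer (A : Set G)) →* MulAut ↥A := A.normalizerMonoidHom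
  let sgn : ℤˣ →* Multiplicative (ZMod 2) :=
    { toFun := fun v => if v = 1 then 1 else Multiplicative.ofAdd 1, map_one' := rfl,
      map_mul' := by decide }
  have hf := h.hyp.noIndexTwo ((sgn.comp Equiv.Perm.sign).comp (toP.comp act)) fun c hc => by
    have : act c = 1 := MulEquiv.ext fun x => Subtype.ext (by
      show (c : G) * x * (c : G)⁻¹ = x
      rw [← mem_centralizer_iff.1 hc x x.2, mul_inv_cancel_right])
    simp [this]
  obtain ⟨b, hb, hb1, hba⟩ := h.exists_ne (a := a)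
  have hnb := h.conj_mem hn hb
  have hne1 : n * b * n⁻¹ ≠ 1 := fun e => hb1 (conj_eq_one_iff.1 e)
  have hnea : n * b * n⁻¹ ≠ a := fun e => hba (by
    rw [← hfix] at e; exact mul_left_cancel (mul_right_cancel e))
  suffices hfb : n * b * n⁻¹ = b by
    refine mem_centralizer_iff.2 fun x hx => ?_
    rcases h.cases ha ha1 hb hb1 (Ne.symm hba) hx with rfl | rfl | rfl | rfl
    · rw [one_mul, mul_one]
    · exact (mul_inv_eq_iff_eq_mul.1 hfix).symm
    · exact (mul_inv_eq_iff_eq_mul.1 hfb).symm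
    · have e1 := mul_inv_eq_iff_eq_mul.1 hfix
      have e2 := mul_inv_eq_iff_eq_mul.1 hfb
      rw [mul_assoc, ← e2, ← mul_assoc, ← e1, mul_assoc]
  rcases h.cases ha ha1 hb hb1 (Ne.symm hba) hnb with e | e | e | e
  · exact absurd e hne1
  · exact absurd e hnea
  · exact e
  exfalso
  have hn2 : n * (a * b) * n⁻¹ = b := by
    calc n * (a * b) * n⁻¹ = (n * a * n⁻¹) * (n * b * n⁻¹) := by group
      _ = a * (a * b) := by rw [hfix, e]
      _ = b := by rw [← mul_assoc, h.sq ha, one_mul]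
  set σ := toP (act ⟨n, hn⟩)
  have hσ : ∀ x : ↥A, ((σ x : ↥A) : G) = n * x * n⁻¹ := fun x => rfl
  have hswap : σ = Equiv.swap (⟨b, hb⟩ : ↥A) ⟨a * b, mul_mem ha hb⟩ := by
    ext x
    rw [hσ, Equiv.swap_apply_def]
    have hcb : a * b ≠ b := fun e' => ha1 (mul_eq_right.1 e')
    rcases h.cases ha ha1 hb hb1 (Ne.symm hba) x.2 with ex | ex | ex | ex
    · rw [if_neg, if_neg]
      · rw [ex, mul_one, mul_inv_cancel]
      · intro e'
        have := congrArg Subtype.val e'
        simp only [ex] at this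
        exact hba (by rw [eq_inv_of_mul_eq_one_right this.symm, h.inv_eq ha])
      · intro e'
        exact hb1 ((congrArg Subtype.val e').symm.trans ex)
    · rw [if_neg, if_neg]
      · rw [ex, hfix]
      · intro e'
        have := congrArg Subtype.val e'
        simp only [ex] at this
        exact hb1 (mul_eq_left.1 this.symm)
      · intro e'
        exact hba ((congrArg Subtype.val e').symm.trans ex)
    · rw [if_pos (Subtype.ext ex), ex, e]
    · rw [if_neg, if_pos (Subtype.ext ex)]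
      · rw [ex, hn2]
      · intro e'
        exact hcb (ex.symm.trans (congrArg Subtype.val e'))
  have h1 : sgn (Equiv.Perm.sign σ) = 1 := DFunLike.congr_fun hf ⟨n, hn⟩
  rw [hswap, Equiv.Perm.sign_swap (fun e' => ha1 (mul_eq_right.1 (congrArg Subtype.val e').symm))]
    at h1
  exact absurd h1 (by decide)

/-- `N(A)` is transitive on the involutions of `A`. -/
theorem trans {a b : G} (ha : a ∈ A) (ha1 : a ≠ 1) (hb : b ∈ A) (hb1 : b ≠ 1) :
    ∃ n ∈ normalizer (A : Set G), n * a * n⁻¹ = b := by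
  by_cases hab : a = b
  · exact ⟨1, one_mem _, by rw [hab]; group⟩
  -- some element moves `a`
  obtain ⟨n, hn, hmv⟩ : ∃ n ∈ normalizer (A : Set G), n * a * n⁻¹ ≠ a := by
    by_contra hcon
    push Not at hcon
    rcases h.hyp.irreducible (zpowers a) (zpowers_le.2 ha) fun n hn x hx => by
        obtain ⟨i, rfl⟩ := mem_zpowers_iff.1 hx
        rw [← conj_zpow, hcon n hn]
        exact zpow_mem (mem_zpowers a) i with e | e
    · exact ha1 (zpowers_eq_bot.1 e)
    · have := h.card
      rw [← e, Nat.card_zpowers, h.orderOf_eq ha ha1] at this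
      omega
  set a' := n * a * n⁻¹ with ha'
  have ha'A := h.conj_mem hn ha
  have ha'1 : a' ≠ 1 := fun e => ha1 (conj_eq_one_iff.1 e)
  rcases h.cases ha ha1 ha'A ha'1 (Ne.symm hmv) hb with e | e | e | e
  · exact absurd e hb1
  · exact absurd e.symm hab
  · exact ⟨n, hn, e.symm⟩
  · refine ⟨n * n, mul_mem hn hn, ?_⟩
    rw [e, show n * n * a * (n * n)⁻¹ = n * a' * n⁻¹ by rw [ha']; group]
    rcases h.cases ha ha1 ha'A ha'1 (Ne.symm hmv) (h.conj_mem hn ha'A) with e' | e' | e' | e'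
    · exact absurd (conj_eq_one_iff.1 e') ha'1
    · exfalso
      have h2 : n * (a * a') * n⁻¹ = a * a' := by
        calc n * (a * a') * n⁻¹ = (n * a * n⁻¹) * (n * a' * n⁻¹) := by group
          _ = a' * a := by rw [e', ← ha']
          _ = a * a' := h.comm ha'A ha
      exact hmv ((mul_inv_eq_iff_eq_mul.2 (h.mem_centralizer_of_commute
        (h.mem_centralizer_of_fixed hn (mul_mem ha ha'A)
          (fun e2 => hmv ((eq_inv_of_mul_eq_one_right e2).trans (h.inv_eq ha))) h2) ha)))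
    · exfalso
      exact hmv (mul_left_cancel (mul_right_cancel (e' : n * a' * n⁻¹ = n * a * n⁻¹)))
    · exact e'

/-! ### Conjugates of the involutions of `A` -/

omit h in
theorem isD_conj {x : G} (hx : IsD A x) (g : G) : IsD A (g * x * g⁻¹) := by
  obtain ⟨k, a, ha, ha1, rfl⟩ := hx
  exact ⟨g * k, a, ha, ha1, by group⟩

omit h in
theorem isD_of_mem {a : G} (ha : a ∈ A) (ha1 : a ≠ 1) : IsD A a := ⟨1, a, ha, ha1, by group⟩

theorem isD_orderOf {x : G} (hx : IsD A x) : orderOf x = 2 := by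
  obtain ⟨k, a, ha, ha1, rfl⟩ := hx
  rw [← h.orderOf_eq ha ha1]
  exact MulEquiv.orderOf_eq (MulAut.conj k) a

/-- All members are conjugate to any one involution of `A`. -/
theorem isD_exists {x a : G} (hx : IsD A x) (ha : a ∈ A) (ha1 : a ≠ 1) :
    ∃ g : G, g * a * g⁻¹ = x := by
  obtain ⟨k, b, hb, hb1, rfl⟩ := hx
  obtain ⟨n, -, rfl⟩ := h.trans ha ha1 hb hb1
  exact ⟨k * n, by group⟩

theorem mem_of_isD_sylow {x : G} (hx : IsD A x) (hxS : x ∈ (S : Subgroup G)) : x ∈ A := by
  obtain ⟨k, a, ha, -, rfl⟩ := hx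
  exact h.hyp.closed.2 a ha k hxS

/-- A member commutes with the 2-subgroups containing it. -/
theorem isD_commute {x : G} (hx : IsD A x) {P : Subgroup G} (hP : IsPGroup 2 ↥P) (hxP : x ∈ P)
    {y : G} (hy : y ∈ P) : x * y = y * x := by
  haveI : Fact (Nat.Prime 2) := ⟨Nat.prime_two⟩
  obtain ⟨T, hT⟩ := hP.exists_le_sylow
  obtain ⟨g, hg⟩ := MulAction.exists_smul_eq G T S
  have hmem : ∀ z ∈ P, g * z * g⁻¹ ∈ (S : Subgroup G) := fun z hz => ZStar.Elements.smul_mem hg (hT hz)
  have h1 := h.central _ (hmem y hy) _ (h.mem_of_isD_sylow (isD_conj hx g) (hmem x hxP))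
  have h2 : g * (y * x) * g⁻¹ = g * (x * y) * g⁻¹ := by
    calc g * (y * x) * g⁻¹ = g * y * g⁻¹ * (g * x * g⁻¹) := by group
      _ = g * x * g⁻¹ * (g * y * g⁻¹) := h1
      _ = _ := by group
  exact (mul_left_cancel (mul_right_cancel h2)).symm

/-- A member centralising `A` lies in `A`. -/
theorem mem_of_isD_centralizer {x : G} (hx : IsD A x) (hxA : x ∈ centralizer (A : Set G)) :
    x ∈ A := by
  haveI : Fact (Nat.Prime 2) := ⟨Nat.prime_two⟩
  have hAN : A ≤ normalizer ((zpowers x : Subgroup G) : Set G) := fun a ha => by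
    refine Subgroup.mem_normalizer_iff.2 fun y => ?_
    have hc : ∀ i : ℤ, a * x ^ i * a⁻¹ = x ^ i := fun i => by
      rw [← ((show Commute x a from h.mem_centralizer_of_commute hxA ha).zpow_left i).eq,
        mul_inv_cancel_right]
    constructor
    · rintro ⟨i, rfl⟩; exact ⟨i, (hc i).symm⟩
    · rintro ⟨i, hi⟩
      exact ⟨i, mul_left_cancel (mul_right_cancel ((hc i).trans hi))⟩
  have hP : IsPGroup 2 ↥(A ⊔ zpowers x) :=
    (PGroups.elemAb_isPGroup h.hyp.elem).to_sup_of_normal_right'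
      (IsPGroup.of_card (n := 1) (by rw [Nat.card_zpowers, h.isD_orderOf hx, pow_one])) hAN
  obtain ⟨T, hT⟩ := hP.exists_le_sylow
  obtain ⟨k, a, ha, -, rfl⟩ := hx
  exact (Pairs.closed_of_le h.hyp (le_sup_left.trans hT)).2 a ha k
    (hT (mem_sup_right (mem_zpowers _)))

/-! ### Centralisers modulo the core -/

/-- The decomposition in `CBar B` when `A` centralises `B`. -/
theorem decomp {B : Subgroup G} (hB1 : B ≠ ⊥) (hAC : A ≤ centralizer (B : Set G)) :
    Decomp (imageBar B A) := by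
  haveI : Fact (Nat.Prime 2) := ⟨Nat.prime_two⟩
  set C := centralizer (B : Set G)
  obtain ⟨T, hT⟩ := ((PGroups.elemAb_isPGroup h.hyp.elem).of_equiv
    (subgroupOfEquivOfLe hAC).symm : IsPGroup 2 ↥(A.subgroupOf C)).exists_le_sylow
  obtain ⟨U, hU⟩ := (T.2.map C.subtype).exists_le_sylow
  have hAU : A ≤ (U : Subgroup G) := fun a ha =>
    hU ⟨⟨a, hAC ha⟩, hT (mem_subgroupOf.2 ha), rfl⟩
  have hclU := Pairs.closed_of_le h.hyp hAU
  have hclT : Cfsg.IsStronglyClosed (A.subgroupOf C) (T : Subgroup C) := ⟨hT, fun x hx k hk =>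
    mem_subgroupOf.2 (hclU.2 x (mem_subgroupOf.1 hx) k (hU (mem_map_of_mem C.subtype hk)))⟩
  have hcard : Nat.card (CBar B) < Nat.card G := by
    refine lt_of_le_of_lt (Nat.card_le_card_of_surjective _ (proj_surjective B)) ?_
    refine lt_of_le_of_ne (card_le_card_group C) fun he =>
      Pairs.centralizer_ne_top h.hyp hB1 ?_
    exact eq_top_of_card_eq C he
  refine h.local_ (CBar B) (Nat.card G) (barCore B) hcard h.hyp.below
    (T.mapSurjective (proj_surjective B)) _
    (PGroups.elemAb_map _ (PGroups.elemAb_subgroupOf h.hyp.elem C)) ?_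
  rw [Sylow.coe_mapSurjective]
  exact Cfsg.Agent.S1250.result T _ hclT _

omit h in
theorem card_map_le (B : Subgroup G) : Nat.card ↥(imageBar B A) ∣ Nat.card ↥A :=
  Walter.card_imageBar_dvd

/-- A component not centralised by the image contains it. -/
theorem bar_le_component {B : Subgroup G} (hd : Decomp (imageBar B A)) {K : Subgroup (CBar B)}
    (hK : Cfsg.IsComponent K) (hnc : ¬ imageBar B A ≤ centralizer (K : Set (CBar B))) :
    imageBar B A ≤ K ∧
      ∀ x : ↥K, (x : CBar B) ∈ imageBar B A → x ∈ Subgroup.center ↥K → x = 1 := by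
  obtain ⟨hkn, P, hP⟩ := (hd.cases K hK).resolve_left hnc
  have h4 := (h.facts _ hkn).four_le P
  set Ab := imageBar B A
  set q := QuotientGroup.mk' (Subgroup.center ↥K)
  have hc1 : Nat.card ↥(Ab.subgroupOf K) = Nat.card ↥(Ab ⊓ K : Subgroup (CBar B)) := by
    rw [← card_map_of_injective (f := K.subtype) K.subtype_injective, subgroupOf_map_subtype]
  have hc2 : Nat.card ↥(Ab ⊓ K : Subgroup (CBar B)) ≤ Nat.card ↥Ab :=
    Subgroup.card_le_of_le inf_le_left
  have hc3 : Nat.card ↥Ab ≤ 4 := h.card ▸ Nat.le_of_dvd Nat.card_pos Walter.card_imageBar_dvd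
  have hc4 : 4 ≤ Nat.card ↥((Ab.subgroupOf K).map q) := by rw [hP]; exact h4
  refine ⟨?_, fun x hx hxc => ?_⟩
  · have : (Ab ⊓ K : Subgroup (CBar B)) = Ab := Subgroup.eq_of_le_of_card_ge inf_le_left (by
      have := Nat.le_of_dvd Nat.card_pos (Subgroup.card_map_dvd (Ab.subgroupOf K) q)
      omega)
    exact this ▸ inf_le_right
  · have hinj : Set.InjOn q (Ab.subgroupOf K : Set ↥K) := by
      refine Set.injOn_of_ncard_image_eq ?_
      refine le_antisymm (Set.ncard_image_le) ?_
      have := Nat.le_of_dvd Nat.card_pos (Subgroup.card_map_dvd (Ab.subgroupOf K) q)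
      rw [← Subgroup.coe_map, ← Nat.card_coe_set_eq, ← Nat.card_coe_set_eq]
      show Nat.card ↥(Ab.subgroupOf K) ≤ Nat.card ↥((Ab.subgroupOf K).map q)
      omega
    refine hinj (mem_subgroupOf.2 hx) (one_mem _) ?_
    rw [map_one]
    exact (QuotientGroup.eq_one_iff x).2 hxc

/-- `C(a) = O(C(a)) C(A)`. -/
theorem core_mul {a : G} (ha : a ∈ A) (ha1 : a ≠ 1) : IsProd A a ⊤ := by
  haveI : Fact (Nat.Prime 2) := ⟨Nat.prime_two⟩
  set B := zpowers a
  have hB1 : B ≠ ⊥ := fun e => ha1 (zpowers_eq_bot.1 e)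
  have hAC : A ≤ centralizer (B : Set G) := fun x hx => by
    rw [Walter.centralizer_zpowers]
    exact h.centralizer_le ha (h.le_centralizer hx)
  have hd := h.decomp hB1 hAC
  set ab : CBar B := proj B ⟨a, hAC ha⟩
  have habC : ∀ y : CBar B, y * ab = ab * y := fun y => by
    obtain ⟨⟨x, hx⟩, rfl⟩ := proj_surjective B y
    rw [← map_mul, ← map_mul]
    exact congrArg _ (Subtype.ext (mem_centralizer_iff.1 hx a (mem_zpowers a)).symm)
  have hlayer : ∀ c ∈ imageBar B A, c ∈ centralizer (Cfsg.layer (CBar B) : Set (CBar B)) := by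
    intro c hc
    refine Walter.Pairs.mem_centralizer_layer fun K hK => ?_
    by_contra hnc
    have hnc' : ¬ imageBar B A ≤ centralizer (K : Set (CBar B)) := fun hle => hnc (hle hc)
    obtain ⟨hle, hinj⟩ := h.bar_le_component hd hK hnc'
    have habK : ab ∈ K := hle (mem_imageBar _ ha)
    have h1 := hinj ⟨ab, habK⟩ (mem_imageBar _ ha)
      (mem_center_iff.2 fun y => Subtype.ext (habC y))
    have h2 : a ∈ coreC B := (proj_eq_one_iff (hAC ha)).1 (congrArg Subtype.val h1)
    exact ha1 (Walter.eq_one_of_mem_coreC (h.hyp.closed.1 ha) h2)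
  intro g hg
  have hgC : g ∈ centralizer (B : Set G) := by rw [Walter.centralizer_zpowers]; exact hg.1
  obtain ⟨k, hk, hkg⟩ := hd.frattini (proj B ⟨g, hgC⟩)
  have hkN : k ∈ normalizer (imageBar B A : Set (CBar B)) :=
    centralizer_le_normalizer _ (mem_centralizer_iff.2 fun c hc =>
      (mem_centralizer_iff.1 (hlayer c hc) k hk).symm)
  have hgN : proj B ⟨g, hgC⟩ ∈ normalizer (imageBar B A : Set (CBar B)) := by
    have := mul_mem (inv_mem hkN) hkg
    rwa [inv_mul_cancel_left] at this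
  -- the conjugate of `A` lies in `O(C(a)) A`
  have hAN : A ≤ normalizer ((core a : Subgroup G) : Set G) :=
    (h.le_centralizer.trans (h.centralizer_le ha)).trans (Walter.centralizer_le_normalizer_core a)
  have hodd := Walter.odd_core a
  have hcop : (Nat.card ↥A).Coprime (Nat.card ↥(core a)) := by
    rw [h.card]
    exact (Nat.coprime_two_left.2 hodd).pow_left 2
  have hconjA : MulAut.conj g • A ≤ A ⊔ core a := by
    intro x hx
    rw [Coprime.mem_conj_smul] at hx
    have hxC : g⁻¹ * x * g ∈ centralizer (B : Set G) := hAC hx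
    have hxC' : x ∈ centralizer (B : Set G) := by
      have := mul_mem (mul_mem hgC hxC) (inv_mem hgC)
      simpa [mul_assoc] using this
    have h1 : proj B ⟨x, hxC'⟩ ∈ imageBar B A := by
      have h2 := (Subgroup.mem_normalizer_iff.1 hgN _).1 (mem_imageBar hxC hx)
      rw [← map_inv, ← map_mul, ← map_mul] at h2
      have e : (⟨g, hgC⟩ * ⟨g⁻¹ * x * g, hxC⟩ * ⟨g, hgC⟩⁻¹ : ↥(centralizer (B : Set G))) =
          ⟨x, hxC'⟩ := Subtype.ext (by show g * (g⁻¹ * x * g) * g⁻¹ = x; group)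
      rwa [e] at h2
    obtain ⟨y, hyC, hyA, hy⟩ : ∃ y, ∃ hy : y ∈ centralizer (B : Set G), y ∈ A ∧
        proj B ⟨y, hy⟩ = proj B ⟨x, hxC'⟩ := by
      obtain ⟨⟨y, hy⟩, hyA, e⟩ := h1
      exact ⟨y, hy, mem_subgroupOf.1 hyA, e⟩
    have h3 : proj B (⟨y, hyC⟩⁻¹ * ⟨x, hxC'⟩) = 1 := by rw [map_mul, map_inv, hy, inv_mul_cancel]
    have h4 := (proj_eq_one_iff _).1 h3
    rw [Walter.coreC_zpowers] at h4
    have := mul_mem (mem_sup_left (T := core a) hyA) (mem_sup_right (S := A) h4)
    simpa using this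
  obtain ⟨o, ho, hco⟩ := Coprime.exists_conj_eq_of_coprime hAN hcop
    (Or.inr (OddOrder.FeitThompson.isSolvable_of_odd_card hodd)) hconjA (Coprime.card_conj_smul _ _)
  have hnN : o⁻¹ * g ∈ normalizer (A : Set G) := Coprime.mem_normalizer_of_conj_smul_eq (by
    rw [Coprime.conj_smul_mul, ← hco, ← Coprime.conj_smul_mul, inv_mul_cancel, map_one, one_smul])
  have hnC : o⁻¹ * g ∈ centralizer ({a} : Set G) := mul_mem (inv_mem (Walter.core_le a ho)) hg.1
  refine ⟨o, ⟨ho, mem_top _⟩, o⁻¹ * g, ⟨h.mem_centralizer_of_fixed hnN ha ha1 ?_, mem_top _⟩,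
    mul_inv_cancel_left o g⟩
  rw [mem_centralizer_singleton_iff.1 hnC, mul_inv_cancel_right]

/-- Products pass to the centralisers of commuting involutions. -/
theorem isProd_inf {a : G} (ha : a ∈ A) {H : Subgroup G} (hH : IsProd A a H) {x : G}
    (hx2 : x * x = 1) (hxA : x ∈ centralizer (A : Set G)) (hxH : x ∈ H) :
    IsProd A a (H ⊓ centralizer ({x} : Set G)) := by
  rintro g ⟨hga, hgH, hgx⟩
  obtain ⟨o, ho, c, hc, hg⟩ := hH g ⟨hga, hgH⟩
  have hxN : x ∈ normalizer ((core a : Subgroup G) : Set G) :=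
    Walter.centralizer_le_normalizer_core a (h.centralizer_le ha hxA)
  obtain ⟨o', ho', c', hc', ho'x, hc'x, hg'⟩ := mul_fixed (O := core a ⊓ H)
    (H := centralizer (A : Set G) ⊓ H) ((Walter.odd_core a).of_dvd_nat (card_dvd_of_le inf_le_left))
    hx2 (fun k hk => Subgroup.mem_inf.2 ⟨(Subgroup.mem_normalizer_iff.1 hxN k).1 hk.1,
      mul_mem (mul_mem hxH hk.2) (inv_mem hxH)⟩)
    (fun k hk => mul_mem (mul_mem (show x ∈ centralizer (A : Set G) ⊓ H from ⟨hxA, hxH⟩) hk)
      (inv_mem (show x ∈ centralizer (A : Set G) ⊓ H from ⟨hxA, hxH⟩)))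
    (mem_centralizer_singleton_iff.1 hgx) ho hc hg
  exact ⟨o', ⟨ho'.1, ho'.2, mem_centralizer_singleton_iff.2 ho'x⟩, c',
    ⟨hc'.1, hc'.2, mem_centralizer_singleton_iff.2 hc'x⟩, hg'⟩

end Setting

theorem e_eq_relIndex {a : G} {H : Subgroup G} (hH : IsProd A a H) :
    e A a H = (centralizer (A : Set G)).relIndex (core a ⊓ H) := by
  have hle : core a ⊓ H ≤ centralizer ({a} : Set G) ⊓ H := inf_le_inf_right _ (Walter.core_le a)
  unfold e Subgroup.relIndex Subgroup.index
  refine (Nat.card_eq_of_bijective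
    (Quotient.map' (Subgroup.inclusion hle) fun x y hxy => by
      rw [QuotientGroup.leftRel_apply] at hxy ⊢
      exact hxy) ⟨?_, ?_⟩).symm
  · rintro ⟨x⟩ ⟨y⟩ hxy
    have h1 := Quotient.exact' hxy
    rw [QuotientGroup.leftRel_apply] at h1
    exact Quotient.sound' (by rw [QuotientGroup.leftRel_apply]; exact h1)
  · rintro ⟨⟨g, hg⟩⟩
    obtain ⟨o, ho, c, hc, rfl⟩ := hH g hg
    refine ⟨Quotient.mk'' ⟨o, ho⟩, Quotient.sound' ?_⟩
    rw [QuotientGroup.leftRel_apply, mem_subgroupOf]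
    show o⁻¹ * (o * c) ∈ centralizer (A : Set G)
    rw [inv_mul_cancel_left]
    exact hc.1

theorem e_mul_card {a : G} {H : Subgroup G} (hH : IsProd A a H) :
    e A a H * Nat.card ↥(core a ⊓ H ⊓ centralizer (A : Set G)) = Nat.card ↥(core a ⊓ H) := by
  rw [e_eq_relIndex hH, ← Subgroup.relIndex_bot_left, ← Subgroup.relIndex_bot_left,
    mul_comm, ← Subgroup.inf_relIndex_left (core a ⊓ H) (centralizer (A : Set G))]
  exact Subgroup.relIndex_mul_relIndex _ _ _ bot_le inf_le_left

theorem e_pos (a : G) (H : Subgroup G) : 0 < e A a H :=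
  Nat.pos_of_ne_zero Subgroup.FiniteIndex.index_ne_zero

namespace Setting

variable (h : Setting S A)
include h

/-- The formula of Brauer and Wielandt: `e(H) = e(H ∩ C(x)) e(H ∩ C(xb))`. -/
theorem e_split {a b : G} (ha : a ∈ A) (ha1 : a ≠ 1) (hb : b ∈ A) (hb1 : b ≠ 1) (hab : a ≠ b)
    {H : Subgroup G} (hH : IsProd A a H) {x : G} (hx2 : x * x = 1)
    (hxA : x ∈ centralizer (A : Set G)) (hxH : x ∈ H) (hbH : b ∈ H) :
    e A a H = e A a (H ⊓ centralizer ({x} : Set G)) *
      e A a (H ⊓ centralizer ({x * b} : Set G)) := by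
  have hbA := h.le_centralizer hb
  have hxb : x * b = b * x := h.mem_centralizer_of_commute hxA hb
  have hxb2 : x * b * (x * b) = 1 := by
    calc x * b * (x * b) = x * (b * x) * b := by group
      _ = x * (x * b) * b := by rw [hxb]
      _ = 1 := by rw [← mul_assoc, hx2, one_mul, h.sq hb]
  set O := core a ⊓ H
  have hOodd : Odd (Nat.card ↥O) := (Walter.odd_core a).of_dvd_nat (card_dvd_of_le inf_le_left)
  have hnorm : ∀ y ∈ centralizer (A : Set G), y ∈ H → ∀ k ∈ O, y * k * y⁻¹ ∈ O :=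
    fun y hy hyH k hk => Subgroup.mem_inf.2 ⟨(Subgroup.mem_normalizer_iff.1
      (Walter.centralizer_le_normalizer_core a (h.centralizer_le ha hy)) k).1 hk.1,
      mul_mem (mul_mem hyH hk.2) (inv_mem hyH)⟩
  have hbw := brauer_wielandt O hOodd hx2 (h.sq hb) hxb (hnorm x hxA hxH) (hnorm b hbA hbH)
  have hbfix : O ⊓ centralizer ({b} : Set G) = O ⊓ centralizer (A : Set G) := by
    ext y
    simp only [Subgroup.mem_inf]
    refine ⟨fun ⟨hy, hyb⟩ => ⟨hy, mem_centralizer_iff.2 fun z hz => ?_⟩,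
      fun ⟨hy, hyA⟩ => ⟨hy, h.centralizer_le hb hyA⟩⟩
    have e1 : y * a = a * y := mem_centralizer_singleton_iff.1 (Walter.core_le a hy.1)
    have e2 : y * b = b * y := mem_centralizer_singleton_iff.1 hyb
    rcases h.cases ha ha1 hb hb1 hab hz with rfl | rfl | rfl | rfl
    · rw [one_mul, mul_one]
    · exact e1.symm
    · exact e2.symm
    · rw [← mul_assoc, e1, mul_assoc a y b, e2, mul_assoc]
  have hHx := h.isProd_inf ha hH hx2 hxA hxH
  have hHxb := h.isProd_inf ha hH hxb2 (mul_mem hxA hbA) (mul_mem hxH hbH)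
  have c0 := e_mul_card hH
  have c1 := e_mul_card hHx
  have c2 := e_mul_card hHxb
  have eX : O ⊓ centralizer ({x} : Set G) ⊓ centralizer ({b} : Set G) =
      core a ⊓ (H ⊓ centralizer ({x} : Set G)) ⊓ centralizer (A : Set G) := by
    rw [inf_right_comm, hbfix, inf_right_comm, inf_assoc (core a)]
  have eXb : core a ⊓ (H ⊓ centralizer ({x * b} : Set G)) ⊓ centralizer (A : Set G) =
      core a ⊓ (H ⊓ centralizer ({x} : Set G)) ⊓ centralizer (A : Set G) := by
    ext y
    simp only [Subgroup.mem_inf, mem_centralizer_singleton_iff]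
    constructor
    · rintro ⟨⟨hy, hyH, hyx⟩, hyA⟩
      refine ⟨⟨hy, hyH, ?_⟩, hyA⟩
      have e2 := h.mem_centralizer_of_commute hyA hb
      rw [← mul_assoc, mul_assoc x b y, ← e2, ← mul_assoc x y b] at hyx
      exact mul_right_cancel hyx
    · rintro ⟨⟨hy, hyH, hyx⟩, hyA⟩
      refine ⟨⟨hy, hyH, ?_⟩, hyA⟩
      rw [← mul_assoc, hyx, mul_assoc, h.mem_centralizer_of_commute hyA hb, ← mul_assoc]
  have eY : O ⊓ centralizer ({x} : Set G) = core a ⊓ (H ⊓ centralizer ({x} : Set G)) := inf_assoc ..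
  have eZ : O ⊓ centralizer ({x * b} : Set G) =
      core a ⊓ (H ⊓ centralizer ({x * b} : Set G)) := inf_assoc ..
  rw [eX, eY, eZ, hbfix, ← c0, ← c1, ← c2, eXb] at hbw
  have p1 := Nat.card_pos (α := ↥(core a ⊓ H ⊓ centralizer (A : Set G)))
  have p2 := Nat.card_pos
    (α := ↥(core a ⊓ (H ⊓ centralizer ({x} : Set G)) ⊓ centralizer (A : Set G)))
  set n0 := Nat.card ↥(core a ⊓ H ⊓ centralizer (A : Set G))
  set n1 := Nat.card ↥(core a ⊓ (H ⊓ centralizer ({x} : Set G)) ⊓ centralizer (A : Set G))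
  refine Nat.eq_of_mul_eq_mul_right (Nat.mul_pos p1 (pow_pos p2 2)) ?_
  calc e A a H * (n0 * n1 ^ 2) = e A a H * n0 * n1 ^ 2 := by ring
    _ = _ := hbw
    _ = _ := by ring

end Setting

/-- `e` is equivariant. -/
theorem e_conj (n : G) (hn : n ∈ normalizer (A : Set G)) (a : G) (H : Subgroup G) :
    e A (n * a * n⁻¹) (H.map (MulAut.conj n).toMonoidHom) = e A a H := by
  have hC : (centralizer ({a} : Set G)).map (MulAut.conj n).toMonoidHom =
      centralizer ({n * a * n⁻¹} : Set G) := by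
    ext y
    simp only [mem_map_equiv, MulAut.conj_symm_apply, mem_centralizer_singleton_iff]
    constructor <;> intro hy
    · calc y * (n * a * n⁻¹) = n * (n⁻¹ * y * n * a) * n⁻¹ := by group
        _ = n * (a * (n⁻¹ * y * n)) * n⁻¹ := by rw [hy]
        _ = _ := by group
    · calc n⁻¹ * y * n * a = n⁻¹ * (y * (n * a * n⁻¹)) * n := by group
        _ = n⁻¹ * (n * a * n⁻¹ * y) * n := by rw [hy]
        _ = _ := by group
  have hA : (centralizer (A : Set G)).map (MulAut.conj n).toMonoidHom = centralizer (A : Set G) := by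
    ext y
    simp only [mem_map_equiv, MulAut.conj_symm_apply, mem_centralizer_iff, SetLike.mem_coe]
    constructor <;> intro hy z hz
    · have h1 := hy (n⁻¹ * z * n) (by
        simpa using (Subgroup.mem_normalizer_iff.1 (inv_mem hn) z).1 hz)
      calc z * y = n * ((n⁻¹ * z * n) * (n⁻¹ * y * n)) * n⁻¹ := by group
        _ = n * ((n⁻¹ * y * n) * (n⁻¹ * z * n)) * n⁻¹ := by rw [h1]
        _ = _ := by group
    · have h1 := hy _ ((Subgroup.mem_normalizer_iff.1 hn z).1 hz)
      calc z * (n⁻¹ * y * n) = n⁻¹ * (n * z * n⁻¹ * y) * n := by group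
        _ = n⁻¹ * (y * (n * z * n⁻¹)) * n := by rw [h1]
        _ = _ := by group
  unfold e
  rw [← hC, ← Subgroup.map_inf _ _ _ (MulAut.conj n).injective]
  conv_lhs => rw [← hA]
  exact Subgroup.relIndex_map_map_of_injective _ _ (MulAut.conj n).injective

end Cfsg.Agent.Lib.Goldschmidt53.RankTwoBad
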