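import Cfsg.Agent.Lib.Involutions.Basic
import Mathlib.GroupTheory.PGroup

/-!
# Rank two, bad involutions: pairs of involutions

Owner: helper41.  The central involution `half x y` of the dihedral group of two involutions, and
the recovery of a pair from its commuting and odd parts.
-/

set_option autoImplicit false
set_option linter.unusedSectionVars false

namespace Cfsg.Agent.Lib.Goldschmidt53.RankTwoBad

open Cfsg.Agent.Lib.Involutions.Basic

variable {G : Type*} [Group G]

/-- The middle power of the product of two involutions. -/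
noncomputable def half (x y : G) : G := (x * y) ^ (orderOf (x * y) / 2)

theorem half_conj (g x y : G) : g * half x y * g⁻¹ = half (g * x * g⁻¹) (g * y * g⁻¹) := by
  have e : g * x * g⁻¹ * (g * y * g⁻¹) = g * (x * y) * g⁻¹ := by group
  unfold half
  rw [e, Cfsg.Agent.Lib.Involutions.Basic.orderOf_conj_eq, conj_pow]

theorem half_mem {H : Subgroup G} {x y : G} (hx : x ∈ H) (hy : y ∈ H) : half x y ∈ H :=
  pow_mem (mul_mem hx hy) _

theorem isConj_map {H : Type*} [Group H] {f : G →* H} {x y : G} (h : IsConj x y) :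
    IsConj (f x) (f y) := by
  obtain ⟨c, hc⟩ := isConj_iff.1 h
  exact isConj_iff.2 ⟨f c, by rw [← hc, map_mul, map_mul, map_inv]⟩

variable [Finite G] {x y : G} (hx : orderOf x = 2) (hy : orderOf y = 2)
include hx hy

theorem half_spec (heven : Even (orderOf (x * y))) :
    orderOf (half x y) = 2 ∧ Commute (half x y) x ∧ Commute (half x y) y :=
  central_invol hx hy heven

/-- If the order of `xy` is twice odd, `x` is conjugate to `half x y * y` in `⟨x, y⟩`. -/
theorem conj_half_mul (h : orderOf (x * y) % 4 = 2) :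
    orderOf (half x y * y) = 2 ∧ Odd (orderOf (x * (half x y * y))) ∧
      ∃ d ∈ Subgroup.closure ({x, y} : Set G), d * x * d⁻¹ = half x y * y := by
  obtain ⟨j, hj, hjo⟩ : ∃ j, orderOf (x * y) = 2 * j ∧ Odd j :=
    ⟨orderOf (x * y) / 2, by omega, Nat.odd_iff.2 (by omega)⟩
  have heven : Even (orderOf (x * y)) := ⟨j, by omega⟩
  obtain ⟨hz, hzx, hzy⟩ := half_spec hx hy heven
  have hzy2 : half x y * y * (half x y * y) = 1 := by
    rw [hzy.symm.mul_mul_mul_comm, invol_mul_self hz, invol_mul_self hy, one_mul]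
  have hne : half x y * y ≠ 1 := fun e => by
    have e1 : half x y = y := by rw [eq_inv_of_mul_eq_one_left e, invol_inv hy]
    have hmem : half x y ∈ Subgroup.zpowers (x * y) := pow_mem (Subgroup.mem_zpowers _) _
    rw [e1] at hmem
    have h2 := left_notMem_zpowers hy hx
    refine h2 ?_
    have e3 : y * x = (x * y)⁻¹ := by rw [mul_inv_rev, invol_inv hx, invol_inv hy]
    rw [e3, Subgroup.zpowers_inv]
    exact hmem
  have hodd : Odd (orderOf (x * (half x y * y))) := by
    have e : x * (half x y * y) = (x * y) ^ (j + 1) := by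
      rw [← mul_assoc, ← hzx.eq, mul_assoc, show half x y = (x * y) ^ j by
        rw [half, hj, Nat.mul_div_cancel_left _ two_pos], ← pow_succ]
    rw [e]
    refine hjo.of_dvd_nat (orderOf_dvd_of_pow_eq_one ?_)
    obtain ⟨r, hr⟩ := (Odd.add_odd hjo odd_one).two_dvd
    rw [← pow_mul, show (j + 1) * j = orderOf (x * y) * r by rw [hr, hj]; ring, pow_mul,
      pow_orderOf_eq_one, one_pow]
  refine ⟨invol_iff.2 ⟨hzy2, hne⟩, hodd, ?_⟩
  obtain ⟨d, hd, e⟩ := exists_conj_of_odd (invol_mul_self hx) hzy2 hodd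
  refine ⟨d, (Subgroup.closure_le _).2 ?_ hd, e⟩
  rintro w (rfl | rfl)
  · exact Subgroup.subset_closure (Or.inl rfl)
  · exact mul_mem (half_mem (Subgroup.subset_closure (Or.inl rfl))
      (Subgroup.subset_closure (Or.inr rfl))) (Subgroup.subset_closure (Or.inr rfl))

/-- If four divides the order of `xy`, a conjugate of `x` and `y` generate a nonabelian 2-group
centralising `half x y`. -/
theorem exists_two_group (h : 4 ∣ orderOf (x * y)) :
    ∃ P : Subgroup G, IsPGroup 2 ↥P ∧ P ≤ Subgroup.centralizer ({half x y} : Set G) ∧ y ∈ P ∧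
      ∃ w ∈ P, IsConj x w ∧ w * y ≠ y * w := by
  set m := x * y with hm
  obtain ⟨i, o, ho, hk⟩ := Nat.exists_eq_two_pow_mul_odd (orderOf_pos m).ne'
  have heven : Even (orderOf m) := even_iff_two_dvd.2 ((dvd_trans (by norm_num) h))
  obtain ⟨hz, hzx, hzy⟩ := half_spec hx hy heven
  have hxx := invol_mul_self hx
  have hyy := invol_mul_self hy
  set w := m ^ o * y with hw
  obtain ⟨l, hl⟩ := ho
  have hwx : w = x * m ^ (2 * (-(l : ℤ))) := by
    have e1 : m ^ o = m ^ (2 * (l : ℤ)) * m := by
      rw [← zpow_natCast, ← zpow_add_one, hl]; push_cast; ring_nf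
    rw [hw, e1, hm, mul_assoc, mul_assoc x y y, hyy, mul_one,
      invert_comm hxx (invert_mul hxx hyy), neg_mul_eq_mul_neg]
  obtain ⟨d, -, hd⟩ := (exists_conj_mem_iff hxx hyy).2 ⟨-(l : ℤ), hwx⟩
  have hwo : orderOf w = 2 := by rw [← hd, Cfsg.Agent.Lib.Involutions.Basic.orderOf_conj_eq, hx]
  have hwy : w * y = m ^ o := by rw [hw, mul_assoc, hyy, mul_one]
  have hord : orderOf (w * y) = 2 ^ i := by
    rw [hwy, orderOf_pow_of_dvd (by omega) ⟨2 ^ i, by rw [hk, mul_comm]⟩, hk,
      Nat.mul_div_cancel _ (by omega)]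
  refine ⟨Subgroup.closure {w, y}, IsPGroup.of_card (n := i + 1) ?_, ?_,
    Subgroup.subset_closure (Or.inr rfl), w, Subgroup.subset_closure (Or.inl rfl),
    isConj_iff.2 ⟨d, hd⟩, fun e => ?_⟩
  · rw [card_closure_pair hwo hy, hord, pow_succ, mul_comm]
  · refine (Subgroup.closure_le _).2 ?_
    have hcw : Commute (half x y) w := by
      rw [hw]
      exact (((Commute.refl m).pow_left _).pow_right _).mul_right hzy
    rintro v (rfl | rfl)
    · exact Subgroup.mem_centralizer_singleton_iff.2 hcw.symm.eq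
    · exact Subgroup.mem_centralizer_singleton_iff.2 hzy.symm.eq
  · have h1 : (w * y) ^ 2 = 1 := by
      rw [pow_two, mul_assoc, ← mul_assoc y w y, ← e, mul_assoc w y y, hyy, mul_one,
        invol_mul_self hwo]
    have h2 : (2 : ℕ) ^ i ∣ 2 ^ 1 := by rw [← hord, pow_one]; exact orderOf_dvd_of_pow_eq_one h1
    have h3 : i ≤ 1 := (Nat.pow_dvd_pow_iff_le_right (by norm_num)).1 h2
    have h4 : 2 ^ 2 ∣ 2 ^ i * o := by rw [← hk]; exact h
    have h5 := ((Nat.coprime_two_left.2 (⟨l, hl⟩ : Odd o)).pow_left 2).dvd_of_dvd_mul_right h4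
    have h6 : (2 : ℕ) ≤ i := (Nat.pow_dvd_pow_iff_le_right (by norm_num)).1 h5
    omega

omit hx hy in
/-- The pair is recovered from its commuting and odd parts. -/
theorem half_of_parts {v u d : G} (hd : orderOf d = 2) (hdu : orderOf (d * u) = 2)
    (hcd : d * u = u * d) (hv : Commute v (d * u)) (hodd : Odd (orderOf (v * d))) :
    orderOf (v * u) % 4 = 2 ∧ half v u = d * u := by
  have e : v * u = v * d * (d * u) := by
    rw [mul_assoc, ← mul_assoc d d u, invol_mul_self hd, one_mul]
  have hc : Commute (v * d) (d * u) := hv.mul_left (show d * (d * u) = d * u * d by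
    rw [mul_assoc d u d, hcd])
  have ho : orderOf (v * u) = orderOf (v * d) * 2 := by
    rw [e, hc.orderOf_mul_eq_mul_orderOf_of_coprime
      (by rw [hdu]; exact Nat.coprime_two_right.2 hodd), hdu]
  obtain ⟨l, hl⟩ := hodd
  refine ⟨by rw [ho, hl]; omega, ?_⟩
  rw [half, ho, Nat.mul_div_cancel _ two_pos, e, hc.mul_pow, pow_orderOf_eq_one, one_mul, hl,
    pow_succ, pow_mul, ← hdu, pow_orderOf_eq_one, one_pow, one_mul]

end Cfsg.Agent.Lib.Goldschmidt53.RankTwoBad
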