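import Cfsg.Agent.Lib.Goldschmidt53.RankTwoBadDefs
import Cfsg.Agent.Lib.PGroups.MaximalClass
import Cfsg.Agent.Lib.PGroups.Frattini
import Cfsg.Agent.S0111

/-!
# Rank two, case (a): the end

If every involution `v` of `S` outside `A` has centraliser `A × ⟨v⟩` in `S`, some maximal subgroup of
`S` contains none of them and Thompson transfer contradicts simplicity.  So one bad involution of
each class forces a good one.

Owner: helper72 (case (a) of `notes/goldschmidt_helper72.md`, section 5, (a2)).
-/

set_option autoImplicit false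
set_option linter.style.haveILetI false
set_option linter.unusedSectionVars false

universe u

namespace Cfsg.Agent.Lib.Goldschmidt53.RankTwoBadEnd

open Subgroup
open scoped commutatorElement

section Abstract

variable {X : Type u} [Group X] [Finite X] {A : Subgroup X}

theorem exists_three (h4 : Nat.card ↥A = 4) (b : X) :
    ∃ c ∈ A, c ≠ 1 ∧ c ≠ b := by
  by_contra hcon
  push Not at hcon
  have hsub : (A : Set X) ⊆ {1, b} := fun c hc => by
    by_cases h1 : c = 1
    · exact Or.inl h1
    · exact Or.inr (hcon c hc h1)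
  have h1 := Set.ncard_le_ncard hsub
  rw [← Nat.card_coe_set_eq] at h1
  have h2 : ({1, b} : Set X).ncard ≤ 2 := (Set.ncard_insert_le _ _).trans (by simp)
  have h3 : Nat.card ↥(A : Set X) = 4 := h4
  omega

theorem mem_cases (h4 : Nat.card ↥A = 4) (he : ∀ a ∈ A, a * a = 1) {a b : X} (ha : a ∈ A)
    (ha1 : a ≠ 1) (hb : b ∈ A) (hb1 : b ≠ 1) (hab : b ≠ a) {x : X} (hx : x ∈ A) :
    x = 1 ∨ x = a ∨ x = b ∨ x = a * b := by
  by_contra hcon
  push Not at hcon
  have hsub : ({x, 1, a, b, a * b} : Set X) ⊆ A := by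
    rintro y (rfl | rfl | rfl | rfl | rfl)
    exacts [hx, one_mem _, ha, hb, mul_mem ha hb]
  have h1 := Set.ncard_le_ncard hsub
  rw [← Nat.card_coe_set_eq (A : Set X)] at h1
  have h3 : Nat.card ↥(A : Set X) = 4 := h4
  have hc : a * b ≠ 1 := fun e => hab ((eq_inv_of_mul_eq_one_right e).trans
    (inv_eq_of_mul_eq_one_right (he a ha)))
  have hca : a * b ≠ a := fun e => hb1 (mul_eq_left.1 e)
  have hcb : a * b ≠ b := fun e => ha1 (mul_eq_right.1 e)
  rw [Set.ncard_insert_of_notMem (by simp [hcon.1, hcon.2.1, hcon.2.2.1, hcon.2.2.2]),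
    Set.ncard_insert_of_notMem (by simp [Ne.symm ha1, Ne.symm hb1, Ne.symm hc]),
    Set.ncard_insert_of_notMem (by simp [Ne.symm hab, Ne.symm hca]),
    Set.ncard_insert_of_notMem (by simp [Ne.symm hcb]), Set.ncard_singleton] at h1
  omega

/-- An involution with small centraliser: at most `8 |X'|` elements, with equality only if every
element of `vX'` is conjugate to `v`. -/
theorem class_facts (h4 : Nat.card ↥A = 4) {v : X}
    (hv : ∀ s, s * v = v * s → s ∈ A ∨ s * v ∈ A) :
    Nat.card X ≤ 8 * Nat.card ↥(commutator X) ∧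
      (Nat.card X = 8 * Nat.card ↥(commutator X) →
        ∀ d ∈ commutator X, ∃ s, v⁻¹ * (s * v * s⁻¹) = d) := by
  classical
  set C := centralizer ({v} : Set X) with hC
  have hC8 : Nat.card ↥C ≤ 8 := by
    let f : ↥C → Bool × ↥A := fun s =>
      if hs : (s : X) ∈ A then (true, ⟨s, hs⟩)
      else (false, ⟨s * v, (hv s (mem_centralizer_singleton_iff.1 s.2)).resolve_left hs⟩)
    have hf : Function.Injective f := by
      intro s t hst
      by_cases hs : (s : X) ∈ A <;> by_cases ht : (t : X) ∈ A <;> simp [f, hs, ht] at hst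
      · exact hst
      · exact hst
    refine (Nat.card_le_card_of_injective f hf).trans ?_
    rw [Nat.card_prod, h4, show Nat.card Bool = 2 by simp]
  let g : X → ↥(commutator X) := fun s => ⟨v⁻¹ * (s * v * s⁻¹), by
    have h := Subgroup.commutator_mem_commutator (H₁ := (⊤ : Subgroup X)) (H₂ := ⊤)
      (mem_top v⁻¹) (mem_top s)
    rw [← _root_.commutator_def, commutatorElement_def, inv_inv] at h
    simpa only [mul_assoc] using h⟩
  have hg : ∀ s t, g s = g t ↔ t⁻¹ * s ∈ C := by
    intro s t
    simp only [g, Subtype.mk.injEq, mul_right_inj]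
    rw [hC, mem_centralizer_singleton_iff]
    constructor
    · intro h
      calc t⁻¹ * s * v = t⁻¹ * (s * v * s⁻¹) * s := by group
        _ = t⁻¹ * (t * v * t⁻¹) * s := by rw [h]
        _ = v * (t⁻¹ * s) := by group
    · intro h
      calc s * v * s⁻¹ = t * (t⁻¹ * s * v) * s⁻¹ := by group
        _ = t * (v * (t⁻¹ * s)) * s⁻¹ := by rw [h]
        _ = t * v * t⁻¹ := by group
  let q : X ⧸ C → ↥(commutator X) := Quotient.lift g fun s t hst => by
    have h : s⁻¹ * t ∈ C := QuotientGroup.leftRel_apply.1 hst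
    exact ((hg t s).2 h).symm
  have hq : Function.Injective q := by
    intro a b
    induction a using QuotientGroup.induction_on with
    | _ s =>
      induction b using QuotientGroup.induction_on with
      | _ t => exact fun h => QuotientGroup.eq.2 (by
          have := inv_mem ((hg s t).1 h)
          simpa using this)
  have h1 : C.index ≤ Nat.card ↥(commutator X) := Nat.card_le_card_of_injective q hq
  have h2 := C.card_mul_index
  refine ⟨?_, fun hcard d hd => ?_⟩
  · rw [← h2]
    exact Nat.mul_le_mul hC8 h1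
  · have h3 : Nat.card (X ⧸ C) = Nat.card ↥(commutator X) := by
      refine le_antisymm h1 ?_
      by_contra h
      have h5 : C.index + 1 ≤ Nat.card ↥(commutator X) := Nat.succ_le_of_lt (not_le.1 h)
      have h6 := Nat.mul_le_mul hC8 (le_refl C.index)
      omega
    obtain ⟨a, ha⟩ := ((Nat.bijective_iff_injective_and_card q).2 ⟨hq, h3⟩).2 ⟨d, hd⟩
    induction a using QuotientGroup.induction_on with
    | _ s => exact ⟨s, congrArg Subtype.val ha⟩

variable (hX : IsPGroup 2 X) (h4 : Nat.card ↥A = 4) (he : ∀ a ∈ A, a * a = 1)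
  (hc : ∀ a ∈ A, ∀ x : X, a * x = x * a) (hAD : A ≤ commutator X)
  (hI : ∀ v : X, v * v = 1 → v ∉ A → ∀ s, s * v = v * s → s ∈ A ∨ s * v ∈ A)
include hX h4 he hc hAD hI

/-- A maximal subgroup containing no involution outside `A`. -/
theorem exists_avoiding {v : X} (hv : v * v = 1) (hvA : v ∉ A) :
    ∃ M : Subgroup X, M.index = 2 ∧ ∀ w : X, w * w = 1 → w ∉ A → w ∉ M := by
  classical
  haveI : Fact (Nat.Prime 2) := ⟨Nat.prime_two⟩
  set D := commutator X with hD
  have hD4 : 4 ≤ Nat.card ↥D := h4 ▸ Subgroup.card_le_of_le hAD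
  have hnab : ¬ ∀ a b : X, a * b = b * a := fun hab => by
    have : D = ⊥ := by
      rw [hD, _root_.commutator_def, eq_bot_iff, Subgroup.commutator_le]
      exact fun a _ b _ => mem_bot.2 (commutatorElement_eq_one_iff_commute.2 (hab a b))
    rw [this, Subgroup.card_bot] at hD4
    omega
  have hcase : Nat.card X = 8 * Nat.card ↥D := by
    have hle := (class_facts h4 (hI v hv hvA)).1
    have hmul := D.card_mul_index
    obtain ⟨j, hj⟩ := hX.index D
    obtain ⟨n, hn⟩ := hX.exists_card_eq
    have hidx : D.index ≤ 8 :=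
      Nat.le_of_mul_le_mul_left (by rw [mul_comm _ 8, hmul]; exact hle) Nat.card_pos
    have hj3 : j ≤ 3 := by
      by_contra h
      have : 2 ^ 4 ≤ 2 ^ j := Nat.pow_le_pow_right two_pos (by omega)
      omega
    rw [← hmul, hj]
    interval_cases j
    · exfalso
      haveI : IsCyclic (X ⧸ D) := by
        haveI : Subsingleton (X ⧸ D) := (Nat.card_eq_one_iff_unique.1 (hj.trans (pow_zero 2))).1
        exact isCyclic_of_subsingleton
      haveI := PGroups.isCyclic_of_cyclic_quotient_commutator hX
      exact hnab fun a b => mul_comm' a b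
    · exfalso
      haveI : IsCyclic (X ⧸ D) := isCyclic_of_prime_card (p := 2) (hj.trans (pow_one 2))
      haveI := PGroups.isCyclic_of_cyclic_quotient_commutator hX
      exact hnab fun a b => mul_comm' a b
    · exfalso
      have hn3 : 3 ≤ n := by
        by_contra h
        have : 2 ^ n ≤ 2 ^ 2 := Nat.pow_le_pow_right two_pos (by omega)
        rw [← hn, ← hmul, hj] at this
        omega
      have h2 := PGroups.card_center_eq_two hn3 hn (hj.trans (by norm_num))
      have : 4 ≤ Nat.card (center X) :=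
        h4 ▸ Subgroup.card_le_of_le fun a ha => mem_center_iff.2 fun x => (hc a ha x).symm
      omega
    · ring
  have hinvD : ∀ w : X, w * w = 1 → w ∉ A → ∀ d ∈ D, w * d * w = d⁻¹ := by
    intro w hw hwA d hd
    obtain ⟨s, hs⟩ := (class_facts h4 (hI w hw hwA)).2 hcase d hd
    have h1 : w * d = s * w * s⁻¹ := by rw [← hs, mul_inv_cancel_left]
    refine eq_inv_of_mul_eq_one_left ?_
    calc w * d * w * d = w * d * (w * d) := by group
      _ = s * (w * w) * s⁻¹ := by rw [h1]; group
      _ = 1 := by rw [hw, mul_one, mul_inv_cancel]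
  have hDA : ∀ w ∈ D, w * w = 1 → w ∈ A := by
    intro w hwD hw
    by_contra hwA
    obtain ⟨s, hs⟩ := (class_facts h4 (hI w hw hwA)).2 hcase w⁻¹ (inv_mem hwD)
    exact hwA (conj_eq_one_iff.1 (mul_eq_left.1 hs) ▸ one_mem A)
  have hDc : ∀ d ∈ D, ∀ e ∈ D, d * e = e * d := by
    intro d hd e he'
    have h1 : (d * e)⁻¹ = d⁻¹ * e⁻¹ := by
      rw [← hinvD v hv hvA _ (mul_mem hd he'), ← hinvD v hv hvA d hd, ← hinvD v hv hvA e he']
      calc v * (d * e) * v = v * d * (v * v) * e * v := by rw [hv]; group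
        _ = v * d * v * (v * e * v) := by group
    have := congrArg Inv.inv h1
    simpa [mul_inv_rev] using this
  by_cases hexp : ∃ d ∈ D, d * d ≠ 1
  · -- an element of order four of `X'`
    obtain ⟨y, hyD, hy4, hy2⟩ : ∃ y ∈ D, y * y * (y * y) = 1 ∧ y * y ≠ 1 := by
      obtain ⟨d, hd, hd2⟩ := hexp
      obtain ⟨k, hk⟩ := IsPGroup.iff_orderOf.1 hX d
      obtain ⟨k, rfl⟩ : ∃ l, k = l + 2 := by
        refine ⟨k - 2, ?_⟩
        by_contra h
        have hk1 : k ≤ 1 := by omega
        refine hd2 ?_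
        rw [← pow_two, ← orderOf_dvd_iff_pow_eq_one, hk]
        exact (pow_dvd_pow 2 hk1).trans (by norm_num)
      refine ⟨d ^ 2 ^ k, pow_mem hd _, ?_, ?_⟩
      · rw [← pow_add, ← pow_add, ← pow_orderOf_eq_one d, hk]
        congr 1
        ring
      · rw [← pow_add]
        refine pow_ne_one_of_lt_orderOf (by positivity) ?_
        rw [hk, pow_succ, pow_succ]
        have := Nat.two_pow_pos k
        omega
    have hyA : y * y ∈ A := hDA _ (mul_mem hyD hyD) hy4
    obtain ⟨a', ha', ha'1, ha'y⟩ := exists_three h4 (y * y)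
    let c : X → X := fun s => s * y * s⁻¹ * y⁻¹
    haveI hDn : D.Normal := by rw [hD]; infer_instance
    have hcA : ∀ s, c s ∈ A := by
      intro s
      have hy' : s * y * s⁻¹ ∈ D := hDn.conj_mem y hyD s
      refine hDA _ (mul_mem hy' (inv_mem hyD)) ?_
      calc c s * c s = s * y * s⁻¹ * (y⁻¹ * (s * y * s⁻¹)) * y⁻¹ := by simp only [c]; group
        _ = s * y * s⁻¹ * (s * y * s⁻¹ * y⁻¹) * y⁻¹ := by rw [hDc _ (inv_mem hyD) _ hy']
        _ = s * (y * y) * s⁻¹ * (y * y)⁻¹ := by group
        _ = 1 := by rw [← hc _ hyA s, mul_assoc (y * y), mul_inv_cancel, mul_one, mul_inv_cancel]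
    have hcm : ∀ s t, c (s * t) = c t * c s := by
      intro s t
      calc c (s * t) = s * c t * (y * s⁻¹ * y⁻¹) := by simp only [c]; group
        _ = c t * s * (y * s⁻¹ * y⁻¹) := by rw [hc _ (hcA t) s]
        _ = c t * c s := by simp only [c]; group
    have hc1 : c 1 = 1 := by simp [c]
    let M : Subgroup X :=
      { carrier := {s | c s ∈ zpowers a'}
        one_mem' := by show c 1 ∈ zpowers a'; rw [hc1]; exact one_mem _
        mul_mem' := fun {s t} hs ht => by
          show c (s * t) ∈ zpowers a'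
          rw [hcm]; exact mul_mem ht hs
        inv_mem' := fun {s} hs => by
          show c s⁻¹ ∈ zpowers a'
          have h := hcm s s⁻¹
          rw [mul_inv_cancel, hc1] at h
          rw [eq_inv_of_mul_eq_one_left h.symm]
          exact inv_mem hs }
    have hza : ∀ z ∈ zpowers a', z = 1 ∨ z = a' := by
      rintro _ ⟨k, rfl⟩
      show a' ^ k = 1 ∨ a' ^ k = a'
      rcases Int.even_or_odd' k with ⟨l, rfl | rfl⟩
      · left; rw [zpow_mul, zpow_two, he a' ha', one_zpow]
      · right; rw [zpow_add, zpow_mul, zpow_two, he a' ha', one_zpow, one_mul, zpow_one]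
    have hcw : ∀ w : X, w * w = 1 → w ∉ A → c w = y * y := by
      intro w hw hwA
      simp only [c]
      rw [inv_eq_of_mul_eq_one_right hw, hinvD w hw hwA y hyD, ← mul_inv_rev]
      exact inv_eq_of_mul_eq_one_right hy4
    have hout : ∀ w : X, w * w = 1 → w ∉ A → w ∉ M := by
      intro w hw hwA hwM
      rcases hza _ (show c w ∈ zpowers a' from hwM) with h | h
      · exact hy2 ((hcw w hw hwA).symm.trans h)
      · exact ha'y (h.symm.trans (hcw w hw hwA))
    refine ⟨M, Subgroup.index_eq_two_iff_exists_notMem_and.2 ⟨v, hout v hv hvA, fun s =>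
      or_iff_not_imp_right.2 fun hs => ?_⟩, hout⟩
    show c (s * v) ∈ zpowers a'
    have hs' : c s ∉ zpowers a' := hs
    rw [hcm, hcw v hv hvA]
    rcases mem_cases h4 he hyA hy2 ha' ha'1 ha'y (hcA s) with h | h | h | h
    · exact absurd (h ▸ one_mem _) hs'
    · rw [h, hy4]; exact one_mem _
    · exact absurd (h ▸ mem_zpowers a') hs'
    · rw [h, ← mul_assoc, hy4, one_mul]; exact mem_zpowers a'
  · -- `X' = A`
    push Not at hexp
    have hDeq : D = A := le_antisymm (fun d hd => hDA d hd (hexp d hd)) hAD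
    haveI : A.Normal := by rw [← hDeq, hD]; infer_instance
    obtain ⟨a₁, ha₁, ha₁1, -⟩ := exists_three h4 (1 : X)
    obtain ⟨a₂, ha₂, ha₂1, ha₂a⟩ := exists_three h4 a₁
    have hsurj := (class_facts h4 (hI v hv hvA)).2 hcase
    have hvi : v⁻¹ = v := inv_eq_of_mul_eq_one_right hv
    obtain ⟨x, hx⟩ := hsurj a₁ (hAD ha₁)
    obtain ⟨y, hy⟩ := hsurj a₂ (hAD ha₂)
    have hrel : ∀ s a, v⁻¹ * (s * v * s⁻¹) = a → v * s = a * (s * v) := by
      intro s a h
      rw [hvi] at h
      calc v * s = v * (s * v * s⁻¹) * (s * v⁻¹) := by group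
        _ = a * (s * v) := by rw [h, hvi]
    have hvx := hrel x a₁ hx
    have hvy := hrel y a₂ hy
    have hk : x * y * x⁻¹ * y⁻¹ ∈ A := by
      rw [← hDeq, hD, _root_.commutator_def, ← commutatorElement_def]
      exact Subgroup.commutator_mem_commutator (mem_top _) (mem_top _)
    set k := x * y * x⁻¹ * y⁻¹ with hkdef
    have hxy : x * y = k * (y * x) := by rw [hkdef]; group
    have hcy : ∀ b ∈ A, ∀ z : X, z * b = b * z := fun b hb z => (hc b hb z).symm
    obtain ⟨p, q, hp, hq, hpq⟩ : ∃ p q, (p = x ∨ p = x * v) ∧ (q = y ∨ q = y * v) ∧ p * q = q * p := by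
      have h1 : x * v * y = a₂ * k * (y * (x * v)) := by
        calc x * v * y = x * a₂ * (y * v) := by rw [mul_assoc, hvy, mul_assoc]
          _ = a₂ * (x * y) * v := by rw [hcy a₂ ha₂ x]; group
          _ = a₂ * k * (y * (x * v)) := by rw [hxy]; group
      have h2 : x * (y * v) = k * a₁ * (y * v * x) := by
        calc x * (y * v) = k * y * (x * v) := by rw [← mul_assoc, hxy]; group
          _ = k * y * (a₁ * (v * x)) := by
            rw [hvx, ← mul_assoc a₁, he a₁ ha₁, one_mul]
          _ = k * (y * a₁) * (v * x) := by group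
          _ = _ := by rw [hcy a₁ ha₁ y]; group
      rcases mem_cases h4 he ha₁ ha₁1 ha₂ ha₂1 ha₂a hk with h | h | h | h
      · exact ⟨x, y, .inl rfl, .inl rfl, by rw [hxy, h, one_mul]⟩
      · exact ⟨x, y * v, .inl rfl, .inr rfl, by rw [h2, h, he a₁ ha₁, one_mul]⟩
      · exact ⟨x * v, y, .inr rfl, .inl rfl, by rw [h1, h, he a₂ ha₂, one_mul]⟩
      · refine ⟨x * v, y * v, .inr rfl, .inr rfl, ?_⟩
        calc x * v * (y * v) = (x * v * y) * v := by group
          _ = a₂ * k * (y * x * (v * v)) := by rw [h1]; group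
          _ = a₁ * (y * x) := by
            rw [hv, mul_one, h, hc a₁ ha₁ a₂, ← mul_assoc a₂, he a₂ ha₂, one_mul]
          _ = y * (a₁ * (x * v) * v) := by
            rw [show a₁ * (x * v) * v = a₁ * x * (v * v) by group, hv, mul_one, ← mul_assoc,
              ← mul_assoc, hcy a₁ ha₁ y]
          _ = y * v * (x * v) := by rw [← hvx]; group
    set M := closure ((A : Set X) ∪ {p, q}) with hM
    have hAM : A ≤ M := fun a ha => subset_closure (Or.inl ha)
    haveI : M.Normal := by
      refine ⟨fun m hm s => ?_⟩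
      have h : s * m * s⁻¹ * m⁻¹ ∈ A := by
        rw [← hDeq, hD, _root_.commutator_def, ← commutatorElement_def]
        exact Subgroup.commutator_mem_commutator (mem_top _) (mem_top _)
      have := mul_mem (hAM h) hm
      rwa [inv_mul_cancel_right] at this
    haveI hMc : IsMulCommutative ↥M := by
      refine Subgroup.isMulCommutative_closure fun a ha b hb => ?_
      rcases ha with ha | rfl | rfl <;> rcases hb with hb | rfl | rfl
      all_goals first | exact hc _ ha _ | exact hcy _ hb _ | rfl | exact hpq | exact hpq.symm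
    have hsup : M ⊔ zpowers v = ⊤ := by
      refine eq_top_iff.2 fun s _ => ?_
      have hpM : p ∈ M := subset_closure (Or.inr (Or.inl rfl))
      have hqM : q ∈ M := subset_closure (Or.inr (Or.inr rfl))
      have hvM : v ∈ M ⊔ zpowers v := mem_sup_right (mem_zpowers v)
      have hxM : x ∈ M ⊔ zpowers v := by
        rcases hp with h | h
        · exact h ▸ mem_sup_left hpM
        · rw [show x = p * v⁻¹ by rw [h]; group]
          exact mul_mem (mem_sup_left hpM) (inv_mem hvM)
      have hyM : y ∈ M ⊔ zpowers v := by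
        rcases hq with h | h
        · exact h ▸ mem_sup_left hqM
        · rw [show y = q * v⁻¹ by rw [h]; group]
          exact mul_mem (mem_sup_left hqM) (inv_mem hvM)
      have hs : v * s * v * s⁻¹ ∈ A := by
        rw [← hDeq, hD, _root_.commutator_def]
        have h := Subgroup.commutator_mem_commutator (H₁ := (⊤ : Subgroup X)) (H₂ := ⊤)
          (mem_top v) (mem_top s)
        rwa [commutatorElement_def, hvi] at h
      obtain ⟨t, ht, hts⟩ : ∃ t ∈ M ⊔ zpowers v, v * s * v * s⁻¹ = v * t * v * t⁻¹ := by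
        have hx' : v * x * v * x⁻¹ = a₁ := by
          rw [hvx]
          calc a₁ * (x * v) * v * x⁻¹ = a₁ * (x * (v * v) * x⁻¹) := by group
            _ = a₁ := by rw [hv, mul_one, mul_inv_cancel, mul_one]
        have hy' : v * y * v * y⁻¹ = a₂ := by
          rw [hvy]
          calc a₂ * (y * v) * v * y⁻¹ = a₂ * (y * (v * v) * y⁻¹) := by group
            _ = a₂ := by rw [hv, mul_one, mul_inv_cancel, mul_one]
        have hxy' : v * (x * y) * v * (x * y)⁻¹ = a₁ * a₂ := by
          calc v * (x * y) * v * (x * y)⁻¹ = (v * x) * (y * v) * y⁻¹ * x⁻¹ := by group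
            _ = a₁ * (x * (v * y) * v * y⁻¹ * x⁻¹) := by rw [hvx]; group
            _ = a₁ * (x * (v * y * v * y⁻¹) * x⁻¹) := by group
            _ = a₁ * a₂ := by rw [hy', hcy a₂ ha₂ x, mul_inv_cancel_right]
        rcases mem_cases h4 he ha₁ ha₁1 ha₂ ha₂1 ha₂a hs with h | h | h | h
        · exact ⟨1, one_mem _, by rw [h]; simp [hv]⟩
        · exact ⟨x, hxM, h.trans hx'.symm⟩
        · exact ⟨y, hyM, h.trans hy'.symm⟩
        · exact ⟨x * y, mul_mem hxM hyM, h.trans hxy'.symm⟩
      have hcomm : (t⁻¹ * s) * v = v * (t⁻¹ * s) := by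
        have h' : s * v * s⁻¹ = t * v * t⁻¹ :=
          mul_left_cancel (a := v) (by simpa only [mul_assoc] using hts)
        calc t⁻¹ * s * v = t⁻¹ * (s * v * s⁻¹) * s := by group
          _ = t⁻¹ * (t * v * t⁻¹) * s := by rw [h']
          _ = v * (t⁻¹ * s) := by group
      have hmem : t⁻¹ * s ∈ M ⊔ zpowers v := by
        rcases hI v hv hvA _ hcomm with h | h
        · exact mem_sup_left (hAM h)
        · have := mul_mem (mem_sup_left (T := zpowers v) (hAM h)) (inv_mem hvM)
          rwa [mul_inv_cancel_right] at this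
      have := mul_mem ht hmem
      rwa [mul_inv_cancel_left] at this
    have hvM : v ∉ M := fun h => hnab fun a b => by
      have htop : M = ⊤ := by rwa [sup_eq_left.2 (zpowers_le.2 h)] at hsup
      exact setLike_mul_comm (s := M) (htop ▸ mem_top a) (htop ▸ mem_top b)
    have hidx : M.index = 2 := by
      refine Subgroup.index_eq_two_iff_exists_notMem_and.2 ⟨v, hvM, fun s =>
        or_iff_not_imp_right.2 fun hs => ?_⟩
      have h : s ∈ ((M ⊔ zpowers v : Subgroup X) : Set X) := hsup ▸ mem_top s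
      rw [Subgroup.normal_mul] at h
      obtain ⟨m, hm, _, ⟨j, rfl⟩, rfl⟩ := h
      rcases Int.even_or_odd' j with ⟨l, rfl | rfl⟩
      · refine absurd ?_ hs
        show m * v ^ (2 * l) ∈ M
        rw [zpow_mul, zpow_two, hv, one_zpow, mul_one]
        exact hm
      · show m * v ^ (2 * l + 1) * v ∈ M
        rw [zpow_add, zpow_mul, zpow_two, hv, one_zpow, one_mul, zpow_one, mul_assoc, hv, mul_one]
        exact hm
    refine ⟨M, hidx, fun w hw hwA hwM => ?_⟩
    have h8 : Nat.card ↥M ≤ 8 := by
      let f : ↥M → Bool × ↥A := fun s =>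
        if hs : (s : X) ∈ A then (true, ⟨s, hs⟩)
        else (false, ⟨s * w, (hI w hw hwA s (setLike_mul_comm s.2 hwM)).resolve_left hs⟩)
      have hf : Function.Injective f := by
        intro s t hst
        by_cases hs : (s : X) ∈ A <;> by_cases ht : (t : X) ∈ A <;> simp [f, hs, ht] at hst
        · exact hst
        · exact hst
      refine (Nat.card_le_card_of_injective f hf).trans ?_
      rw [Nat.card_prod, h4, show Nat.card Bool = 2 by simp]
    have h16 := M.card_mul_index
    have hcD : Nat.card ↥D = 4 := by rw [hDeq]; exact h4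
    rw [hidx, hcase, hcD] at h16
    omega

end Abstract

variable {G : Type u} [Group G] [Finite G] {S : Sylow 2 G} {A : Subgroup G}

/-- Not every involution of `S` outside `A` has centraliser `A × ⟨v⟩` in `S`. -/
theorem exists_large (h : Hyp S A) (h4 : Nat.card ↥A = 4)
    (hA' : A.subgroupOf (S : Subgroup G) ≤ commutator ↥(S : Subgroup G))
    (hcen : ∀ s ∈ (S : Subgroup G), ∀ a ∈ A, s * a = a * s)
    (hex : ∃ x ∈ (S : Subgroup G), orderOf x = 2 ∧ x ∉ A) :
    ∃ v ∈ (S : Subgroup G), orderOf v = 2 ∧ v ∉ A ∧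
      ∃ s ∈ (S : Subgroup G), s * v = v * s ∧ s ∉ A ∧ s * v ∉ A := by
  by_contra hcon
  push Not at hcon
  haveI : Fact (Nat.Prime 2) := ⟨Nat.prime_two⟩
  haveI := h.simple
  obtain ⟨x, hxS, hx2, hxA⟩ := hex
  have hord : ∀ w : ↥(S : Subgroup G), w * w = 1 → w ∉ A.subgroupOf (S : Subgroup G) →
      orderOf (w : G) = 2 := by
    intro w hw hwA
    refine orderOf_eq_prime (by rw [pow_two]; exact congrArg Subtype.val hw) fun e => hwA ?_
    rw [mem_subgroupOf, e]
    exact one_mem _
  have hxx : x * x = 1 := by rw [← pow_two, ← hx2]; exact pow_orderOf_eq_one x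
  obtain ⟨M, hM, hMout⟩ := exists_avoiding (A := A.subgroupOf (S : Subgroup G)) S.2
    (by rw [Nat.card_congr (Subgroup.subgroupOfEquivOfLe h.closed.1).toEquiv]; exact h4)
    (fun a ha => Subtype.ext (by
      show (a : G) * a = 1
      rw [← pow_two]; exact h.elem.2 _ ha))
    (fun a ha z => Subtype.ext (hcen z z.2 a ha).symm) hA'
    (fun w hw hwA s hs => (Classical.em _).imp id fun hsA =>
      (hcon (w : G) w.2 (hord w hw hwA) (fun e => hwA e) (s : G) s.2
        (congrArg Subtype.val hs) (fun e => hsA e) : (s : G) * w ∈ A))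
    (v := ⟨x, hxS⟩) (Subtype.ext hxx) (fun e => hxA e)
  have hrel : (M.map (S : Subgroup G).subtype).relIndex (S : Subgroup G) = 2 := by
    rw [Subgroup.relIndex, Subgroup.subgroupOf,
      Subgroup.comap_map_eq_self_of_injective (Subgroup.subtype_injective _)]
    exact hM
  rcases Cfsg.Agent.S0111.result S (M.map (S : Subgroup G).subtype) (Subgroup.map_subtype_le M) hrel x
    hx2 hxS (by
      rintro ⟨y, hy, hyx⟩
      refine hMout y (Subtype.ext ?_) (fun e => hxA (hyx ▸ e)) hy
      show (y : G) * y = 1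
      rw [show ((y : G)) = x from hyx, hxx]) with ⟨N, hN, hNi, hxN⟩ | ⟨g, hg⟩
  · rcases IsSimpleGroup.eq_bot_or_eq_top_of_normal N hN with e | e
    · subst e
      rw [Subgroup.index_bot] at hNi
      have h4' := Subgroup.card_le_of_le (le_top (a := A))
      rw [h4, Subgroup.card_top] at h4'
      omega
    · exact hxN (e ▸ mem_top x)
  · obtain ⟨w, hwM, hw⟩ := hg
    have hwg : (w : G) = g * x * g⁻¹ := hw
    refine hMout w (Subtype.ext ?_) (fun e => hxA ?_) hwM
    · show (w : G) * w = 1
      rw [hwg, show g * x * g⁻¹ * (g * x * g⁻¹) = g * (x * x) * g⁻¹ by group, hxx, mul_one,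
        mul_inv_cancel]
    · have he : g⁻¹ * (w : G) * g⁻¹⁻¹ = x := by rw [hwg]; group
      have := h.closed.2 (w : G) e g⁻¹ (by rw [he]; exact hxS)
      rwa [he] at this

/-- If bad involutions have small centralisers in `S`, a translate class of good ones exists. -/
theorem goodExists_of_bad
    (hbad : ∀ (G : Type u) [Group G] [Finite G] (S : Sylow 2 G) (A : Subgroup G), Hyp S A →
      Nat.card ↥A = 4 → A.subgroupOf (S : Subgroup G) ≤ commutator ↥(S : Subgroup G) →
      (∀ s ∈ (S : Subgroup G), ∀ a ∈ A, s * a = a * s) →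
      ∀ u ∈ (S : Subgroup G), orderOf u = 2 → u ∉ A → ¬ GoodInv A u →
        ∀ s ∈ (S : Subgroup G), s * u = u * s → s ∈ A ∨ s * u ∈ A) :
    PropGoodExists.{u} := by
  intro G _ _ S A h h4 hA' hcen hex
  haveI : Fact (Nat.Prime 2) := ⟨Nat.prime_two⟩
  obtain ⟨v, hvS, hv2, hvA, s, hsS, hsv, hsA, hsvA⟩ := exists_large h h4 hA' hcen hex
  refine ⟨v, hvS, hv2, hvA, fun b hb => ?_⟩
  by_contra hgood
  have hbS : b ∈ (S : Subgroup G) := h.closed.1 hb
  have hvv : v * v = 1 := by rw [← pow_two, ← hv2]; exact pow_orderOf_eq_one v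
  have hbb : b * b = 1 := by rw [← pow_two]; exact h.elem.2 b hb
  have hvbA : v * b ∉ A := fun e => hvA (by
    have := mul_mem e hb
    rwa [mul_assoc, hbb, mul_one] at this)
  have hvb2 : orderOf (v * b) = 2 := by
    refine orderOf_eq_prime ?_ fun e => hvbA (e ▸ one_mem _)
    rw [pow_two]
    calc v * b * (v * b) = v * (b * v) * b := by group
      _ = v * v * (b * b) := by rw [← hcen v hvS b hb]; group
      _ = 1 := by rw [hvv, hbb, mul_one]
  have hcomm : s * (v * b) = v * b * s := by
    rw [← mul_assoc, hsv, mul_assoc, hcen s hsS b hb, ← mul_assoc]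
  rcases hbad G S A h h4 hA' hcen (v * b) (mul_mem hvS hbS) hvb2 hvbA hgood s hsS hcomm with e | e
  · exact hsA e
  · refine hsvA ?_
    have := mul_mem e hb
    rwa [mul_assoc, mul_assoc v, hbb, mul_one] at this

end Cfsg.Agent.Lib.Goldschmidt53.RankTwoBadEnd
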