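import Cfsg.Agent.Lib.Goldschmidt53.RankTwoBadX2

/-!
# Rank two, bad involutions: the centraliser of an involution outside `A`

Owner: helper41.  For an involution `v` of `C(A)` the centraliser modulo its core satisfies `Ctx`.
If `v` is not good it has a component `K` with `|C_K(a) : C_K(A)| ≠ 1` (`exists_component`); an
involution of `C(v, A)` centralises `K` iff some element of `N(A) \ C(A)` commutes with it and `v`
(`mem_iff_rot`), and `C(v) ∩ C(A)` has every 2-element in `A` times the centraliser of `K` (`split`).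
-/

set_option autoImplicit false
set_option linter.style.haveILetI false
set_option linter.unusedSectionVars false

universe u

namespace Cfsg.Agent.Lib.Goldschmidt53.RankTwoBad

open Subgroup
open scoped Pointwise
open Cfsg.Agent.Lib.Components
open Cfsg.Agent.Lib.Walter (CBar imageBar mem_imageBar liftBar coreC proj proj_surjective
  proj_eq_one_iff core)

variable {G : Type u} [Group G] [Finite G] {S : Sylow 2 G} {A : Subgroup G}

namespace Setting

variable (h : Setting S A) {v : G} (hv : orderOf v = 2) (hvA : v ∈ centralizer (A : Set G))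
include h hv hvA

theorem le_centralizer_zpowers : A ≤ centralizer (zpowers v : Set G) := fun a ha => by
  rw [Walter.centralizer_zpowers, mem_centralizer_singleton_iff]
  exact (h.mem_centralizer_of_commute hvA ha).symm

theorem bar_injective {x y : G} (hx : x ∈ A) (hy : y ∈ A)
    (e : proj (zpowers v) ⟨x, h.le_centralizer_zpowers hv hvA hx⟩ =
      proj (zpowers v) ⟨y, h.le_centralizer_zpowers hv hvA hy⟩) : x = y := by
  have h1 : proj (zpowers v) (⟨x, h.le_centralizer_zpowers hv hvA hx⟩⁻¹ *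
      ⟨y, h.le_centralizer_zpowers hv hvA hy⟩) = 1 := by rw [map_mul, map_inv, e, inv_mul_cancel]
  have h2 := (proj_eq_one_iff (mul_mem (inv_mem (h.le_centralizer_zpowers hv hvA hx))
    (h.le_centralizer_zpowers hv hvA hy))).1 h1
  exact inv_mul_eq_one.1
    (Walter.eq_one_of_mem_coreC (h.hyp.closed.1 (mul_mem (inv_mem hx) hy)) h2)

theorem card_bar : Nat.card ↥(imageBar (zpowers v) A) = 4 := by
  rw [← h.card]
  let f : ↥A → ↥(imageBar (zpowers v) A) := fun a =>
    ⟨_, mem_imageBar (h.le_centralizer_zpowers hv hvA a.2) a.2⟩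
  refine (Nat.card_eq_of_bijective f ⟨fun a b e => ?_, ?_⟩).symm
  · exact Subtype.ext (h.bar_injective hv hvA a.2 b.2 (congrArg Subtype.val e))
  · rintro ⟨_, ⟨x, hx⟩, hxA, rfl⟩
    exact ⟨⟨x, mem_subgroupOf.1 hxA⟩, rfl⟩

theorem closed_bar (U : Sylow 2 (CBar (zpowers v)))
    (hU : imageBar (zpowers v) A ≤ (U : Subgroup (CBar (zpowers v)))) :
    Cfsg.IsStronglyClosed (imageBar (zpowers v) A) (U : Subgroup (CBar (zpowers v))) := by
  haveI : Fact (Nat.Prime 2) := ⟨Nat.prime_two⟩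
  set C := centralizer ((zpowers v) : Set G)
  have hAC : A ≤ C := h.le_centralizer_zpowers hv hvA
  obtain ⟨T, hT⟩ := ((PGroups.elemAb_isPGroup h.hyp.elem).of_equiv
    (subgroupOfEquivOfLe hAC).symm : IsPGroup 2 ↥(A.subgroupOf C)).exists_le_sylow
  obtain ⟨W, hW⟩ := (T.2.map C.subtype).exists_le_sylow
  have hAW : A ≤ (W : Subgroup G) := fun a ha =>
    hW ⟨⟨a, hAC ha⟩, hT (mem_subgroupOf.2 ha), rfl⟩
  have hclW := Pairs.closed_of_le h.hyp hAW
  have hclT : Cfsg.IsStronglyClosed (A.subgroupOf C) (T : Subgroup C) := ⟨hT, fun x hx k hk =>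
    mem_subgroupOf.2 (hclW.2 x (mem_subgroupOf.1 hx) k (hW (mem_map_of_mem C.subtype hk)))⟩
  have hcl0 : Cfsg.IsStronglyClosed (imageBar (zpowers v) A)
      ((T.mapSurjective (proj_surjective (zpowers v)) : Sylow 2 (CBar (zpowers v))) : Subgroup (CBar (zpowers v))) := by
    rw [Sylow.coe_mapSurjective]
    exact Cfsg.Agent.S1250.result T _ hclT _
  obtain ⟨g, hg⟩ := MulAction.exists_smul_eq (CBar (zpowers v)) U (T.mapSurjective (proj_surjective (zpowers v)))
  have hconj := fun u (hu : u ∈ (U : Subgroup (CBar (zpowers v)))) => ZStar.Elements.smul_mem hg hu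
  have hgA : ∀ a ∈ imageBar (zpowers v) A, g * a * g⁻¹ ∈ imageBar (zpowers v) A := fun a ha =>
    hcl0.2 a ha g (hconj a (hU ha))
  have hgN : g ∈ normalizer (imageBar (zpowers v) A : Set (CBar (zpowers v))) := by
    refine Subgroup.mem_normalizer_iff_map_conj_eq.2 (Subgroup.eq_of_le_of_card_ge ?_
      (Subgroup.card_map_of_injective (MulAut.conj g).injective).ge)
    rintro _ ⟨a, ha, rfl⟩
    exact hgA a ha
  refine ⟨hU, fun a ha k hk => ?_⟩
  have h1 := hcl0.2 a ha (g * k) (by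
    have := hconj _ hk
    rwa [show g * k * a * (g * k)⁻¹ = g * (k * a * k⁻¹) * g⁻¹ by group])
  rw [show g * k * a * (g * k)⁻¹ = g * (k * a * k⁻¹) * g⁻¹ by group] at h1
  exact (Subgroup.mem_normalizer_iff.1 hgN _).2 h1

/-- An element normalising the image of `A` is corrected into `N(A)` by the core. -/
theorem exists_lift_normalizer {H : Subgroup G} (hH : H ≤ centralizer (zpowers v : Set G))
    (hAH : A ≤ H) {g : G} (hg : g ∈ H)
    (hgN : proj (zpowers v) ⟨g, hH hg⟩ ∈
      normalizer (imageBar (zpowers v) A : Set (CBar (zpowers v)))) :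
    ∃ k ∈ coreC (zpowers v) ⊓ H, k * g ∈ normalizer (A : Set G) := by
  haveI : Fact (Nat.Prime 2) := ⟨Nat.prime_two⟩
  set B := zpowers v
  have hAK : A ≤ normalizer ((coreC B ⊓ H : Subgroup G) : Set G) := fun a ha =>
    inf_normalizer_le_normalizer_inf
      ⟨Walter.centralizer_le_normalizer_coreC B (hH (hAH ha)), le_normalizer (hAH ha)⟩
  have hodd : Odd (Nat.card ↥(coreC B ⊓ H : Subgroup G)) :=
    (Walter.odd_coreC B).of_dvd_nat (card_dvd_of_le inf_le_left)
  have hcop : (Nat.card ↥A).Coprime (Nat.card ↥(coreC B ⊓ H : Subgroup G)) := by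
    rw [h.card]
    exact (Nat.coprime_two_left.2 hodd).pow_left 2
  have hle : MulAut.conj g • A ≤ A ⊔ (coreC B ⊓ H) := by
    intro x hx
    rw [Coprime.mem_conj_smul] at hx
    set a := g⁻¹ * x * g with ha
    have hm := (Subgroup.mem_normalizer_iff.1 hgN _).1 (mem_imageBar (hH (hAH hx)) hx)
    obtain ⟨⟨a', ha'C⟩, ha', he⟩ := hm
    have h1 : proj B ((⟨a', ha'C⟩ : ↥(centralizer (B : Set G)))⁻¹ *
        (⟨g, hH hg⟩ * ⟨a, hH (hAH hx)⟩ * ⟨g, hH hg⟩⁻¹)) = 1 := by
      rw [map_mul, map_inv, he, map_mul, map_mul, map_inv, inv_mul_cancel]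
    have h2 : a'⁻¹ * (g * a * g⁻¹) ∈ coreC B := (proj_eq_one_iff (mul_mem (inv_mem ha'C)
      (mul_mem (mul_mem (hH hg) (hH (hAH hx))) (inv_mem (hH hg))))).1 h1
    have h3 : a'⁻¹ * (g * a * g⁻¹) ∈ H := mul_mem (inv_mem (hAH (mem_subgroupOf.1 ha')))
      (mul_mem (mul_mem hg (hAH hx)) (inv_mem hg))
    have e : x = a' * (a'⁻¹ * (g * a * g⁻¹)) := by rw [ha]; group
    rw [e]
    exact mul_mem (mem_sup_left (mem_subgroupOf.1 ha')) (mem_sup_right (mem_inf.2 ⟨h2, h3⟩))
  obtain ⟨k, hk, hkA⟩ := Coprime.exists_conj_eq_of_coprime hAK hcop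
    (Or.inr (OddOrder.FeitThompson.isSolvable_of_odd_card hodd)) hle (Coprime.card_conj_smul _ _)
  exact ⟨k⁻¹, inv_mem hk, Coprime.mem_normalizer_of_conj_smul_eq (by
    rw [Coprime.conj_smul_mul, ← hkA, ← Coprime.conj_smul_mul, inv_mul_cancel, map_one, one_smul])⟩

/-- An element centralising the image of `A` is corrected into `C(A)` by the core. -/
theorem exists_lift_centralizer {H : Subgroup G} (hH : H ≤ centralizer (zpowers v : Set G))
    (hAH : A ≤ H) {g : G} (hg : g ∈ H)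
    (hgC : proj (zpowers v) ⟨g, hH hg⟩ ∈
      centralizer (imageBar (zpowers v) A : Set (CBar (zpowers v)))) :
    ∃ k ∈ coreC (zpowers v) ⊓ H, k * g ∈ centralizer (A : Set G) := by
  set B := zpowers v
  obtain ⟨k, hk, hkN⟩ := h.exists_lift_normalizer hv hvA hH hAH hg (centralizer_le_normalizer _ hgC)
  obtain ⟨a, ha, ha1⟩ := A.bot_or_exists_ne_one.resolve_left h.hyp.ne
  refine ⟨k, hk, h.mem_centralizer_of_fixed hkN ha ha1 (h.bar_injective hv hvA (h.conj_mem hkN ha) ha ?_)⟩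
  have hkC : k * g ∈ centralizer (B : Set G) := hH (mul_mem hk.2 hg)
  have e : proj B ⟨k * g, hkC⟩ = proj B ⟨g, hH hg⟩ := by
    rw [show (⟨k * g, hkC⟩ : ↥(centralizer (B : Set G))) = ⟨k, Walter.coreC_le B hk.1⟩ * ⟨g, hH hg⟩
      from rfl, map_mul, (proj_eq_one_iff _).2 hk.1, one_mul]
  set a' : ↥(centralizer (B : Set G)) := ⟨a, h.le_centralizer_zpowers hv hvA ha⟩
  have h2 : proj B (⟨k * g, hkC⟩ * a' * ⟨k * g, hkC⟩⁻¹) = proj B a' := by
    rw [map_mul, map_mul, map_inv, e,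
      ← mem_centralizer_iff.1 hgC _ (mem_imageBar _ ha), mul_inv_cancel_right]
  exact h2

/-- The centraliser of `v` modulo its core. -/
theorem ctx : Ctx (imageBar (zpowers v) A) := by
  haveI : Fact (Nat.Prime 2) := ⟨Nat.prime_two⟩
  set B := zpowers v
  have hAC : A ≤ centralizer (B : Set G) := h.le_centralizer_zpowers hv hvA
  have hB1 : B ≠ ⊥ := fun e => by
    rw [zpowers_eq_bot.1 e, orderOf_one] at hv; omega
  have hd := h.decomp hB1 hAC
  have hrigid : ∀ n ∈ normalizer (imageBar B A : Set (CBar B)), ∀ a ∈ imageBar B A, a ≠ 1 →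
      n * a * n⁻¹ = a → n ∈ centralizer (imageBar B A : Set (CBar B)) := by
    intro n hn ab hab hab1 hfix
    obtain ⟨⟨g, hg⟩, rfl⟩ := proj_surjective B n
    obtain ⟨⟨a, haC⟩, haA, rfl⟩ := hab
    obtain ⟨k, hk, hkN⟩ := h.exists_lift_normalizer hv hvA le_rfl hAC hg hn
    have hkC : k * g ∈ centralizer (B : Set G) := mul_mem hk.2 hg
    have e : proj B ⟨k * g, hkC⟩ = proj B ⟨g, hg⟩ := by
      rw [show (⟨k * g, hkC⟩ : ↥(centralizer (B : Set G))) = ⟨k, hk.2⟩ * ⟨g, hg⟩ from rfl, map_mul,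
        (proj_eq_one_iff _).2 hk.1, one_mul]
    have haA' : a ∈ A := mem_subgroupOf.1 haA
    have h1 : k * g * a * (k * g)⁻¹ = a := by
      refine h.bar_injective hv hvA (h.conj_mem hkN haA') haA' ?_
      show proj B (⟨k * g, hkC⟩ * ⟨a, haC⟩ * ⟨k * g, hkC⟩⁻¹) = _
      rw [map_mul, map_mul, map_inv, e, hfix]
    have hkA := h.mem_centralizer_of_fixed hkN haA' (fun e' => hab1 (by
      subst e'
      exact (congrArg (proj B) (Subtype.ext rfl : (⟨1, haC⟩ : ↥(centralizer (B : Set G))) = 1)).trans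
        (map_one _))) h1
    refine mem_centralizer_iff.2 ?_
    rintro _ ⟨⟨b, hbC⟩, hbA, rfl⟩
    rw [← e, ← map_mul, ← map_mul]
    exact congrArg _ (Subtype.ext (mem_centralizer_iff.1 hkA b (mem_subgroupOf.1 hbA)))
  refine ⟨Walter.barCore B, h.card_bar hv hvA, PGroups.elemAb_map _ (PGroups.elemAb_subgroupOf h.hyp.elem _),
    h.closed_bar hv hvA, hd, fun K hK hnc => h.bar_le_component hd hK hnc, hrigid, ?_, h.facts⟩
  -- the product decomposition
  rintro ab ⟨⟨a, haC⟩, haA, rfl⟩ hab1 x hx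
  have haA' : a ∈ A := mem_subgroupOf.1 haA
  have ha1 : a ≠ 1 := fun e' => hab1 (by
    subst e'
    exact (congrArg (proj B) (Subtype.ext rfl : (⟨1, haC⟩ : ↥(centralizer (B : Set G))) = 1)).trans
      (map_one _))
  obtain ⟨⟨g₀, hg₀⟩, rfl⟩ := proj_surjective B x
  have hcop : (Nat.card ↥(zpowers a)).Coprime (Nat.card ↥(coreC B)) := by
    rw [Nat.card_zpowers, h.orderOf_eq haA' ha1]
    exact Nat.coprime_two_left.2 (Walter.odd_coreC B)
  obtain ⟨n, hn, hnc⟩ := Coprime.exists_fixed_mul (A := zpowers a) (N := coreC B)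
    ((zpowers_le.2 haC).trans (Walter.centralizer_le_normalizer_coreC B)) hcop
    (Or.inr (OddOrder.FeitThompson.isSolvable_of_odd_card (Walter.odd_coreC B))) (k := g₀)
    (fun y hy => by
      obtain ⟨i, rfl⟩ := mem_zpowers_iff.1 hy
      refine (proj_eq_one_iff (mul_mem (mul_mem (mul_mem (zpow_mem haC i) hg₀)
        (inv_mem (zpow_mem haC i))) (inv_mem hg₀))).1 ?_
      show proj B (⟨a, haC⟩ ^ i * ⟨g₀, hg₀⟩ * (⟨a, haC⟩ ^ i)⁻¹ * ⟨g₀, hg₀⟩⁻¹) = 1
      rw [map_mul, map_mul, map_mul, map_inv, map_inv, map_zpow,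
        ← ((show Commute (proj B ⟨g₀, hg₀⟩) (proj B ⟨a, haC⟩) from
          mem_centralizer_singleton_iff.1 hx.1).zpow_right i).eq]
      group)
  set g := n * g₀
  have hgC : g ∈ centralizer (B : Set G) := mul_mem (Walter.coreC_le B hn) hg₀
  have hga : g ∈ centralizer ({a} : Set G) := mem_centralizer_singleton_iff.2
    (mem_centralizer_iff.1 hnc a (mem_zpowers a)).symm
  have hP := h.isProd_inf haA' (h.core_mul haA' ha1) (Involutions.Basic.invol_mul_self hv) hvA
    (mem_top v)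
  obtain ⟨o, ho, c, hc, hoc⟩ := hP g ⟨hga, mem_top _, by rwa [← Walter.centralizer_zpowers]⟩
  have hoC : o ∈ centralizer (B : Set G) := by rw [Walter.centralizer_zpowers]; exact ho.2.2
  have hcC : c ∈ centralizer (B : Set G) := by rw [Walter.centralizer_zpowers]; exact hc.2.2
  refine ⟨proj B ⟨o, hoC⟩, ⟨?_, mem_top _⟩, proj B ⟨c, hcC⟩, ⟨?_, mem_top _⟩, ?_⟩
  · -- the image of the odd normal subgroup lies in the core
    set N := core a ⊓ centralizer ({v} : Set G)
    have hN : imageBar B N ≤ Walter.core (proj B ⟨a, haC⟩) := by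
      refine Walter.le_core ?_ ?_ ((Walter.odd_core a).of_dvd_nat
        (Walter.card_imageBar_dvd.trans (card_dvd_of_le inf_le_left)))
      · rintro _ ⟨⟨w, hw⟩, hwN, rfl⟩
        rw [mem_centralizer_singleton_iff, ← map_mul, ← map_mul]
        exact congrArg _ (Subtype.ext
          (mem_centralizer_singleton_iff.1 (Walter.core_le a (mem_subgroupOf.1 hwN).1)))
      · intro y hy
        obtain ⟨⟨w, hw⟩, rfl⟩ := proj_surjective B y
        obtain ⟨n', hn', hn'c⟩ := Coprime.exists_fixed_mul (A := zpowers a) (N := coreC B)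
          ((zpowers_le.2 haC).trans (Walter.centralizer_le_normalizer_coreC B)) hcop
          (Or.inr (OddOrder.FeitThompson.isSolvable_of_odd_card (Walter.odd_coreC B))) (k := w)
          (fun z hz => by
            obtain ⟨i, rfl⟩ := mem_zpowers_iff.1 hz
            refine (proj_eq_one_iff (mul_mem (mul_mem (mul_mem (zpow_mem haC i) hw)
              (inv_mem (zpow_mem haC i))) (inv_mem hw))).1 ?_
            show proj B (⟨a, haC⟩ ^ i * ⟨w, hw⟩ * (⟨a, haC⟩ ^ i)⁻¹ * ⟨w, hw⟩⁻¹) = 1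
            rw [map_mul, map_mul, map_mul, map_inv, map_inv, map_zpow,
              ← ((show Commute (proj B ⟨w, hw⟩) (proj B ⟨a, haC⟩) from
                mem_centralizer_singleton_iff.1 hy).zpow_right i).eq]
            group)
        have hwC : n' * w ∈ centralizer (B : Set G) := mul_mem (Walter.coreC_le B hn') hw
        have e : proj B ⟨w, hw⟩ = proj B ⟨n' * w, hwC⟩ := by
          rw [show (⟨n' * w, hwC⟩ : ↥(centralizer (B : Set G))) =
            ⟨n', Walter.coreC_le B hn'⟩ * ⟨w, hw⟩ from rfl, map_mul, (proj_eq_one_iff _).2 hn',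
            one_mul]
        rw [e]
        refine Subgroup.mem_normalizer_iff_map_conj_eq.2 (Subgroup.eq_of_le_of_card_ge ?_
          (Subgroup.card_map_of_injective (MulAut.conj (proj B ⟨n' * w, hwC⟩)).injective).ge)
        rintro _ ⟨_, ⟨z, hz, rfl⟩, rfl⟩
        have hnorm : n' * w ∈ normalizer ((N : Subgroup G) : Set G) := inf_normalizer_le_normalizer_inf
          ⟨Walter.centralizer_le_normalizer_core a (mem_centralizer_singleton_iff.2
            (mem_centralizer_iff.1 hn'c a (mem_zpowers a)).symm),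
            le_normalizer (by rwa [← Walter.centralizer_zpowers])⟩
        exact ⟨⟨n' * w, hwC⟩ * z * ⟨n' * w, hwC⟩⁻¹, mem_subgroupOf.2
          ((Subgroup.mem_normalizer_iff.1 hnorm _).1 (mem_subgroupOf.1 hz)), by simp⟩
    exact hN (mem_imageBar hoC (mem_inf.2 ⟨ho.1, ho.2.2⟩))
  · refine mem_centralizer_iff.2 ?_
    rintro _ ⟨⟨b, hbC⟩, hbA, rfl⟩
    rw [← map_mul, ← map_mul]
    exact congrArg _ (Subtype.ext (mem_centralizer_iff.1 hc.1 b (mem_subgroupOf.1 hbA)))
  · rw [← map_mul]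
    show proj B ⟨o * c, mul_mem hoC hcC⟩ = proj B ⟨g₀, hg₀⟩
    rw [show (⟨o * c, mul_mem hoC hcC⟩ : ↥(centralizer (B : Set G))) =
      ⟨n, Walter.coreC_le B hn⟩ * ⟨g₀, hg₀⟩ from Subtype.ext hoc, map_mul,
      (proj_eq_one_iff _).2 hn, one_mul]

/-- A bad involution has a component not centralised by `A` on which `C(a)` is bigger than `C(A)`. -/
theorem exists_component (hbad : ¬ GoodInv A v) :
    ∃ K : Subgroup (CBar (zpowers v)), Cfsg.IsComponent K ∧
      ¬ imageBar (zpowers v) A ≤ centralizer (K : Set (CBar (zpowers v))) ∧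
      ∀ a ∈ imageBar (zpowers v) A, a ≠ 1 →
        (centralizer (imageBar (zpowers v) A : Set (CBar (zpowers v)))).relIndex
          (centralizer ({a} : Set (CBar (zpowers v))) ⊓ K) ≠ 1 := by
  set B := zpowers v
  have hc := h.ctx hv hvA
  by_contra hcon
  push Not at hcon
  refine hbad fun a ha ha1 x hx => ?_
  have hAC : A ≤ centralizer (B : Set G) := h.le_centralizer_zpowers hv hvA
  set ab := proj B ⟨a, hAC ha⟩
  have habA : ab ∈ imageBar B A := mem_imageBar _ ha
  have hab1 : ab ≠ 1 := fun e => ha1 (h.bar_injective hv hvA ha (one_mem A) (by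
    rw [show (⟨1, hAC (one_mem A)⟩ : ↥(centralizer (B : Set G))) = 1 from rfl, map_one]; exact e))
  set N := imageBar B (core a ⊓ centralizer ({v} : Set G))
  have hodd : Odd (Nat.card ↥N) := (Walter.odd_core a).of_dvd_nat
    (Walter.card_imageBar_dvd.trans (card_dvd_of_le inf_le_left))
  have hNC : N ≤ centralizer ({ab} : Set (CBar B)) := by
    rintro _ ⟨⟨w, hw⟩, hwN, rfl⟩
    rw [mem_centralizer_singleton_iff, ← map_mul, ← map_mul]
    exact congrArg _ (Subtype.ext
      (mem_centralizer_singleton_iff.1 (Walter.core_le a (mem_subgroupOf.1 hwN).1)))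
  have hnorm : centralizer ({ab} : Set (CBar B)) ≤ normalizer (N : Set (CBar B)) := by
    intro y hy
    obtain ⟨⟨w, hw⟩, rfl⟩ := proj_surjective B y
    have hcop : (Nat.card ↥(zpowers a)).Coprime (Nat.card ↥(coreC B)) := by
      rw [Nat.card_zpowers, h.orderOf_eq ha ha1]
      exact Nat.coprime_two_left.2 (Walter.odd_coreC B)
    obtain ⟨n', hn', hn'c⟩ := Coprime.exists_fixed_mul (A := zpowers a) (N := coreC B)
      ((zpowers_le.2 (hAC ha)).trans (Walter.centralizer_le_normalizer_coreC B)) hcop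
      (Or.inr (OddOrder.FeitThompson.isSolvable_of_odd_card (Walter.odd_coreC B))) (k := w)
      (fun z hz => by
        obtain ⟨i, rfl⟩ := mem_zpowers_iff.1 hz
        refine (proj_eq_one_iff (mul_mem (mul_mem (mul_mem (zpow_mem (hAC ha) i) hw)
          (inv_mem (zpow_mem (hAC ha) i))) (inv_mem hw))).1 ?_
        show proj B (⟨a, hAC ha⟩ ^ i * ⟨w, hw⟩ * (⟨a, hAC ha⟩ ^ i)⁻¹ * ⟨w, hw⟩⁻¹) = 1
        rw [map_mul, map_mul, map_mul, map_inv, map_inv, map_zpow,
          ← ((show Commute (proj B ⟨w, hw⟩) ab from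
            mem_centralizer_singleton_iff.1 hy).zpow_right i).eq,
        show ab = proj B ⟨a, hAC ha⟩ from rfl]
        group)
    have hwC : n' * w ∈ centralizer (B : Set G) := mul_mem (Walter.coreC_le B hn') hw
    have e : proj B ⟨w, hw⟩ = proj B ⟨n' * w, hwC⟩ := by
      rw [show (⟨n' * w, hwC⟩ : ↥(centralizer (B : Set G))) =
        ⟨n', Walter.coreC_le B hn'⟩ * ⟨w, hw⟩ from rfl, map_mul, (proj_eq_one_iff _).2 hn', one_mul]
    rw [e]
    refine Subgroup.mem_normalizer_iff_map_conj_eq.2 (Subgroup.eq_of_le_of_card_ge ?_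
      (Subgroup.card_map_of_injective (MulAut.conj (proj B ⟨n' * w, hwC⟩)).injective).ge)
    rintro _ ⟨_, ⟨z, hz, rfl⟩, rfl⟩
    have hnm : n' * w ∈ normalizer ((core a ⊓ centralizer ({v} : Set G) : Subgroup G) : Set G) :=
      inf_normalizer_le_normalizer_inf
        ⟨Walter.centralizer_le_normalizer_core a (mem_centralizer_singleton_iff.2
          (mem_centralizer_iff.1 hn'c a (mem_zpowers a)).symm),
          le_normalizer (by rwa [← Walter.centralizer_zpowers])⟩
    exact ⟨⟨n' * w, hwC⟩ * z * ⟨n' * w, hwC⟩⁻¹, mem_subgroupOf.2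
      ((Subgroup.mem_normalizer_iff.1 hnm _).1 (mem_subgroupOf.1 hz)), by simp⟩
  have hN : N = ⊥ := by
    by_cases hno : ∀ K : Subgroup (CBar B), Cfsg.IsComponent K →
        imageBar B A ≤ centralizer (K : Set (CBar B))
    · have hCA : centralizer ({ab} : Set (CBar B)) ≤ centralizer (imageBar B A : Set (CBar B)) :=
        fun y hy => hc.rigid y (hc.normal_of_no_component hno y) ab habA hab1
          (by rw [mem_centralizer_singleton_iff.1 hy, mul_inv_cancel_right])
      refine hc.eq_bot_of_normalized (M := centralizer (imageBar B A : Set (CBar B))) ?_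
        (hNC.trans hCA) ((hc.centralizer_le habA).trans hnorm) hodd
      haveI : (imageBar B A).Normal := normalizer_eq_top_iff.1
        (eq_top_iff.2 fun y _ => hc.normal_of_no_component hno y)
      infer_instance
    · push Not at hno
      obtain ⟨K, hK, hnc⟩ := hno
      obtain ⟨b, hb, hb1, ht⟩ := hcon K hK hnc
      obtain ⟨σ, hσK, hσN, htr⟩ := hc.exists_sigma hK hnc
      obtain ⟨j, hj⟩ := htr b hb hb1 ab habA hab1
      have ht' : e (imageBar B A) ab K = 1 := by
        have hmap : K.map (MulAut.conj (σ ^ j)).toMonoidHom = K :=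
          mem_normalizer_iff_map_conj_eq.1 (le_normalizer (pow_mem hσK j))
        rw [← hj, ← hmap, e_conj _ (pow_mem hσN j)]
        exact ht
      exact hc.eq_bot_of_core hK hnc habA hab1 (hc.core_eq_bot hK hnc habA hab1 ht') hNC hnorm hodd
  have hxC : x ∈ centralizer (B : Set G) := by rw [Walter.centralizer_zpowers]; exact hx.2
  have h1 : proj B ⟨x, hxC⟩ ∈ N := mem_imageBar hxC hx
  rw [hN, mem_bot] at h1
  rw [← Walter.coreC_zpowers]
  exact (proj_eq_one_iff hxC).1 h1

section Component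

variable {K : Subgroup (CBar (zpowers v))} (hK : Cfsg.IsComponent K)
  (hnc : ¬ imageBar (zpowers v) A ≤ centralizer (K : Set (CBar (zpowers v))))
include hK hnc

/-- Elements of `K` lift to the centraliser of an involution centralising it. -/
theorem exists_lift_commute {s : G} (hs2 : s * s = 1) (hsC : s ∈ centralizer (zpowers v : Set G))
    (hsK : proj (zpowers v) ⟨s, hsC⟩ ∈ centralizer (K : Set (CBar (zpowers v))))
    {k : CBar (zpowers v)} (hk : k ∈ K) :
    ∃ g, ∃ hg : g ∈ centralizer (zpowers v : Set G), g * s = s * g ∧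
      proj (zpowers v) ⟨g, hg⟩ = k := by
  obtain ⟨⟨x₀, hx₀⟩, rfl⟩ := proj_surjective (zpowers v) k
  have hcop : (Nat.card ↥(zpowers s)).Coprime (Nat.card ↥(coreC (zpowers v))) := by
    rw [Nat.card_zpowers]
    exact ((Nat.coprime_two_left.2 (Walter.odd_coreC (zpowers v)))).coprime_dvd_left
      (orderOf_dvd_of_pow_eq_one (by rw [pow_two, hs2]))
  obtain ⟨n, hn, hnc'⟩ := Coprime.exists_fixed_mul (A := zpowers s) (N := coreC (zpowers v))
    ((zpowers_le.2 hsC).trans (Walter.centralizer_le_normalizer_coreC (zpowers v))) hcop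
    (Or.inr (OddOrder.FeitThompson.isSolvable_of_odd_card (Walter.odd_coreC (zpowers v)))) (k := x₀)
    (fun z hz => by
      obtain ⟨i, rfl⟩ := mem_zpowers_iff.1 hz
      refine (proj_eq_one_iff (mul_mem (mul_mem (mul_mem (zpow_mem hsC i) hx₀)
        (inv_mem (zpow_mem hsC i))) (inv_mem hx₀))).1 ?_
      show proj (zpowers v) (⟨s, hsC⟩ ^ i * ⟨x₀, hx₀⟩ * (⟨s, hsC⟩ ^ i)⁻¹ * ⟨x₀, hx₀⟩⁻¹) = 1
      rw [map_mul, map_mul, map_mul, map_inv, map_inv, map_zpow,
        ← ((show Commute (proj (zpowers v) ⟨x₀, hx₀⟩) (proj (zpowers v) ⟨s, hsC⟩) from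
          mem_centralizer_iff.1 hsK _ hk).zpow_right i).eq]
      group)
  refine ⟨n * x₀, mul_mem (Walter.coreC_le (zpowers v) hn) hx₀,
    (mem_centralizer_iff.1 hnc' s (mem_zpowers s)).symm, ?_⟩
  rw [show (⟨n * x₀, mul_mem (Walter.coreC_le (zpowers v) hn) hx₀⟩ : ↥(centralizer ((zpowers v) : Set G))) =
    ⟨n, Walter.coreC_le (zpowers v) hn⟩ * ⟨x₀, hx₀⟩ from rfl, map_mul, (proj_eq_one_iff _).2 hn, one_mul]

/-- An element of `N(A)` moving `A`, commuting with `v` and an involution centralising `K`. -/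
theorem exists_rot {s : G} (hs2 : s * s = 1) (hsA : s ∈ centralizer (A : Set G))
    (hsC : s ∈ centralizer (zpowers v : Set G))
    (hsK : proj (zpowers v) ⟨s, hsC⟩ ∈ centralizer (K : Set (CBar (zpowers v)))) :
    ∃ n ∈ normalizer (A : Set G), n ∉ centralizer (A : Set G) ∧ n * v = v * n ∧ n * s = s * n ∧
      ∃ hn : n ∈ centralizer (zpowers v : Set G), proj (zpowers v) ⟨n, hn⟩ ∈ K := by
  have hc := h.ctx hv hvA
  obtain ⟨σ, hσK, hσN, htr⟩ := hc.exists_sigma hK hnc
  obtain ⟨g, hg, hgs, hgσ⟩ := h.exists_lift_commute hv hvA hK hnc hs2 hsC hsK hσK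
  have hAC : A ≤ centralizer ((zpowers v) : Set G) := h.le_centralizer_zpowers hv hvA
  set H := centralizer ((zpowers v) : Set G) ⊓ centralizer ({s} : Set G)
  have hAH : A ≤ H := fun a ha => ⟨hAC ha, mem_centralizer_singleton_iff.2
    (h.mem_centralizer_of_commute hsA ha).symm⟩
  have hgH : g ∈ H := ⟨hg, mem_centralizer_singleton_iff.2 hgs⟩
  obtain ⟨k, hk, hkN⟩ := h.exists_lift_normalizer hv hvA (H := H) inf_le_left hAH hgH (by
    rw [show (⟨g, (inf_le_left : H ≤ _) hgH⟩ : ↥(centralizer ((zpowers v) : Set G))) = ⟨g, hg⟩ from rfl, hgσ]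
    exact hσN)
  have hkC : k * g ∈ centralizer ((zpowers v) : Set G) := mul_mem hk.2.1 hg
  have e : proj (zpowers v) ⟨k * g, hkC⟩ = σ := by
    rw [show (⟨k * g, hkC⟩ : ↥(centralizer ((zpowers v) : Set G))) = ⟨k, hk.2.1⟩ * ⟨g, hg⟩ from rfl, map_mul,
      (proj_eq_one_iff _).2 hk.1, one_mul, hgσ]
  refine ⟨k * g, hkN, fun hkA => ?_, ?_, ?_, hkC, e ▸ hσK⟩
  · -- `σ` moves the image of `A`
    have hfix : σ ∈ centralizer (imageBar (zpowers v) A : Set (CBar (zpowers v))) := mem_centralizer_iff.2 (by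
      rintro _ ⟨⟨b, hb⟩, hbA, rfl⟩
      rw [← e, ← map_mul, ← map_mul]
      exact congrArg _ (Subtype.ext (mem_centralizer_iff.1 hkA b (mem_subgroupOf.1 hbA))))
    obtain ⟨a, ha, ha1⟩ := (imageBar (zpowers v) A).bot_or_exists_ne_one.resolve_left fun e' => by
      have := hc.card; rw [e', card_bot] at this; omega
    obtain ⟨b, hb, hb1, hba⟩ := hc.exists_pair (a := a) ha1
    obtain ⟨j, hj⟩ := htr a ha ha1 b hb hb1
    refine hba ?_
    rw [← hj, ← mem_centralizer_iff.1 (pow_mem hfix j) a ha, mul_inv_cancel_right]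
  · exact (mem_centralizer_iff.1 hkC v (mem_zpowers v)).symm
  · exact mem_centralizer_singleton_iff.1 (mul_mem hk.2.2 hgH.2)

/-- An element of `A` centralising `K` is trivial. -/
theorem eq_one_of_centralizes {a : G} (ha : a ∈ A)
    (hK' : proj (zpowers v) ⟨a, h.le_centralizer_zpowers hv hvA ha⟩ ∈
      centralizer (K : Set (CBar (zpowers v)))) : a = 1 := by
  have hc := h.ctx hv hvA
  have hb := mem_imageBar (B := zpowers v) (h.le_centralizer_zpowers hv hvA ha) ha
  have h1 := hc.eq_one_of_center hK hnc (x := ⟨_, hc.le hK hnc hb⟩) hb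
    (mem_center_iff.2 fun k => Subtype.ext (mem_centralizer_iff.1 hK' k k.2))
  refine h.bar_injective hv hvA ha (one_mem A) ?_
  rw [show (⟨1, h.le_centralizer_zpowers hv hvA (one_mem A)⟩ : ↥(centralizer (zpowers v : Set G))) = 1
    from rfl, map_one]
  exact congrArg Subtype.val h1

/-- On a component with `t ≠ 1` a 2-element acts as an element of `A`. -/
theorem split {a : CBar (zpowers v)} (ha : a ∈ imageBar (zpowers v) A) (ha1 : a ≠ 1)
    (ht : (centralizer (imageBar (zpowers v) A : Set (CBar (zpowers v)))).relIndex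
      (centralizer ({a} : Set (CBar (zpowers v))) ⊓ K) ≠ 1)
    {s : G} (hs : ∃ j : ℕ, orderOf s = 2 ^ j) (hsA : s ∈ centralizer (A : Set G))
    (hsC : s ∈ centralizer (zpowers v : Set G)) :
    ∃ g, ∃ hg : g ∈ A, proj (zpowers v) (⟨g, h.le_centralizer_zpowers hv hvA hg⟩ * ⟨s, hsC⟩) ∈
      centralizer (K : Set (CBar (zpowers v))) := by
  have hc := h.ctx hv hvA
  obtain ⟨-, -, P, hP, hPO⟩ := hc.big_data hK hnc ha ha1 ht
  obtain ⟨j, hj⟩ := hs
  obtain ⟨g, hg, hgK⟩ := hc.split hK hnc P hP hPO (s := proj (zpowers v) ⟨s, hsC⟩) (by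
      obtain ⟨i, -, hi⟩ := (Nat.dvd_prime_pow Nat.prime_two).1
        (show orderOf (proj (zpowers v) ⟨s, hsC⟩) ∣ 2 ^ j from
          (orderOf_map_dvd _ _).trans (dvd_of_eq (by rw [Subgroup.orderOf_mk, hj])))
      exact ⟨i, hi⟩)
    (mem_centralizer_iff.2 (by
      rintro _ ⟨⟨b, hb⟩, hbA, rfl⟩
      rw [← map_mul, ← map_mul]
      exact congrArg _ (Subtype.ext (mem_centralizer_iff.1 hsA b (mem_subgroupOf.1 hbA)))))
  obtain ⟨⟨g, hgC⟩, hgA, rfl⟩ := hg
  refine ⟨g, mem_subgroupOf.1 hgA, ?_⟩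
  rw [map_mul]
  exact hgK

/-- An involution centralises the component iff it commutes with a rotation of `A` in `C(v)`. -/
theorem mem_iff_rot {a : CBar (zpowers v)} (ha : a ∈ imageBar (zpowers v) A) (ha1 : a ≠ 1)
    (ht : (centralizer (imageBar (zpowers v) A : Set (CBar (zpowers v)))).relIndex
      (centralizer ({a} : Set (CBar (zpowers v))) ⊓ K) ≠ 1)
    {s : G} (hs2 : s * s = 1) (hsA : s ∈ centralizer (A : Set G))
    (hsC : s ∈ centralizer (zpowers v : Set G)) :
    proj (zpowers v) ⟨s, hsC⟩ ∈ centralizer (K : Set (CBar (zpowers v))) ↔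
      ∃ n ∈ normalizer (A : Set G), n ∉ centralizer (A : Set G) ∧ n * v = v * n ∧ n * s = s * n := by
  constructor
  · intro hsK
    obtain ⟨n, hn, hnA, hnv, hns, -⟩ := h.exists_rot hv hvA hK hnc hs2 hsA hsC hsK
    exact ⟨n, hn, hnA, hnv, hns⟩
  rintro ⟨n, hn, hnA, hnv, hns⟩
  have hc := h.ctx hv hvA
  haveI := hc.normal hK hnc
  obtain ⟨j, hj⟩ : ∃ j : ℕ, orderOf s = 2 ^ j := by
    obtain ⟨i, -, hi⟩ := (Nat.dvd_prime_pow Nat.prime_two).1
      (orderOf_dvd_of_pow_eq_one (x := s) (n := 2 ^ 1) (by rw [pow_one, pow_two, hs2]))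
    exact ⟨i, hi⟩
  obtain ⟨g, hg, hgK⟩ := h.split hv hvA hK hnc ha ha1 ht ⟨j, hj⟩ hsA hsC
  have hgC := h.le_centralizer_zpowers hv hvA hg
  have hnC : n ∈ centralizer ((zpowers v) : Set G) := by
    rw [Walter.centralizer_zpowers, mem_centralizer_singleton_iff]; exact hnv
  have hng := h.conj_mem hn hg
  have hngC := h.le_centralizer_zpowers hv hvA hng
  have h1 : proj (zpowers v) (⟨n * g * n⁻¹, hngC⟩ * ⟨s, hsC⟩) ∈ centralizer (K : Set (CBar (zpowers v))) := by
    have h2 : proj (zpowers v) ⟨n, hnC⟩ * proj (zpowers v) (⟨g, hgC⟩ * ⟨s, hsC⟩) * (proj (zpowers v) ⟨n, hnC⟩)⁻¹ ∈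
        centralizer (K : Set (CBar (zpowers v))) :=
      Subgroup.Normal.conj_mem inferInstance _ hgK _
    rw [← map_inv, ← map_mul, ← map_mul] at h2
    have e : (⟨n, hnC⟩ * (⟨g, hgC⟩ * ⟨s, hsC⟩) * ⟨n, hnC⟩⁻¹ : ↥(centralizer ((zpowers v) : Set G))) =
        ⟨n * g * n⁻¹, hngC⟩ * ⟨s, hsC⟩ := Subtype.ext (by
      show n * (g * s) * n⁻¹ = n * g * n⁻¹ * s
      rw [mul_assoc (n * g) n⁻¹ s, show n⁻¹ * s = s * n⁻¹ from
        (show Commute n s from hns).inv_left.eq]
      group)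
    rwa [e] at h2
  have hgg := mul_mem hng (inv_mem hg)
  have h3 : n * g * n⁻¹ * g⁻¹ = 1 := by
    refine h.eq_one_of_centralizes hv hvA hK hnc hgg ?_
    have h4 := mul_mem h1 (inv_mem hgK)
    rw [← map_inv, ← map_mul] at h4
    have e : ((⟨n * g * n⁻¹, hngC⟩ : ↥(centralizer ((zpowers v) : Set G))) * ⟨s, hsC⟩ *
        (⟨g, hgC⟩ * ⟨s, hsC⟩)⁻¹) = ⟨n * g * n⁻¹ * g⁻¹, h.le_centralizer_zpowers hv hvA hgg⟩ :=
      Subtype.ext (by
        show n * g * n⁻¹ * s * (g * s)⁻¹ = n * g * n⁻¹ * g⁻¹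
        group)
    rwa [e] at h4
  have hg1 : g = 1 := by
    by_contra hg1
    exact hnA (h.mem_centralizer_of_fixed hn hg hg1 (mul_inv_eq_one.1 h3))
  subst hg1
  have e : ((⟨1, hgC⟩ : ↥(centralizer ((zpowers v) : Set G))) * ⟨s, hsC⟩) = ⟨s, hsC⟩ := Subtype.ext (one_mul s)
  rwa [e] at hgK

end Component

end Setting

end Cfsg.Agent.Lib.Goldschmidt53.RankTwoBad
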