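import Cfsg.Agent.Lib.Goldschmidt53.RankTwoBadBase
import Cfsg.Agent.Lib.Goldschmidt53.RankTwoBadDihedral
import Cfsg.Agent.Lib.Goldschmidt53.RankTwoBadKnown

/-!
# Rank two, bad involutions: the centraliser modulo its core, abstractly

Owner: helper41.  In a group `X` without odd core with a four-group `A` strongly closed, central in
its centraliser up to odd cores: either `A` is normal, or it lies in a normal component `K`,
`X = K C(A)`, and the class of `a ∈ A` has `i` members, `i - 2t²` of them with odd product with `a`,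
`t = |C_K(a) : C_K(A)|`.
-/

set_option autoImplicit false
set_option linter.style.haveILetI false
set_option linter.unusedSectionVars false

universe u

namespace Cfsg.Agent.Lib.Goldschmidt53.RankTwoBad

open Subgroup
open Cfsg.Agent.Lib.Components

variable {X : Type u} [Group X]

/-- What is used about the centraliser modulo its core. -/
structure Ctx [Finite X] (A : Subgroup X) : Prop where
  core : Cfsg.oddCore X = ⊥
  card : Nat.card ↥A = 4
  elem : Cfsg.IsElementaryAbelian 2 A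
  closed : ∀ U : Sylow 2 X, A ≤ (U : Subgroup X) → Cfsg.IsStronglyClosed A (U : Subgroup X)
  decomp : Decomp A
  cover : ∀ K : Subgroup X, Cfsg.IsComponent K → ¬ A ≤ centralizer (K : Set X) →
    A ≤ K ∧ ∀ x : ↥K, (x : X) ∈ A → x ∈ Subgroup.center ↥K → x = 1
  rigid : ∀ n ∈ normalizer (A : Set X), ∀ a ∈ A, a ≠ 1 → n * a * n⁻¹ = a →
    n ∈ centralizer (A : Set X)
  prod : ∀ a ∈ A, a ≠ 1 → IsProd A a ⊤
  facts : PropFacts.{u}

/-- The class of `a` under `K`. -/
def cls (K : Subgroup X) (a : X) : Set X := {y | ∃ k ∈ K, k * a * k⁻¹ = y}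

theorem commute_of_mod_center (K : Subgroup X) (hK : Group.IsPerfect ↥K) {g : X}
    (hg : ∀ k : ↥K, ∃ z ∈ Subgroup.center ↥K, g * (k : X) * g⁻¹ = (z : X) * k) :
    g ∈ centralizer (K : Set X) := by
  choose z hz he using hg
  let f : ↥K →* ↥(Subgroup.center ↥K) :=
    MonoidHom.mk' (fun k => ⟨z k, hz k⟩) fun a b => by
      refine Subtype.ext (Subtype.ext ?_)
      show ((z (a * b) : ↥K) : X) = (z a : X) * (z b : X)
      have hc : ((z b : ↥K) : X) * (a : X) = (a : X) * (z b : X) :=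
        (congrArg Subtype.val (mem_center_iff.1 (hz b) a)).symm
      refine mul_right_cancel (b := ((a * b : ↥K) : X)) ?_
      rw [← he (a * b), Subgroup.coe_mul]
      calc g * ((a : X) * b) * g⁻¹ = (g * a * g⁻¹) * (g * b * g⁻¹) := by group
        _ = (z a : X) * ((a : X) * (z b : X)) * b := by rw [he a, he b]; group
        _ = (z a : X) * (z b : X) * ((a : X) * b) := by rw [← hc]; group
  haveI : IsMulCommutative ↥(Subgroup.center ↥K) := inferInstance
  refine mem_centralizer_iff.2 fun k hk => ?_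
  have h1 : (⟨k, hk⟩ : ↥K) ∈ f.ker := by
    have hle : commutator ↥K ≤ f.ker := by
      rw [commutator_def, commutator_le]
      intro a _ b _
      rw [MonoidHom.mem_ker, map_commutatorElement, commutatorElement_eq_one_iff_mul_comm]
      exact setLike_mul_comm (f a).2 (f b).2 |> fun e => Subtype.ext e
    exact hle (hK.commutator_eq_top ▸ mem_top _)
  have h2 : (z ⟨k, hk⟩ : ↥K) = 1 := congrArg Subtype.val (MonoidHom.mem_ker.1 h1)
  have h3 := he ⟨k, hk⟩
  rw [h2, OneMemClass.coe_one, one_mul] at h3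
  exact (mul_inv_eq_iff_eq_mul.1 h3).symm

variable [Finite X] {A : Subgroup X}

namespace Ctx

variable (c : Ctx A)
include c

theorem sq {a : X} (ha : a ∈ A) : a * a = 1 := by
  rw [← pow_two]; exact c.elem.2 a ha

theorem comm {a b : X} (ha : a ∈ A) (hb : b ∈ A) : a * b = b * a :=
  PGroups.elemAb_comm c.elem ha hb

theorem inv_eq {a : X} (ha : a ∈ A) : a⁻¹ = a := inv_eq_of_mul_eq_one_right (c.sq ha)

theorem orderOf_eq {a : X} (ha : a ∈ A) (ha1 : a ≠ 1) : orderOf a = 2 :=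
  Involutions.Basic.invol_iff.2 ⟨c.sq ha, ha1⟩

theorem le_centralizer : A ≤ centralizer (A : Set X) := fun _ ha =>
  mem_centralizer_iff.2 fun _ hb => c.comm hb ha

theorem centralizer_le {a : X} (ha : a ∈ A) :
    centralizer (A : Set X) ≤ centralizer ({a} : Set X) :=
  Subgroup.centralizer_le (Set.singleton_subset_iff.2 ha)

theorem exists_pair {a : X} (ha1 : a ≠ 1) :
    ∃ b ∈ A, b ≠ 1 ∧ b ≠ a := by
  by_contra hcon
  push Not at hcon
  have hsub : (A : Set X) ⊆ {1, a} := fun b hb => by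
    by_cases h1 : b = 1
    · exact Or.inl h1
    · exact Or.inr (hcon b hb h1)
  have h1 := Set.ncard_le_ncard hsub
  rw [← Nat.card_coe_set_eq] at h1
  have h2 : ({1, a} : Set X).ncard ≤ 2 := (Set.ncard_insert_le _ _).trans (by simp)
  have h3 : Nat.card ↥(A : Set X) = 4 := c.card
  omega

theorem cases {a b : X} (ha : a ∈ A) (ha1 : a ≠ 1) (hb : b ∈ A) (hb1 : b ≠ 1) (hab : a ≠ b)
    {x : X} (hx : x ∈ A) : x = 1 ∨ x = a ∨ x = b ∨ x = a * b := by
  by_contra hcon
  push Not at hcon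
  have hsub : ({x, 1, a, b, a * b} : Set X) ⊆ A := by
    rintro y (rfl | rfl | rfl | rfl | rfl)
    exacts [hx, one_mem _, ha, hb, mul_mem ha hb]
  have h1 := Set.ncard_le_ncard hsub
  rw [← Nat.card_coe_set_eq (A : Set X)] at h1
  have h3 : Nat.card ↥(A : Set X) = 4 := c.card
  have hc : a * b ≠ 1 := fun e => hab (by rw [eq_inv_of_mul_eq_one_left e, c.inv_eq hb])
  have hca : a * b ≠ a := fun e => hb1 (mul_eq_left.1 e)
  have hcb : a * b ≠ b := fun e => ha1 (mul_eq_right.1 e)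
  rw [Set.ncard_insert_of_notMem (by simp [hcon.1, hcon.2.1, hcon.2.2.1, hcon.2.2.2]),
    Set.ncard_insert_of_notMem (by simp [Ne.symm ha1, Ne.symm hb1, Ne.symm hc]),
    Set.ncard_insert_of_notMem (by simp [hab, Ne.symm hca]),
    Set.ncard_insert_of_notMem (by simp [Ne.symm hcb]), Set.ncard_singleton] at h1
  omega

theorem isPGroup : IsPGroup 2 ↥A := PGroups.elemAb_isPGroup c.elem

/-- An element conjugate into `A` in a 2-subgroup through `A` lies in `A`. -/
theorem mem_of_conj {P : Subgroup X} (hP : IsPGroup 2 ↥P) (hAP : A ≤ P) {a g : X} (ha : a ∈ A)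
    (hg : g * a * g⁻¹ ∈ P) : g * a * g⁻¹ ∈ A := by
  obtain ⟨U, hU⟩ := hP.exists_le_sylow
  exact (c.closed U (hAP.trans hU)).2 a ha g (hU hg)

/-- A conjugate of an involution of `A` commutes with the 2-subgroups containing it. -/
theorem conj_commute {P : Subgroup X} (hP : IsPGroup 2 ↥P) {a g : X} (ha : a ∈ A)
    {y : X} (hy : y ∈ P) (hgP : g * a * g⁻¹ ∈ P) {b h : X} (hb : b ∈ A)
    (hh : h * b * h⁻¹ = y) : g * a * g⁻¹ * y = y * (g * a * g⁻¹) := by
  haveI : Fact (Nat.Prime 2) := ⟨Nat.prime_two⟩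
  obtain ⟨T, hT⟩ := hP.exists_le_sylow
  obtain ⟨U, hU⟩ := c.isPGroup.exists_le_sylow
  obtain ⟨k, hk⟩ := MulAction.exists_smul_eq X T U
  have hmem : ∀ z ∈ P, k * z * k⁻¹ ∈ (U : Subgroup X) := fun z hz =>
    ZStar.Elements.smul_mem hk (hT hz)
  have h1 : k * g * a * (k * g)⁻¹ ∈ A := (c.closed U hU).2 a ha _ (by
    have := hmem _ hgP
    rwa [show k * g * a * (k * g)⁻¹ = k * (g * a * g⁻¹) * k⁻¹ by group])
  have h2 : k * h * b * (k * h)⁻¹ ∈ A := (c.closed U hU).2 b hb _ (by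
    have := hmem _ hy
    rwa [show k * h * b * (k * h)⁻¹ = k * y * k⁻¹ by rw [← hh]; group])
  have h3 := c.comm h1 h2
  rw [show k * g * a * (k * g)⁻¹ = k * (g * a * g⁻¹) * k⁻¹ by group,
    show k * h * b * (k * h)⁻¹ = k * y * k⁻¹ by rw [← hh]; group] at h3
  have h4 : k * (g * a * g⁻¹ * y) * k⁻¹ = k * (y * (g * a * g⁻¹)) * k⁻¹ := by
    calc _ = k * (g * a * g⁻¹) * k⁻¹ * (k * y * k⁻¹) := by group
      _ = k * y * k⁻¹ * (k * (g * a * g⁻¹) * k⁻¹) := h3
      _ = _ := by group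
  exact mul_left_cancel (mul_right_cancel h4)

/-- An odd subgroup normalised by a normal subgroup containing it is trivial. -/
theorem eq_bot_of_normalized {M N : Subgroup X} (hM : M.Normal) (hNM : N ≤ M)
    (hn : M ≤ normalizer (N : Set X)) (hodd : Odd (Nat.card ↥N)) : N = ⊥ := by
  haveI : Fact (Nat.Prime 2) := ⟨Nat.prime_two⟩
  haveI := hM
  haveI : (N.subgroupOf M).Normal := (Subgroup.normal_subgroupOf_iff_le_normalizer hNM).2 hn
  have hcard : Odd (Nat.card ↥(N.subgroupOf M)) := by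
    rwa [Nat.card_congr (Subgroup.subgroupOfEquivOfLe hNM).toEquiv]
  have h1 : N.subgroupOf M ≤ Cfsg.oddCore ↥M := Cores.le_oddCore hcard
  haveI : (Cfsg.oddCore ↥M).Characteristic := Cores.pPrimeCore_characteristic 2
  haveI : ((Cfsg.oddCore ↥M).map M.subtype).Normal := inferInstance
  have h2 : (Cfsg.oddCore ↥M).map M.subtype ≤ Cfsg.oddCore X := Cores.le_oddCore (by
    rw [card_map_of_injective M.subtype_injective]; exact Cores.oddCore_odd)
  rw [c.core] at h2
  refine le_bot_iff.1 fun x hx => h2 ?_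
  exact ⟨⟨x, hNM hx⟩, h1 (mem_subgroupOf.2 hx), rfl⟩

/-- Without a component outside `C(A)`, `A` is normal. -/
theorem normal_of_no_component (hno : ∀ K : Subgroup X, Cfsg.IsComponent K →
    A ≤ centralizer (K : Set X)) (g : X) : g ∈ normalizer (A : Set X) := by
  obtain ⟨k, hk, hkg⟩ := c.decomp.frattini g
  have hkC : k ∈ centralizer (A : Set X) := mem_centralizer_iff.2 fun a ha => by
    have := Walter.Pairs.mem_centralizer_layer (c := a) fun K hK => hno K hK ha
    exact (mem_centralizer_iff.1 this k hk).symm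
  have := mul_mem (inv_mem (centralizer_le_normalizer _ hkC)) hkg
  rwa [inv_mul_cancel_left] at this

section Component

variable {K : Subgroup X} (hK : Cfsg.IsComponent K) (hnc : ¬ A ≤ centralizer (K : Set X))
include hK hnc

theorem le : A ≤ K := (c.cover K hK hnc).1

theorem eq_one_of_center {x : ↥K} (hx : (x : X) ∈ A) (hz : x ∈ Subgroup.center ↥K) : x = 1 :=
  (c.cover K hK hnc).2 x hx hz

/-- The component is normal. -/
theorem normal : K.Normal := by
  constructor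
  intro k hk g
  -- layer elements normalise `K`
  have hlay : ∀ l ∈ Cfsg.layer X, l ∈ normalizer (K : Set X) := by
    have hle : Cfsg.layer X ≤ normalizer (K : Set X) := sSup_le fun K' hK' => by
      by_cases he : K' = K
      · rw [he]; exact le_normalizer
      · exact (Component.le_centralizer_of_ne hK' hK he).trans (centralizer_le_normalizer _)
    exact fun l hl => hle hl
  obtain ⟨l, hl, hlg⟩ := c.decomp.frattini g
  have hK' : Cfsg.IsComponent (K.map (MulAut.conj (l * g)).toMonoidHom) := Component.conj hK _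
  have heq : K.map (MulAut.conj (l * g)).toMonoidHom = K := by
    by_contra he
    refine hnc ((fun a ha => ?_ : A ≤ centralizer (K : Set X)))
    have ha' : a ∈ K.map (MulAut.conj (l * g)).toMonoidHom := by
      refine ⟨(l * g)⁻¹ * a * (l * g), c.le hK hnc ?_, by simp [MulAut.conj_apply, mul_assoc]⟩
      have := (Subgroup.mem_normalizer_iff.1 (inv_mem hlg) a).1 ha
      rwa [inv_inv] at this
    exact Component.le_centralizer_of_ne hK' hK he ha'
  have h1 : l * g * k * (l * g)⁻¹ ∈ K := by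
    have h2 := mem_map_of_mem (MulAut.conj (l * g)).toMonoidHom hk
    rw [heq] at h2
    exact h2
  have h2 := (Subgroup.mem_normalizer_iff.1 (inv_mem (hlay l hl)) _).1 h1
  simpa [mul_assoc] using h2

omit hnc in
theorem center_le {z : ↥K} (hz : z ∈ Subgroup.center ↥K) : (z : X) ∈ Cfsg.pCore 2 X := by
  haveI : Fact (Nat.Prime 2) := ⟨Nat.prime_two⟩
  rw [← Balance.fitting_eq_pCore c.core]
  refine Cores.IsSubnormal.le_fittingSubgroup
    ((Subgroup.Normal.isSubnormal inferInstance).trans' hK.1) ?_ (mem_map_of_mem K.subtype hz)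
  exact Cores.isNilpotent_map K.subtype (open IsMulCommutative in inferInstance)

/-- A conjugate of an element of `A` in `A Z(K)` lies in `A`. -/
theorem center_eq_one {g a : X} (ha : a ∈ A) {y : X} (hy : y ∈ A) {z : ↥K}
    (hz : z ∈ Subgroup.center ↥K) (he : g * a * g⁻¹ = y * z) : (z : X) = 1 := by
  haveI : Fact (Nat.Prime 2) := ⟨Nat.prime_two⟩
  obtain ⟨U, hU⟩ := c.isPGroup.exists_le_sylow
  have h1 := (c.closed U hU).2 a ha g (by
    rw [he]; exact mul_mem (hU hy) (Cores.pCore_le_sylow U (c.center_le hK hz)))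
  have h2 : (z : X) ∈ A := by
    have := mul_mem (inv_mem hy) h1
    rwa [he, inv_mul_cancel_left] at this
  rw [c.eq_one_of_center hK hnc h2 hz, OneMemClass.coe_one]

theorem known : IsKnown (↥K ⧸ Subgroup.center ↥K) ∧
    ∃ P : Sylow 2 (↥K ⧸ Subgroup.center ↥K),
      (A.subgroupOf K).map (QuotientGroup.mk' (Subgroup.center ↥K)) = Om P :=
  (c.decomp.cases K hK).resolve_left hnc

/-- An element of `K` permuting the involutions of `A` transitively. -/
theorem exists_sigma : ∃ σ ∈ K, σ ∈ normalizer (A : Set X) ∧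
    ∀ a ∈ A, a ≠ 1 → ∀ b ∈ A, b ≠ 1 → ∃ j : ℕ, σ ^ j * a * (σ ^ j)⁻¹ = b := by
  obtain ⟨hkn, P, hP⟩ := c.known hK hnc
  obtain ⟨n, hn, -, htr⟩ := (c.facts _ hkn).torus P
  obtain ⟨σ, rfl⟩ := QuotientGroup.mk'_surjective (Subgroup.center ↥K) n
  set q := QuotientGroup.mk' (Subgroup.center ↥K)
  have hinj : ∀ x y : ↥K, (x : X) ∈ A → (y : X) ∈ A → q x = q y → x = y := by
    intro x y hx hy e
    have h1 : x⁻¹ * y ∈ Subgroup.center ↥K := QuotientGroup.eq.1 e
    exact inv_mul_eq_one.1 (c.eq_one_of_center hK hnc (mul_mem (inv_mem hx) hy) h1)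
  have hmem : ∀ x : ↥K, (x : X) ∈ A → q x ∈ Om P := fun x hx => by
    rw [← hP]; exact mem_map_of_mem q (mem_subgroupOf.2 hx)
  have hstep : ∀ (j : ℕ) (x y : ↥K), (x : X) ∈ A → (y : X) ∈ A →
      q σ ^ j * q x * (q σ ^ j)⁻¹ = q y → (σ : X) ^ j * x * ((σ : X) ^ j)⁻¹ = y := by
    intro j x y hx hy e
    rw [← map_pow, ← map_inv, ← map_mul, ← map_mul] at e
    have h1 : y⁻¹ * (σ ^ j * x * (σ ^ j)⁻¹) ∈ Subgroup.center ↥K := QuotientGroup.eq.1 e.symm
    have h2 := c.center_eq_one hK hnc (g := (σ : X) ^ j) hx hy h1 (by simp)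
    simp only [Subgroup.coe_mul, InvMemClass.coe_inv, SubmonoidClass.coe_pow] at h2
    exact (inv_mul_eq_one.1 h2).symm
  refine ⟨σ, σ.2, ?_, fun a ha ha1 b hb hb1 => ?_⟩
  · refine Subgroup.mem_normalizer_iff_map_conj_eq.2 (Subgroup.eq_of_le_of_card_ge ?_
      (Subgroup.card_map_of_injective (MulAut.conj (σ : X)).injective).ge)
    rintro _ ⟨a, ha, rfl⟩
    by_cases ha1 : a = 1
    · simp [ha1]
    have h1 : q σ * q ⟨a, c.le hK hnc ha⟩ * (q σ)⁻¹ ∈ Om P := by
      have hnorm : ∀ y ∈ Om P, q σ * y * (q σ)⁻¹ ∈ Om P := by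
        intro y hy
        have hle : (Om P).map (MulAut.conj (q σ)).toMonoidHom ≤ Om P := by
          refine Subgroup.map_le_iff_le_comap.2 ((closure_le _).2 ?_)
          rintro w ⟨hw, hw2⟩
          refine subset_closure ⟨(Subgroup.mem_normalizer_iff.1 hn w).1 hw, ?_⟩
          rw [← map_pow, hw2, map_one]
        exact hle (mem_map_of_mem _ hy)
      exact hnorm _ (hmem _ ha)
    rw [← hP] at h1
    obtain ⟨y, hy, e⟩ := h1
    have h2 := hstep 1 ⟨a, c.le hK hnc ha⟩ y ha (mem_subgroupOf.1 hy) (by rw [pow_one]; exact e.symm)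
    rw [pow_one] at h2
    show (σ : X) * a * (σ : X)⁻¹ ∈ A
    rw [h2]
    exact mem_subgroupOf.1 hy
  · have hne : ∀ x : ↥K, (x : X) ∈ A → (x : X) ≠ 1 → q x ≠ 1 := fun x hx hx1 e => hx1 (by
      rw [hinj x 1 hx (one_mem _) (by rw [e, map_one]), OneMemClass.coe_one])
    obtain ⟨j, hj⟩ := htr _ (hmem ⟨a, c.le hK hnc ha⟩ ha) (hne _ ha ha1) _
      (hmem ⟨b, c.le hK hnc hb⟩ hb) (hne _ hb hb1)
    exact ⟨j, hstep j _ ⟨b, c.le hK hnc hb⟩ ha hb hj⟩

/-- `X = K C(A)`. -/
theorem exists_mul (g : X) : ∃ k ∈ K, ∃ n ∈ centralizer (A : Set X), k * n = g := by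
  haveI := c.normal hK hnc
  obtain ⟨l, hl, hlg⟩ := c.decomp.frattini g
  have hle : Cfsg.layer X ≤ K ⊔ centralizer (A : Set X) := sSup_le fun K' hK' => by
    by_cases he : K' = K
    · rw [he]; exact le_sup_left
    · intro x hx
      refine mem_sup_right (mem_centralizer_iff.2 fun a ha => ?_)
      exact mem_centralizer_iff.1 (Component.le_centralizer_of_ne hK' hK he hx) a (c.le hK hnc ha)
  obtain ⟨k₀, hk₀, n₀, hn₀, rfl⟩ := (Subgroup.mem_sup_of_normal_left).1 (hle hl)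
  obtain ⟨σ, hσK, hσN, htr⟩ := c.exists_sigma hK hnc
  -- `k₀ g` normalises `A` up to `C(A)`
  set m := n₀⁻¹ * (k₀⁻¹ * (k₀ * n₀ * g)) with hm
  obtain ⟨a, ha, ha1, -⟩ : ∃ a ∈ A, a ≠ 1 ∧ True := by
    obtain ⟨b, hb, hb1⟩ := A.bot_or_exists_ne_one.resolve_left (fun e => by
      have := c.card; rw [e, card_bot] at this; omega)
    exact ⟨b, hb, hb1, trivial⟩
  have hyA := (Subgroup.mem_normalizer_iff.1 hlg a).1 ha
  have hy1 : k₀ * n₀ * g * a * (k₀ * n₀ * g)⁻¹ ≠ 1 := fun e => ha1 (conj_eq_one_iff.1 e)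
  obtain ⟨j, hj⟩ := htr a ha ha1 _ hyA hy1
  have hmem : (σ ^ j)⁻¹ * (k₀ * n₀ * g) ∈ centralizer (A : Set X) := by
    refine c.rigid _ (mul_mem (inv_mem (pow_mem hσN j)) hlg) a ha ha1 ?_
    calc (σ ^ j)⁻¹ * (k₀ * n₀ * g) * a * ((σ ^ j)⁻¹ * (k₀ * n₀ * g))⁻¹ =
        (σ ^ j)⁻¹ * (k₀ * n₀ * g * a * (k₀ * n₀ * g)⁻¹) * σ ^ j := by group
      _ = (σ ^ j)⁻¹ * (σ ^ j * a * (σ ^ j)⁻¹) * σ ^ j := by rw [hj]
      _ = a := by group
  refine ⟨n₀⁻¹ * (k₀⁻¹ * σ ^ j) * n₀, ?_, n₀⁻¹ * ((σ ^ j)⁻¹ * (k₀ * n₀ * g)),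
    mul_mem (inv_mem hn₀) hmem, by group⟩
  have := (c.normal hK hnc).conj_mem _ (mul_mem (inv_mem hk₀) (pow_mem hσK j)) n₀⁻¹
  rwa [inv_inv] at this

/-- The class of `a` under `K` is its class. -/
theorem cls_conj {a : X} (ha : a ∈ A) (g : X) : g * a * g⁻¹ ∈ cls K a := by
  obtain ⟨k, hk, n, hn, rfl⟩ := c.exists_mul hK hnc g
  refine ⟨k, hk, ?_⟩
  rw [show k * n * a * (k * n)⁻¹ = k * (n * a * n⁻¹) * k⁻¹ by group,
    ← mem_centralizer_iff.1 hn a ha, mul_inv_cancel_right]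

/-- The classes of the involutions of `A` coincide. -/
theorem cls_eq {a b : X} (ha : a ∈ A) (ha1 : a ≠ 1) (hb : b ∈ A) (hb1 : b ≠ 1) :
    b ∈ cls K a := by
  obtain ⟨σ, hσK, -, htr⟩ := c.exists_sigma hK hnc
  obtain ⟨j, hj⟩ := htr a ha ha1 b hb hb1
  exact ⟨σ ^ j, pow_mem hσK j, hj⟩

/-- `b` has `t` conjugates under `C_K(a)`. -/
theorem ncard_orbit {a b : X} (ha : a ∈ A) (ha1 : a ≠ 1) (hb : b ∈ A) (hb1 : b ≠ 1) (hab : a ≠ b) :
    {y | ∃ k ∈ centralizer ({a} : Set X) ⊓ K, k * b * k⁻¹ = y}.ncard =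
      (centralizer (A : Set X)).relIndex (centralizer ({a} : Set X) ⊓ K) := by
  classical
  set H := centralizer ({a} : Set X) ⊓ K
  have hAb : ∀ k ∈ H, k * b * k⁻¹ = b ↔ k ∈ centralizer (A : Set X) := fun k hk => by
    refine ⟨fun e => mem_centralizer_iff.2 fun z hz => ?_, fun hkA => by
      rw [← mem_centralizer_iff.1 hkA b hb, mul_inv_cancel_right]⟩
    have e1 : k * a = a * k := mem_centralizer_singleton_iff.1 hk.1
    have e2 : k * b = b * k := mul_inv_eq_iff_eq_mul.1 e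
    rcases c.cases ha ha1 hb hb1 hab hz with rfl | rfl | rfl | rfl
    · rw [one_mul, mul_one]
    · exact e1.symm
    · exact e2.symm
    · rw [← mul_assoc, e1, mul_assoc a k b, e2, mul_assoc]
  let f : ↥H ⧸ (centralizer (A : Set X)).subgroupOf H → X :=
    Quotient.lift (fun k : ↥H => (k : X) * b * (k : X)⁻¹) fun x y hxy => by
      have h1 := QuotientGroup.leftRel_apply.1 hxy
      rw [mem_subgroupOf, Subgroup.coe_mul, InvMemClass.coe_inv] at h1
      have h2 := (hAb _ (mul_mem (inv_mem x.2) y.2)).2 h1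
      calc (x : X) * b * (x : X)⁻¹ = (x : X) * ((x : X)⁻¹ * y * b * ((x : X)⁻¹ * y)⁻¹) * (x : X)⁻¹ := by
            rw [h2]
        _ = _ := by group
  have hrange : {y | ∃ k ∈ H, k * b * k⁻¹ = y} = Set.range f := by
    ext y
    constructor
    · rintro ⟨k, hk, rfl⟩
      exact ⟨QuotientGroup.mk ⟨k, hk⟩, rfl⟩
    · rintro ⟨⟨k⟩, rfl⟩
      exact ⟨k, k.2, rfl⟩
  rw [hrange, Set.ncard_range_of_injective (f := f) fun x y hxy => by
    obtain ⟨x, rfl⟩ := QuotientGroup.mk_surjective x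
    obtain ⟨y, rfl⟩ := QuotientGroup.mk_surjective y
    refine QuotientGroup.eq.2 ?_
    rw [mem_subgroupOf, Subgroup.coe_mul, InvMemClass.coe_inv]
    refine (hAb _ (mul_mem (inv_mem x.2) y.2)).1 ?_
    have h1 : (x : X) * b * (x : X)⁻¹ = (y : X) * b * (y : X)⁻¹ := hxy
    calc (x : X)⁻¹ * y * b * ((x : X)⁻¹ * y)⁻¹ = (x : X)⁻¹ * ((y : X) * b * (y : X)⁻¹) * x := by group
      _ = b := by rw [← h1]; group]
  rfl

/-- A member of the class commuting with `a`, other than `a`, is a conjugate of some `b ≠ a` under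
`C_K(a)`. -/
theorem exists_of_commute {a : X} (ha : a ∈ A) (ha1 : a ≠ 1) {y : X} (hy : y ∈ cls K a)
    (hya : y * a = a * y) (hne : y ≠ a) :
    ∃ b ∈ A, b ≠ 1 ∧ b ≠ a ∧ ∃ k ∈ centralizer ({a} : Set X) ⊓ K, k * b * k⁻¹ = y := by
  haveI : Fact (Nat.Prime 2) := ⟨Nat.prime_two⟩
  set C := centralizer ({a} : Set X)
  have hyC : y ∈ C := mem_centralizer_singleton_iff.2 hya
  have hAC : A ≤ C := c.le_centralizer.trans (c.centralizer_le ha)
  obtain ⟨U, hU⟩ := ((c.isPGroup).of_equiv (subgroupOfEquivOfLe hAC).symm :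
    IsPGroup 2 ↥(A.subgroupOf C)).exists_le_sylow
  obtain ⟨k₁, -, hk₁⟩ := hy
  have hy2 : orderOf (⟨y, hyC⟩ : ↥C) = 2 := by
    rw [Subgroup.orderOf_mk, ← hk₁, Involutions.Basic.orderOf_conj_eq, c.orderOf_eq ha ha1]
  obtain ⟨V, hV⟩ := (IsPGroup.of_card (n := 1) (by rw [Nat.card_zpowers, hy2, pow_one]) :
    IsPGroup 2 ↥(zpowers (⟨y, hyC⟩ : ↥C))).exists_le_sylow
  obtain ⟨⟨h, hh⟩, hhe⟩ := MulAction.exists_smul_eq ↥C V U
  have hyU : h * y * h⁻¹ ∈ (U : Subgroup ↥C).map C.subtype :=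
    ⟨_, ZStar.Elements.smul_mem hhe (hV (mem_zpowers _)), rfl⟩
  have hAU : A ≤ (U : Subgroup ↥C).map C.subtype := fun z hz =>
    ⟨⟨z, hAC hz⟩, hU (mem_subgroupOf.2 hz), rfl⟩
  set b := h * y * h⁻¹ with hbdef
  have hbA : b ∈ A := by
    have := c.mem_of_conj (U.2.map C.subtype) hAU (g := h * k₁) ha (by
      rw [show h * k₁ * a * (h * k₁)⁻¹ = h * (k₁ * a * k₁⁻¹) * h⁻¹ by group, hk₁]; exact hyU)
    rwa [show h * k₁ * a * (h * k₁)⁻¹ = h * (k₁ * a * k₁⁻¹) * h⁻¹ by group, hk₁] at this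
  have hfix : h⁻¹ * a * h = a := by
    rw [mul_assoc, (mem_centralizer_singleton_iff.1 hh).symm, inv_mul_cancel_left]
  obtain ⟨k, hk, n, hn, hkn⟩ := c.exists_mul hK hnc h⁻¹
  refine ⟨b, hbA, fun e => ?_, fun e => hne ?_, k, Subgroup.mem_inf.2 ⟨?_, hk⟩, ?_⟩
  · have : y = 1 := conj_eq_one_iff.1 (e : h * y * h⁻¹ = 1)
    rw [Subgroup.orderOf_mk, this, orderOf_one] at hy2
    omega
  · rw [← hfix, ← e, hbdef]; group
  · have : k = h⁻¹ * n⁻¹ := by rw [← hkn]; group
    rw [this]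
    exact mul_mem (inv_mem hh) (inv_mem (c.centralizer_le ha hn))
  · have : k = h⁻¹ * n⁻¹ := by rw [← hkn]; group
    rw [this]
    have hb' : n⁻¹ * b * n = b := by
      rw [mul_assoc, mem_centralizer_iff.1 hn b hbA, inv_mul_cancel_left]
    calc h⁻¹ * n⁻¹ * b * (h⁻¹ * n⁻¹)⁻¹ = h⁻¹ * (n⁻¹ * b * n) * h := by group
      _ = y := by rw [hb', hbdef]; group

omit hK hnc in
/-- Under `C(a)` the product of conjugates of `b` has odd order, that with a conjugate of `ab` not. -/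
theorem odd_iff {a b : X} (ha : a ∈ A) (ha1 : a ≠ 1) (hb : b ∈ A) (hb1 : b ≠ 1) (hab : a ≠ b)
    {k : X} (hk : k ∈ centralizer ({a} : Set X)) :
    Odd (orderOf (k * b * k⁻¹ * b)) ∧ ¬ Odd (orderOf (k * (a * b) * k⁻¹ * b)) := by
  obtain ⟨o, ho, n, hn, rfl⟩ := c.prod a ha ha1 k ⟨hk, mem_top _⟩
  have hbn : n * b * n⁻¹ = b := by rw [← mem_centralizer_iff.1 hn.1 b hb, mul_inv_cancel_right]
  have han : n * (a * b) * n⁻¹ = a * b := by
    rw [← mem_centralizer_iff.1 hn.1 (a * b) (mul_mem ha hb), mul_inv_cancel_right]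
  have hbN : b ∈ normalizer ((Walter.core a : Subgroup X) : Set X) :=
    Walter.centralizer_le_normalizer_core a (c.centralizer_le ha (c.le_centralizer hb))
  have e1 : o * n * b * (o * n)⁻¹ * b = o * (b * o⁻¹ * b⁻¹) := by
    rw [c.inv_eq hb]
    calc o * n * b * (o * n)⁻¹ * b = o * (n * b * n⁻¹) * o⁻¹ * b := by group
      _ = _ := by rw [hbn]; group
  set m := o * (b * o⁻¹ * b⁻¹) with hm
  have hmO : m ∈ Walter.core a := mul_mem ho.1 ((Subgroup.mem_normalizer_iff.1 hbN _).1 (inv_mem ho.1))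
  have hmodd : Odd (orderOf m) := (Walter.odd_core a).of_dvd_nat
    (Subgroup.orderOf_dvd_natCard _ hmO)
  refine ⟨by rw [e1]; exact hmodd, ?_⟩
  have hoa : o * a = a * o := mem_centralizer_singleton_iff.1 (Walter.core_le a ho.1)
  have e2 : o * n * (a * b) * (o * n)⁻¹ * b = a * m := by
    calc o * n * (a * b) * (o * n)⁻¹ * b = o * (n * (a * b) * n⁻¹) * o⁻¹ * b := by group
      _ = o * a * b * o⁻¹ * b := by rw [han]; group
      _ = a * (o * (b * o⁻¹ * b⁻¹)) := by rw [hoa, c.inv_eq hb]; group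
      _ = a * m := rfl
  rw [e2, (show Commute a m from ((mem_centralizer_singleton_iff.1 (Walter.core_le a hmO)).symm :
      a * m = m * a)).orderOf_mul_eq_mul_orderOf_of_coprime (by
        rw [c.orderOf_eq ha ha1]; exact Nat.coprime_two_left.2 hmodd), c.orderOf_eq ha ha1]
  exact Nat.not_odd_iff_even.2 (even_two_mul _)

/-- The members of the class with odd product with `a`: `i - 2t²`. -/
theorem card_odd {a : X} (ha : a ∈ A) (ha1 : a ≠ 1) :
    {y | y ∈ cls K a ∧ Odd (orderOf (y * a))}.ncard +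
        2 * ((centralizer (A : Set X)).relIndex (centralizer ({a} : Set X) ⊓ K)) ^ 2 =
      (cls K a).ncard := by
  classical
  haveI : Fintype X := Fintype.ofFinite X
  set t := (centralizer (A : Set X)).relIndex (centralizer ({a} : Set X) ⊓ K)
  obtain ⟨b, hb, hb1, hba⟩ := c.exists_pair (a := a) ha1
  have hb' := mul_mem ha hb
  have hb'1 : a * b ≠ 1 := fun e => hba (by
    rw [eq_inv_of_mul_eq_one_right e, c.inv_eq ha])
  have hb'a : a * b ≠ a := fun e => hb1 (mul_eq_left.1 e)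
  have hbb' : a * b ≠ b := fun e => ha1 (mul_eq_right.1 e)
  have horb := fun d (hd : d ∈ A) (hd1 : d ≠ 1) (hda : a ≠ d) =>
    c.ncard_orbit hK hnc ha ha1 hd hd1 hda
  set D₁ := {y | ∃ k ∈ centralizer ({a} : Set X) ⊓ K, k * b * k⁻¹ = y}
  set D₂ := {y | ∃ k ∈ centralizer ({a} : Set X) ⊓ K, k * (a * b) * k⁻¹ = y}
  have hordcls : ∀ y ∈ cls K a, orderOf y = 2 := by
    rintro y ⟨k, -, rfl⟩
    rw [Involutions.Basic.orderOf_conj_eq, c.orderOf_eq ha ha1]
  -- the members with even product map to the commuting members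
  have key : ∀ y ∈ cls K a, ¬ Odd (orderOf (y * a)) →
      orderOf (y * a) % 4 = 2 ∧ half y a * a ∈ D₁ ∪ D₂ := by
    intro y hy hno
    have h4 : orderOf (y * a) % 4 = 2 := by
      by_contra h4
      have hev := Nat.not_odd_iff_even.1 hno
      have hd4 : 4 ∣ orderOf (y * a) := by
        obtain ⟨r, hr⟩ := hev
        omega
      obtain ⟨P, hP, -, haP, w, hwP, hw, hne⟩ :=
        exists_two_group (hordcls y hy) (c.orderOf_eq ha ha1) hd4
      obtain ⟨k, -, hk⟩ := hy
      obtain ⟨g, hg⟩ := isConj_iff.1 hw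
      refine hne ?_
      have := c.conj_commute hP (g := g * k) ha haP (by
        rw [show g * k * a * (g * k)⁻¹ = g * (k * a * k⁻¹) * g⁻¹ by group, hk, hg]; exact hwP)
        ha (h := 1) (by group)
      rwa [show g * k * a * (g * k)⁻¹ = g * (k * a * k⁻¹) * g⁻¹ by group, hk, hg] at this
    refine ⟨h4, ?_⟩
    obtain ⟨hd2, -, d, -, hd⟩ := conj_half_mul (hordcls y hy) (c.orderOf_eq ha ha1) h4
    obtain ⟨hz2, -, hza⟩ := half_spec (hordcls y hy) (c.orderOf_eq ha ha1) ⟨orderOf (y * a) / 2, by omega⟩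
    obtain ⟨k, -, hk⟩ := hy
    have hcl : half y a * a ∈ cls K a := by
      rw [← hd, ← hk, show d * (k * a * k⁻¹) * d⁻¹ = d * k * a * (d * k)⁻¹ by group]
      exact c.cls_conj hK hnc ha _
    have hne : half y a * a ≠ a := fun e => by
      rw [mul_eq_right.1 e, orderOf_one] at hz2; omega
    obtain ⟨d', hd'A, hd'1, hd'a, k', hk', hk'e⟩ := c.exists_of_commute hK hnc ha ha1 hcl
      (by rw [mul_assoc, ← mul_assoc a (half y a) a, ← hza.eq, mul_assoc (half y a) a a]) hne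
    rcases c.cases ha ha1 hb hb1 (Ne.symm hba) hd'A with e | e | e | e
    · exact absurd e hd'1
    · exact absurd e hd'a
    · exact Or.inl ⟨k', hk', e ▸ hk'e⟩
    · exact Or.inr ⟨k', hk', e ▸ hk'e⟩
  -- each fibre is a class in `C(a)`
  have hfib : ∀ d ∈ A, d ≠ 1 → d ≠ a → ∀ k ∈ centralizer ({a} : Set X) ⊓ K,
      {y | (y ∈ cls K a ∧ ¬ Odd (orderOf (y * a))) ∧ half y a * a = k * d * k⁻¹}.ncard = t := by
    intro d hd hd1 hda k hk
    have hka : k * a * k⁻¹ = a := by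
      rw [mem_centralizer_singleton_iff.1 hk.1, mul_inv_cancel_right]
    have hda1 : d * a ≠ 1 := fun e => hda (by rw [eq_inv_of_mul_eq_one_left e, c.inv_eq ha])
    -- move `d a` to `a`
    obtain ⟨σ, hσK, hσN, htr⟩ := c.exists_sigma hK hnc
    obtain ⟨j, hj⟩ := htr a ha ha1 _ (mul_mem hd ha) hda1
    set s := k * σ ^ j
    have hsK : s ∈ K := mul_mem hk.2 (pow_mem hσK j)
    set d₀ := (σ ^ j)⁻¹ * d * σ ^ j
    have hd₀ : d₀ ∈ A := by
      have := (Subgroup.mem_normalizer_iff.1 (inv_mem (pow_mem hσN j)) d).1 hd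
      rwa [inv_inv] at this
    have hd₀1 : d₀ ≠ 1 := fun e => hd1 (by
      calc d = σ ^ j * d₀ * (σ ^ j)⁻¹ := by simp only [d₀]; group
        _ = 1 := by rw [e]; group)
    have hd₀a : d₀ ≠ a := fun e => ha1 (by
      have : σ ^ j * d₀ * (σ ^ j)⁻¹ = σ ^ j * a * (σ ^ j)⁻¹ := by rw [e]
      rw [hj] at this
      have h2 : d = d * a := by rw [← this]; simp only [d₀]; group
      exact mul_eq_left.1 h2.symm)
    have himg : {y | (y ∈ cls K a ∧ ¬ Odd (orderOf (y * a))) ∧ half y a * a = k * d * k⁻¹} =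
        (fun y => s * y * s⁻¹) ''
          {y | ∃ k' ∈ centralizer ({a} : Set X) ⊓ K, k' * d₀ * k'⁻¹ = y} := by
      ext y
      constructor
      · rintro ⟨⟨hy, hno⟩, he⟩
        obtain ⟨h4, -⟩ := key y hy hno
        obtain ⟨hd2, hodd, -, -, -⟩ := conj_half_mul (hordcls y hy) (c.orderOf_eq ha ha1) h4
        obtain ⟨-, hzy, -⟩ := half_spec (hordcls y hy) (c.orderOf_eq ha ha1)
          ⟨orderOf (y * a) / 2, by omega⟩
        have hz : half y a = k * (d * a) * k⁻¹ := by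
          calc half y a = half y a * a * a := by rw [mul_assoc, c.sq ha, mul_one]
            _ = k * d * k⁻¹ * (k * a * k⁻¹) := by rw [he, hka]
            _ = _ := by group
        refine ⟨s⁻¹ * y * s, ?_, by group⟩
        have hy' : s⁻¹ * y * s ∈ cls K a := by
          obtain ⟨k₁, hk₁, rfl⟩ := hy
          exact ⟨s⁻¹ * k₁, mul_mem (inv_mem hsK) hk₁, by group⟩
        have hzs : half y a = s * a * s⁻¹ := by
          rw [hz, ← hj]; simp only [s]; group
        have hcomm : s⁻¹ * y * s * a = a * (s⁻¹ * y * s) := by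
          calc s⁻¹ * y * s * a = s⁻¹ * (y * (s * a * s⁻¹)) * s := by group
            _ = s⁻¹ * (s * a * s⁻¹ * y) * s := by rw [← hzs, hzy.eq]
            _ = _ := by group
        have hodd' : Odd (orderOf (s⁻¹ * y * s * d₀)) := by
          have e : s⁻¹ * y * s * d₀ = s⁻¹ * (y * (k * d * k⁻¹)) * s⁻¹⁻¹ := by
            simp only [s, d₀]; group
          rw [e, Involutions.Basic.orderOf_conj_eq, ← he]
          exact hodd
        have hne : s⁻¹ * y * s ≠ a := fun e => by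
          rw [e, (show Commute a d₀ from c.comm ha hd₀).orderOf_mul_eq_mul_orderOf_of_coprime]
            at hodd'
          · rw [c.orderOf_eq ha ha1] at hodd'
            exact Nat.not_odd_iff_even.2 (even_two_mul _) hodd'
          · exact absurd hodd' (by
              have h2 : orderOf (a * d₀) = 2 := c.orderOf_eq (mul_mem ha hd₀) fun e' => hd₀a (by
                rw [eq_inv_of_mul_eq_one_right e', c.inv_eq ha])
              rw [h2]; decide)
        obtain ⟨d', hd'A, hd'1, hd'a, k', hk', hk'e⟩ :=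
          c.exists_of_commute hK hnc ha ha1 hy' hcomm hne
        rcases c.cases ha ha1 hd₀ hd₀1 (Ne.symm hd₀a) hd'A with e | e | e | e
        · exact absurd e hd'1
        · exact absurd e hd'a
        · exact ⟨k', hk', e ▸ hk'e⟩
        · exfalso
          rw [← hk'e, e] at hodd'
          exact (c.odd_iff ha ha1 hd₀ hd₀1 (Ne.symm hd₀a) hk'.1).2 hodd'
      · rintro ⟨w, ⟨k', hk', rfl⟩, rfl⟩
        have hwcls : s * (k' * d₀ * k'⁻¹) * s⁻¹ ∈ cls K a := by
          obtain ⟨k₁, hk₁, hk₁e⟩ := c.cls_eq hK hnc ha ha1 hd₀ hd₀1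
          exact ⟨s * k' * k₁, mul_mem (mul_mem hsK hk'.2) hk₁, by rw [← hk₁e]; group⟩
        have hodd := (c.odd_iff ha ha1 hd₀ hd₀1 (Ne.symm hd₀a) hk'.1).1
        have hdo : orderOf (k * d * k⁻¹) = 2 := by
          rw [Involutions.Basic.orderOf_conj_eq, c.orderOf_eq hd hd1]
        have hdu : k * d * k⁻¹ * a = k * (d * a) * k⁻¹ := by
          conv_lhs => rw [← hka]
          group
        have hsa : s * a * s⁻¹ = k * (d * a) * k⁻¹ := by rw [← hj]; simp only [s]; group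
        have hp := half_of_parts (v := s * (k' * d₀ * k'⁻¹) * s⁻¹) (u := a) hdo
          (by rw [hdu, Involutions.Basic.orderOf_conj_eq, c.orderOf_eq (mul_mem hd ha) hda1])
          (by
            conv_lhs => rw [← hka]
            conv_rhs => rw [← hka]
            rw [show k * d * k⁻¹ * (k * a * k⁻¹) = k * (d * a) * k⁻¹ by group,
              show k * a * k⁻¹ * (k * d * k⁻¹) = k * (a * d) * k⁻¹ by group, c.comm hd ha])
          (by
            rw [hdu, ← hsa]
            show s * (k' * d₀ * k'⁻¹) * s⁻¹ * (s * a * s⁻¹) =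
              s * a * s⁻¹ * (s * (k' * d₀ * k'⁻¹) * s⁻¹)
            have e1 : k' * d₀ * k'⁻¹ * a = a * (k' * d₀ * k'⁻¹) := by
              have e2 : k' * a = a * k' := mem_centralizer_singleton_iff.1 hk'.1
              calc k' * d₀ * k'⁻¹ * a = k' * (d₀ * (k'⁻¹ * a * k')) * k'⁻¹ := by group
                _ = k' * (a * d₀) * k'⁻¹ := by
                  rw [show k'⁻¹ * a * k' = a by rw [mul_assoc, ← e2, inv_mul_cancel_left],
                    c.comm hd₀ ha]
                _ = k' * a * d₀ * k'⁻¹ := by group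
                _ = _ := by rw [e2]; group
            calc _ = s * (k' * d₀ * k'⁻¹ * a) * s⁻¹ := by group
              _ = s * (a * (k' * d₀ * k'⁻¹)) * s⁻¹ := by rw [e1]
              _ = _ := by group)
          (by
            have e : s * (k' * d₀ * k'⁻¹) * s⁻¹ * (k * d * k⁻¹) =
                s * (k' * d₀ * k'⁻¹ * d₀) * s⁻¹ := by simp only [s, d₀]; group
            rw [e, Involutions.Basic.orderOf_conj_eq]
            exact hodd)
        refine ⟨⟨hwcls, fun ho => ?_⟩, ?_⟩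
        · have h4 : orderOf ((fun y => s * y * s⁻¹) (k' * d₀ * k'⁻¹) * a) % 4 = 2 := hp.1
          have h5 := Nat.odd_iff.1 ho
          omega
        · rw [hp.2, mul_assoc, c.sq ha, mul_one]
    rw [himg, Set.ncard_image_of_injective _ (fun x y e => mul_left_cancel (mul_right_cancel e))]
    exact horb d₀ hd₀ hd₀1 (Ne.symm hd₀a)
  -- disjointness
  have hdisj : Disjoint D₁ D₂ := by
    rw [Set.disjoint_left]
    rintro y ⟨k₁, hk₁, rfl⟩ ⟨k₂, hk₂, e⟩
    have h1 := (c.odd_iff ha ha1 hb hb1 (Ne.symm hba) (mul_mem (inv_mem hk₁.1) hk₂.1)).2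
    refine h1 ?_
    have e1 : k₁⁻¹ * k₂ * (a * b) * (k₁⁻¹ * k₂)⁻¹ = b := by
      calc _ = k₁⁻¹ * (k₂ * (a * b) * k₂⁻¹) * k₁ := by group
        _ = b := by rw [e]; group
    rw [e1, c.sq hb, orderOf_one]
    exact odd_one
  have hcount : {y | y ∈ cls K a ∧ ¬ Odd (orderOf (y * a))}.ncard = (D₁ ∪ D₂).ncard * t := by
    set E := {y | y ∈ cls K a ∧ ¬ Odd (orderOf (y * a))}
    rw [Set.ncard_eq_toFinset_card', Set.ncard_eq_toFinset_card' (D₁ ∪ D₂),
      Finset.card_eq_sum_card_fiberwise (t := (D₁ ∪ D₂).toFinset) (f := fun y => half y a * a)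
        (fun y hy => by
          simp only [Set.coe_toFinset] at hy ⊢
          exact (key y hy.1 hy.2).2)]
    rw [Finset.sum_const_nat (m := t)]
    intro d hd
    simp only [Set.mem_toFinset] at hd
    have hform : ∃ d₁ ∈ A, d₁ ≠ 1 ∧ d₁ ≠ a ∧
        ∃ k ∈ centralizer ({a} : Set X) ⊓ K, k * d₁ * k⁻¹ = d := by
      rcases hd with h | h
      · exact ⟨b, hb, hb1, hba, h⟩
      · exact ⟨a * b, hb', hb'1, hb'a, h⟩
    obtain ⟨d₁, hd₁, hd₁1, hd₁a, k, hk, rfl⟩ := hform
    rw [← hfib d₁ hd₁ hd₁1 hd₁a k hk, Set.ncard_eq_toFinset_card']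
    congr 1
    ext y
    simp [E]
  have hsplit := Set.ncard_inter_add_ncard_sdiff_eq_ncard (cls K a) {y | Odd (orderOf (y * a))}
  have hE : cls K a \ {y | Odd (orderOf (y * a))} =
      {y | y ∈ cls K a ∧ ¬ Odd (orderOf (y * a))} := rfl
  rw [hE, hcount, Set.ncard_union_eq hdisj, horb b hb hb1 (Ne.symm hba),
    horb _ hb' hb'1 (Ne.symm hb'a)] at hsplit
  rw [← hsplit, show {y | y ∈ cls K a ∧ Odd (orderOf (y * a))} =
    cls K a ∩ {y | Odd (orderOf (y * a))} from rfl]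
  ring

end Component

end Ctx

end Cfsg.Agent.Lib.Goldschmidt53.RankTwoBad
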