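import Cfsg.Agent.Lib.Goldschmidt53.RankTwoBadX

/-!
# Rank two, bad involutions: the component

Owner: helper41.  If `t = |C_K(a) : C_K(A)|` is one, `C(a)` normalises no non-trivial subgroup of
odd order; if not, `K / Z(K) ≅ PSL(2, q)`, its class of involutions has between `5t²` and `13t²`
members and 2-elements centralising `A` act on `K` as elements of `A`.
-/

set_option autoImplicit false
set_option linter.style.haveILetI false
set_option linter.unusedSectionVars false

universe u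

namespace Cfsg.Agent.Lib.Goldschmidt53.RankTwoBad

open Subgroup
open Cfsg.Agent.Lib.Components

/-- The conjugates of `a` under `H` are as many as the index of `C_H(a)`. -/
theorem ncard_conj_eq_relIndex {G : Type u} [Group G] (H : Subgroup G) (a : G) :
    {y | ∃ k ∈ H, k * a * k⁻¹ = y}.ncard = (centralizer ({a} : Set G)).relIndex H := by
  classical
  have hfix : ∀ k : G, k * a * k⁻¹ = a ↔ k ∈ centralizer ({a} : Set G) := fun k => by
    rw [mem_centralizer_singleton_iff, mul_inv_eq_iff_eq_mul]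
  let f : ↥H ⧸ (centralizer ({a} : Set G)).subgroupOf H → G :=
    Quotient.lift (fun k : ↥H => (k : G) * a * (k : G)⁻¹) fun x y hxy => by
      have h1 := QuotientGroup.leftRel_apply.1 hxy
      rw [mem_subgroupOf, Subgroup.coe_mul, InvMemClass.coe_inv] at h1
      have h2 := (hfix _).2 h1
      calc (x : G) * a * (x : G)⁻¹ =
          (x : G) * ((x : G)⁻¹ * y * a * ((x : G)⁻¹ * y)⁻¹) * (x : G)⁻¹ := by rw [h2]
        _ = _ := by group
  have hrange : {y | ∃ k ∈ H, k * a * k⁻¹ = y} = Set.range f := by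
    ext y
    constructor
    · rintro ⟨k, hk, rfl⟩
      exact ⟨QuotientGroup.mk ⟨k, hk⟩, rfl⟩
    · rintro ⟨⟨k⟩, rfl⟩
      exact ⟨k, k.2, rfl⟩
  rw [hrange, Set.ncard_range_of_injective (f := f) fun x y hxy => by
    obtain ⟨x, rfl⟩ := QuotientGroup.mk_surjective x
    obtain ⟨y, rfl⟩ := QuotientGroup.mk_surjective y
    refine QuotientGroup.eq.2 ?_
    rw [mem_subgroupOf, Subgroup.coe_mul, InvMemClass.coe_inv]
    refine (hfix _).1 ?_
    have h1 : (x : G) * a * (x : G)⁻¹ = (y : G) * a * (y : G)⁻¹ := hxy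
    calc (x : G)⁻¹ * y * a * ((x : G)⁻¹ * y)⁻¹ =
        (x : G)⁻¹ * ((y : G) * a * (y : G)⁻¹) * x := by group
      _ = a := by rw [← h1]; group]
  rfl

variable {X : Type u} [Group X] [Finite X] {A : Subgroup X}

namespace Ctx

variable (c : Ctx A) {K : Subgroup X} (hK : Cfsg.IsComponent K)
  (hnc : ¬ A ≤ centralizer (K : Set X))
include c hK hnc

set_option quotPrecheck false in
local notation "q" => QuotientGroup.mk' (Subgroup.center ↥K)

theorem quot_inj {x y : ↥K} (hx : (x : X) ∈ A) (hy : (y : X) ∈ A) (e : q x = q y) : x = y :=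
  inv_mul_eq_one.1
    (c.eq_one_of_center hK hnc (mul_mem (inv_mem hx) hy) (QuotientGroup.eq.1 e))

theorem orderOf_quot {a : X} (ha : a ∈ A) (ha1 : a ≠ 1) :
    orderOf (q ⟨a, c.le hK hnc ha⟩) = 2 := by
  refine Involutions.Basic.invol_iff.2 ⟨?_, fun e => ha1 ?_⟩
  · rw [← map_mul, show (⟨a, c.le hK hnc ha⟩ : ↥K) * ⟨a, c.le hK hnc ha⟩ = 1 from
      Subtype.ext (c.sq ha), map_one]
  · exact congrArg Subtype.val
      (c.quot_inj hK hnc (x := ⟨a, c.le hK hnc ha⟩) (y := 1) ha (one_mem A) (by rw [e, map_one]))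

/-- Centralising modulo the centre is centralising. -/
theorem commute_of_quot {k : ↥K} {a : X} (ha : a ∈ A)
    (hk : q k * q ⟨a, c.le hK hnc ha⟩ = q ⟨a, c.le hK hnc ha⟩ * q k) :
    (k : X) * a = a * k := by
  rw [← map_mul, ← map_mul] at hk
  set a' : ↥K := ⟨a, c.le hK hnc ha⟩
  have h1 : (a')⁻¹ * (k * a' * k⁻¹) ∈ Subgroup.center ↥K := by
    refine QuotientGroup.eq.1 (?_ : q a' = q (k * a' * k⁻¹))
    rw [map_mul, hk, map_mul, map_inv, mul_inv_cancel_right]
  have h2 := c.center_eq_one hK hnc (g := (k : X)) ha ha h1 (by simp [a'])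
  simp only [a', Subgroup.coe_mul, InvMemClass.coe_inv] at h2
  exact mul_inv_eq_iff_eq_mul.1 (inv_mul_eq_one.1 h2).symm

/-- The image of `C_K(a)` is the centraliser of the image. -/
theorem map_centralizer {a : X} (ha : a ∈ A) :
    ((centralizer ({a} : Set X)).subgroupOf K).map q =
      centralizer ({q ⟨a, c.le hK hnc ha⟩} : Set (↥K ⧸ Subgroup.center ↥K)) := by
  ext y
  constructor
  · rintro ⟨k, hk, rfl⟩
    rw [mem_centralizer_singleton_iff, ← map_mul, ← map_mul]
    exact congrArg _ (Subtype.ext (mem_centralizer_singleton_iff.1 (mem_subgroupOf.1 hk)))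
  · intro hy
    obtain ⟨k, rfl⟩ := QuotientGroup.mk'_surjective (Subgroup.center ↥K) y
    exact mem_map_of_mem q (mem_subgroupOf.2 (mem_centralizer_singleton_iff.2
      (c.commute_of_quot hK hnc ha (mem_centralizer_singleton_iff.1 hy))))

/-- An odd subgroup normalised by `C(a)` meets `K` trivially when `C(a)` has no odd core mod `Z(K)`. -/
theorem inf_eq_bot {a : X} (ha : a ∈ A)
    (hcore : Cfsg.centralizerPPrimeCore 2 (q ⟨a, c.le hK hnc ha⟩) = ⊥) {N : Subgroup X}
    (hN : N ≤ centralizer ({a} : Set X)) (hnorm : centralizer ({a} : Set X) ≤ normalizer (N : Set X))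
    (hodd : Odd (Nat.card ↥N)) {n : X} (hn : n ∈ N) (hnK : n ∈ K) : n = 1 := by
  haveI : Fact (Nat.Prime 2) := ⟨Nat.prime_two⟩
  haveI := c.normal hK hnc
  have hcard : Odd (Nat.card ↥((N.subgroupOf K).map q)) := by
    refine hodd.of_dvd_nat ((Subgroup.card_map_dvd _ q).trans ?_)
    rw [← card_map_of_injective (f := K.subtype) K.subtype_injective, subgroupOf_map_subtype]
    exact card_dvd_of_le inf_le_left
  have h1 : (N.subgroupOf K).map q ≤ Walter.core (q ⟨a, c.le hK hnc ha⟩) := by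
    refine Walter.le_core ?_ ?_ hcard
    · rw [← c.map_centralizer hK hnc ha]
      exact map_mono fun x hx => mem_subgroupOf.2 (hN (mem_subgroupOf.1 hx))
    · rw [← c.map_centralizer hK hnc ha]
      rintro _ ⟨k, hk, rfl⟩
      refine Subgroup.mem_normalizer_iff_map_conj_eq.2 (Subgroup.eq_of_le_of_card_ge ?_
        (Subgroup.card_map_of_injective (MulAut.conj (q k)).injective).ge)
      rintro _ ⟨_, ⟨x, hx, rfl⟩, rfl⟩
      exact ⟨k * x * k⁻¹, mem_subgroupOf.2 ((Subgroup.mem_normalizer_iff.1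
        (hnorm (mem_subgroupOf.1 hk)) _).1 (mem_subgroupOf.1 hx)), by simp⟩
  rw [show Walter.core (q ⟨a, c.le hK hnc ha⟩) = ⊥ from hcore, le_bot_iff] at h1
  have h2 : q ⟨n, hnK⟩ = 1 := by
    have : q ⟨n, hnK⟩ ∈ (N.subgroupOf K).map q := mem_map_of_mem _ (mem_subgroupOf.2 hn)
    rwa [h1, mem_bot] at this
  have h3 := c.center_le hK ((QuotientGroup.eq_one_iff _).1 h2)
  obtain ⟨j, hj⟩ := IsPGroup.iff_orderOf.1 (Cores.pCore_isPGroup (G := X) 2) ⟨_, h3⟩
  rw [Subgroup.orderOf_mk] at hj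
  refine orderOf_eq_one_iff.1 (Nat.eq_one_of_dvd_coprimes ?_ (dvd_of_eq hj)
    (Subgroup.orderOf_dvd_natCard N hn))
  exact (Nat.coprime_two_left.2 hodd).pow_left j

/-- If `C(a)` has no odd core mod `Z(K)`, it normalises no odd subgroup but the trivial one. -/
theorem eq_bot_of_core {a : X} (ha : a ∈ A) (ha1 : a ≠ 1)
    (hcore : Cfsg.centralizerPPrimeCore 2 (q ⟨a, c.le hK hnc ha⟩) = ⊥) {N : Subgroup X}
    (hN : N ≤ centralizer ({a} : Set X)) (hnorm : centralizer ({a} : Set X) ≤ normalizer (N : Set X))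
    (hodd : Odd (Nat.card ↥N)) : N = ⊥ := by
  haveI := c.normal hK hnc
  have hNK : N ≤ centralizer (K : Set X) := by
    intro n hn
    have hfix : ∀ k ∈ K, k ∈ centralizer ({a} : Set X) → n * k * n⁻¹ = k := fun k hk hkC => by
      refine mul_inv_eq_one.1 (c.inf_eq_bot hK hnc ha hcore hN hnorm hodd
        (n := n * k * n⁻¹ * k⁻¹) ?_ (mul_mem ((c.normal hK hnc).conj_mem k hk n) (inv_mem hk)))
      rw [mul_assoc, mul_assoc]
      refine mul_mem hn ?_
      rw [← mul_assoc]
      exact (Subgroup.mem_normalizer_iff.1 (hnorm hkC) _).1 (inv_mem hn)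
    have hnN : n ∈ normalizer (K : Set X) := by rw [normalizer_eq_top]; exact mem_top n
    let β : MulAut ↥K := K.normalizerMonoidHom ⟨n, hnN⟩
    let α : MulAut (↥K ⧸ Subgroup.center ↥K) :=
      QuotientGroup.congr (Subgroup.center ↥K) (Subgroup.center ↥K) β
        (Subgroup.characteristic_iff_map_eq.1 inferInstance β)
    have hα : ∀ k : ↥K, α (q k) = q (β k) := fun k => rfl
    have hβ : ∀ k : ↥K, ((β k : ↥K) : X) = n * k * n⁻¹ := fun k => rfl
    have hpow : ∀ (j : ℕ) (k : ↥K), (α ^ j) (q k) = q ((β ^ j) k) := by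
      intro j
      induction j with
      | zero => intro k; rfl
      | succ j ih =>
        intro k
        rw [pow_succ', pow_succ', MulAut.mul_apply, MulAut.mul_apply, ih, hα]
    have hodd' : Odd (orderOf α) := by
      refine (hodd.of_dvd_nat (Subgroup.orderOf_dvd_natCard N hn)).of_dvd_nat
        (orderOf_dvd_of_pow_eq_one (MulEquiv.ext fun y => ?_))
      obtain ⟨k, rfl⟩ := QuotientGroup.mk'_surjective (Subgroup.center ↥K) y
      rw [hpow]
      have : β ^ orderOf n = 1 := by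
        rw [show β = K.normalizerMonoidHom ⟨n, hnN⟩ from rfl, ← map_pow,
          show (⟨n, hnN⟩ : ↥(normalizer (K : Set X))) ^ orderOf n = 1 from
            Subtype.ext (pow_orderOf_eq_one n), map_one]
      rw [this]
      rfl
    have h1 : α = 1 := (c.facts _ (c.known hK hnc).1).aut _ (c.orderOf_quot hK hnc ha ha1) α hodd'
      fun x hx => by
        obtain ⟨k, rfl⟩ := QuotientGroup.mk'_surjective (Subgroup.center ↥K) x
        rw [hα]
        refine congrArg _ (Subtype.ext ?_)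
        rw [hβ]
        exact hfix k k.2 (mem_centralizer_singleton_iff.2 (c.commute_of_quot hK hnc ha hx))
    refine commute_of_mod_center K hK.2.1 fun k => ⟨β k * k⁻¹, ?_, ?_⟩
    · refine (QuotientGroup.eq_one_iff _).1 ?_
      show q (β k * k⁻¹) = 1
      rw [map_mul, map_inv, ← hα, h1, MulAut.one_apply, mul_inv_cancel]
    · simp [hβ]
  refine c.eq_bot_of_normalized (M := centralizer (K : Set X)) inferInstance hNK ?_ hodd
  exact (Subgroup.centralizer_le (Set.singleton_subset_iff.2 (c.le hK hnc ha))).trans hnorm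

theorem relIndex_eq_one_of_core {a : X} (ha : a ∈ A) (ha1 : a ≠ 1)
    (hcore : Cfsg.centralizerPPrimeCore 2 (q ⟨a, c.le hK hnc ha⟩) = ⊥) :
    (centralizer (A : Set X)).relIndex (centralizer ({a} : Set X) ⊓ K) = 1 := by
  haveI := c.normal hK hnc
  rw [Subgroup.relIndex_eq_one]
  intro k hk
  obtain ⟨b, hb, hb1, hba⟩ := c.exists_pair (a := a) ha1
  obtain ⟨o, ho, n, hn, e⟩ := c.prod a ha ha1 k ⟨hk.1, mem_top _⟩
  have hbn : n * b * n⁻¹ = b := by rw [← mem_centralizer_iff.1 hn.1 b hb, mul_inv_cancel_right]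
  have hcb : b ∈ centralizer ({a} : Set X) := c.centralizer_le ha (c.le_centralizer hb)
  have e1 : k * b * k⁻¹ * b⁻¹ = o * (b * o⁻¹ * b⁻¹) := by
    rw [← e]
    calc o * n * b * (o * n)⁻¹ * b⁻¹ = o * (n * b * n⁻¹) * o⁻¹ * b⁻¹ := by group
      _ = _ := by rw [hbn]; group
  have hmem : k * b * k⁻¹ * b⁻¹ ∈ Walter.core a := by
    rw [e1]
    exact mul_mem ho.1 ((Subgroup.mem_normalizer_iff.1
      (Walter.centralizer_le_normalizer_core a hcb) _).1 (inv_mem ho.1))
  have h1 := c.inf_eq_bot hK hnc ha hcore (Walter.core_le a)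
    (Walter.centralizer_le_normalizer_core a) (Walter.odd_core a) hmem
    (mul_mem ((c.normal hK hnc).conj_mem b (c.le hK hnc hb) k) (inv_mem (c.le hK hnc hb)))
  have e2 : k * b = b * k := mul_inv_eq_iff_eq_mul.1 (mul_inv_eq_one.1 h1)
  have e0 : k * a = a * k := mem_centralizer_singleton_iff.1 hk.1
  refine mem_centralizer_iff.2 fun z hz => ?_
  rcases c.cases ha ha1 hb hb1 (Ne.symm hba) hz with rfl | rfl | rfl | rfl
  · rw [one_mul, mul_one]
  · exact e0.symm
  · exact e2.symm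
  · rw [← mul_assoc, e0, mul_assoc a k b, e2, mul_assoc]

/-- The component when its Sylow 2-subgroups have order four. -/
theorem four_data {a : X} (ha : a ∈ A) (ha1 : a ≠ 1) (P : Sylow 2 (↥K ⧸ Subgroup.center ↥K))
    (hP : (A.subgroupOf K).map q = Om P) (h8 : Nat.card ↥(P : Subgroup (↥K ⧸ Subgroup.center ↥K)) < 8) :
    Walter.IsOddType (↥K ⧸ Subgroup.center ↥K) ∧ (P : Subgroup (↥K ⧸ Subgroup.center ↥K)) = Om P ∧
      Nat.card ↥(centralizer ({q ⟨a, c.le hK hnc ha⟩} : Set (↥K ⧸ Subgroup.center ↥K))) =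
        4 * (centralizer (A : Set X)).relIndex (centralizer ({a} : Set X) ⊓ K) := by
  classical
  haveI : Fact (Nat.Prime 2) := ⟨Nat.prime_two⟩
  have hkn := (c.known hK hnc).1
  have hL := odd_of_small hkn P h8
  have hle : Om P ≤ (P : Subgroup (↥K ⧸ Subgroup.center ↥K)) := (closure_le _).2 fun _ hx => hx.1
  have h4 := (c.facts _ hkn).four_le P
  have hP4 : Nat.card ↥(P : Subgroup (↥K ⧸ Subgroup.center ↥K)) = 4 := by
    obtain ⟨j, hj⟩ := IsPGroup.iff_card.1 P.2
    have h5 := Subgroup.card_le_of_le hle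
    rcases j with _ | _ | _ | j
    · omega
    · omega
    · exact hj
    · have : 2 ^ 3 ≤ 2 ^ (j + 3) := Nat.pow_le_pow_right two_pos (by omega)
      omega
  have hOm4 : Nat.card ↥(Om P) = 4 := le_antisymm (hP4 ▸ Subgroup.card_le_of_le hle) h4
  refine ⟨hL, (Subgroup.eq_of_le_of_card_ge hle (by rw [hP4, hOm4])).symm, ?_⟩
  obtain ⟨b, hb, hb1, hba⟩ := c.exists_pair (a := a) ha1
  set C := (centralizer ({a} : Set X)).subgroupOf K with hC
  set D := (centralizer (A : Set X)).subgroupOf K with hD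
  have hDimg : D.map q = (A.subgroupOf K).map q := by
    refine le_antisymm ?_ (map_mono fun x hx => mem_subgroupOf.2 (c.le_centralizer (mem_subgroupOf.1 hx)))
    rintro _ ⟨k, hk, rfl⟩
    have hka : (k : X) * a = a * k := (mem_centralizer_iff.1 (mem_subgroupOf.1 hk) a ha).symm
    have hkb : (k : X) * b = b * k := (mem_centralizer_iff.1 (mem_subgroupOf.1 hk) b hb).symm
    have hne : q ⟨a, c.le hK hnc ha⟩ ≠ q ⟨b, c.le hK hnc hb⟩ := fun e => hba
      (congrArg Subtype.val (c.quot_inj hK hnc (x := ⟨a, c.le hK hnc ha⟩)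
        (y := ⟨b, c.le hK hnc hb⟩) ha hb e)).symm
    rcases (odd_data hL).1 _ _ (q k) (c.orderOf_quot hK hnc ha ha1) (c.orderOf_quot hK hnc hb hb1)
      (by rw [← map_mul, ← map_mul]; exact congrArg _ (Subtype.ext (c.comm ha hb))) hne
      (by rw [← map_mul, ← map_mul]; exact congrArg _ (Subtype.ext hka))
      (by rw [← map_mul, ← map_mul]; exact congrArg _ (Subtype.ext hkb)) with e | e | e | e
    · exact ⟨1, one_mem _, by rw [map_one, e]⟩
    · exact ⟨_, mem_subgroupOf.2 ha, e.symm⟩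
    · exact ⟨_, mem_subgroupOf.2 hb, e.symm⟩
    · exact ⟨_, mem_subgroupOf.2 (show ((⟨a, c.le hK hnc ha⟩ * ⟨b, c.le hK hnc hb⟩ : ↥K) : X) ∈ A
        from mul_mem ha hb), (map_mul q _ _).trans e.symm⟩
  have hker : ∀ (H : Subgroup X), centralizer (A : Set X) ≤ H → (q).ker ≤ H.subgroupOf K :=
    fun H hH z hz => by
      rw [QuotientGroup.ker_mk'] at hz
      refine mem_subgroupOf.2 (hH (mem_centralizer_iff.2 fun w hw => ?_))
      exact congrArg Subtype.val (mem_center_iff.1 hz ⟨w, c.le hK hnc hw⟩)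
  have hDC : D ≤ C := comap_mono (c.centralizer_le ha)
  have ht : (D.map q).relIndex (C.map q) =
      (centralizer (A : Set X)).relIndex (centralizer ({a} : Set X) ⊓ K) := by
    rw [Subgroup.relIndex_map_map, sup_eq_left.2 (hker _ le_rfl),
      sup_eq_left.2 (hker _ (c.centralizer_le ha)),
      ← Subgroup.relIndex_subgroupOf (H := centralizer (A : Set X))
        (inf_le_right : centralizer ({a} : Set X) ⊓ K ≤ K), inf_subgroupOf_right]
  rw [← c.map_centralizer hK hnc ha, ← hC, ← ht, ← hOm4, ← hP, ← hDimg,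
    ← Subgroup.relIndex_bot_left, ← Subgroup.relIndex_bot_left]
  exact (Subgroup.relIndex_mul_relIndex _ _ _ bot_le (map_mono hDC)).symm

/-- With `t = 1`, `C(a)` has no odd core mod `Z(K)`. -/
theorem core_eq_bot {a : X} (ha : a ∈ A) (ha1 : a ≠ 1)
    (ht : (centralizer (A : Set X)).relIndex (centralizer ({a} : Set X) ⊓ K) = 1) :
    Cfsg.centralizerPPrimeCore 2 (q ⟨a, c.le hK hnc ha⟩) = ⊥ := by
  haveI : Fact (Nat.Prime 2) := ⟨Nat.prime_two⟩
  obtain ⟨hkn, P, hP⟩ := c.known hK hnc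
  by_cases h8 : Nat.card ↥(P : Subgroup (↥K ⧸ Subgroup.center ↥K)) < 8
  · obtain ⟨-, -, hcard⟩ := c.four_data hK hnc ha ha1 P hP h8
    rw [ht, mul_one] at hcard
    refine Subgroup.card_eq_one.1 (Nat.eq_one_of_dvd_coprimes (b := 2 ^ 2) ?_ dvd_rfl
      ((card_dvd_of_le (Walter.core_le _)).trans (dvd_of_eq hcard)))
    exact (Nat.coprime_two_right.2 (Walter.odd_core _)).pow_right 2
  · refine (c.facts _ hkn).core (fun P' => ?_) _ (c.orderOf_quot hK hnc ha ha1)
    rw [card_sylow_map (MulEquiv.refl _) P' P]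
    omega

/-- With `t > 1` the component is `PSL(2, q)`, and the bounds. -/
theorem big_data {a : X} (ha : a ∈ A) (ha1 : a ≠ 1)
    (ht : (centralizer (A : Set X)).relIndex (centralizer ({a} : Set X) ⊓ K) ≠ 1) :
    let t := (centralizer (A : Set X)).relIndex (centralizer ({a} : Set X) ⊓ K)
    5 * t ^ 2 < (cls K a).ncard ∧ (cls K a).ncard < 13 * t ^ 2 ∧
      ∃ P : Sylow 2 (↥K ⧸ Subgroup.center ↥K),
        (A.subgroupOf K).map q = Om P ∧ (P : Subgroup (↥K ⧸ Subgroup.center ↥K)) = Om P := by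
  intro t
  haveI : Fact (Nat.Prime 2) := ⟨Nat.prime_two⟩
  obtain ⟨hkn, P, hP⟩ := c.known hK hnc
  have h8 : Nat.card ↥(P : Subgroup (↥K ⧸ Subgroup.center ↥K)) < 8 := by
    by_contra h8
    refine ht (c.relIndex_eq_one_of_core hK hnc ha ha1 ((c.facts _ hkn).core (fun P' => ?_) _
      (c.orderOf_quot hK hnc ha ha1)))
    rw [card_sylow_map (MulEquiv.refl _) P' P]
    omega
  obtain ⟨hL, hPO, hcard⟩ := c.four_data hK hnc ha ha1 P hP h8
  have ht0 : t ≠ 0 := Subgroup.FiniteIndex.index_ne_zero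
  set C := (centralizer ({a} : Set X)).subgroupOf K with hC
  have hker : (q).ker ≤ C := fun z hz => by
    rw [QuotientGroup.ker_mk'] at hz
    refine mem_subgroupOf.2 (mem_centralizer_singleton_iff.2 ?_)
    exact (congrArg Subtype.val (mem_center_iff.1 hz ⟨a, c.le hK hnc ha⟩)).symm
  have hi : (cls K a).ncard =
      (centralizer ({q ⟨a, c.le hK hnc ha⟩} : Set (↥K ⧸ Subgroup.center ↥K))).index := by
    rw [← c.map_centralizer hK hnc ha, ← hC,
      Subgroup.index_map_eq _ (QuotientGroup.mk'_surjective _) hker]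
    exact ncard_conj_eq_relIndex K a
  have hLcard : Nat.card (↥K ⧸ Subgroup.center ↥K) = (cls K a).ncard * (4 * t) := by
    rw [hi, ← hcard, Subgroup.index_mul_card]
  obtain ⟨h5, h13⟩ := (odd_data hL).2 _ (c.orderOf_quot hK hnc ha ha1) t _ hcard hLcard (by omega)
  exact ⟨h5, h13, P, hP, hPO⟩

/-- A 2-element centralising `A` acts on `K` as an element of `A`. -/
theorem split (P : Sylow 2 (↥K ⧸ Subgroup.center ↥K)) (hP : (A.subgroupOf K).map q = Om P)
    (hPO : (P : Subgroup (↥K ⧸ Subgroup.center ↥K)) = Om P) {s : X} (hs : ∃ j : ℕ, orderOf s = 2 ^ j)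
    (hsA : s ∈ centralizer (A : Set X)) : ∃ g ∈ A, g * s ∈ centralizer (K : Set X) := by
  haveI := c.normal hK hnc
  have hsN : s ∈ normalizer (K : Set X) := by rw [normalizer_eq_top]; exact mem_top s
  let β : MulAut ↥K := K.normalizerMonoidHom ⟨s, hsN⟩
  let α : MulAut (↥K ⧸ Subgroup.center ↥K) :=
    QuotientGroup.congr (Subgroup.center ↥K) (Subgroup.center ↥K) β
      (Subgroup.characteristic_iff_map_eq.1 inferInstance β)
  have hα : ∀ k : ↥K, α (q k) = q (β k) := fun k => rfl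
  have hβ : ∀ k : ↥K, ((β k : ↥K) : X) = s * k * s⁻¹ := fun k => rfl
  have hpow : ∀ (j : ℕ) (k : ↥K), (α ^ j) (q k) = q ((β ^ j) k) := by
    intro j
    induction j with
    | zero => intro k; rfl
    | succ j ih =>
      intro k
      rw [pow_succ', pow_succ', MulAut.mul_apply, MulAut.mul_apply, ih, hα]
  obtain ⟨j, hj⟩ := hs
  have h2 : orderOf α ∣ 2 ^ j := orderOf_dvd_of_pow_eq_one (MulEquiv.ext fun y => by
    obtain ⟨k, rfl⟩ := QuotientGroup.mk'_surjective (Subgroup.center ↥K) y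
    rw [hpow]
    have : β ^ 2 ^ j = 1 := by
      rw [show β = K.normalizerMonoidHom ⟨s, hsN⟩ from rfl, ← map_pow,
        show (⟨s, hsN⟩ : ↥(normalizer (K : Set X))) ^ 2 ^ j = 1 from
          Subtype.ext (show s ^ 2 ^ j = 1 by rw [← hj, pow_orderOf_eq_one]), map_one]
    rw [this]
    rfl)
  have hfix : ∀ y ∈ Om P, α y = y := by
    rw [← hP]
    rintro _ ⟨k, hk, rfl⟩
    rw [hα]
    refine congrArg _ (Subtype.ext ?_)
    rw [hβ, ← mem_centralizer_iff.1 hsA _ (mem_subgroupOf.1 hk), mul_inv_cancel_right]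
  obtain ⟨i, -, hi⟩ := (Nat.dvd_prime_pow Nat.prime_two).1 h2
  obtain ⟨g, hg, hgα⟩ := (c.facts _ (c.known hK hnc).1).split P α ⟨i, hi⟩ hfix fun y hy => by
    rw [hfix y (hPO ▸ hy), inv_mul_cancel]
    exact one_mem _
  rw [hPO, ← hP] at hg
  obtain ⟨g₀, hg₀, rfl⟩ := hg
  refine ⟨g₀, mem_subgroupOf.1 hg₀, commute_of_mod_center K hK.2.1 fun k =>
    ⟨g₀ * β k * g₀⁻¹ * k⁻¹, ?_, ?_⟩⟩
  · refine (QuotientGroup.eq_one_iff _).1 ?_
    show q (g₀ * β k * g₀⁻¹ * k⁻¹) = 1
    rw [map_mul, map_mul, map_mul, ← hα, hgα, map_inv, map_inv]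
    have hg2 : q g₀ * q g₀ = 1 := by
      rw [← map_mul, show g₀ * g₀ = 1 from Subtype.ext (c.sq (mem_subgroupOf.1 hg₀)), map_one]
    rw [inv_eq_of_mul_eq_one_right hg2, ← mul_assoc, ← mul_assoc, hg2, one_mul,
      mul_assoc (q k), hg2, mul_one, mul_inv_cancel]
  · simp only [Subgroup.coe_mul, InvMemClass.coe_inv, hβ]
    group

end Ctx

end Cfsg.Agent.Lib.Goldschmidt53.RankTwoBad
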