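import Cfsg.Agent.Lib.Goldschmidt53.Base
import Cfsg.Agent.Lib.Walter.Bar
import Cfsg.Agent.Lib.Coprime.Conjugacy
import Cfsg.Agent.S1250

/-!
# Rank two: the centraliser of an involution of `A`

helper58.  For `|A| = 4` no component modulo the core is moved by `A`, as it would contain the
central involution, so `C(a) = O(C(a)) C(A)`.
-/

set_option autoImplicit false
set_option linter.style.haveILetI false
set_option linter.unusedSectionVars false

universe u

namespace Cfsg.Agent.Lib.Goldschmidt53.RankTwoCentralizer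

open Subgroup
open scoped Pointwise
open Cfsg.Agent.Lib.Walter (CBar liftBar coreC core proj imageBar)

variable {G : Type u} [Group G] [Finite G] {S : Sylow 2 G} {A B : Subgroup G}

/-- A product of two subgroups of odd order has odd order. -/
theorem odd_card_sup {H K : Subgroup G} (h : H ≤ normalizer (K : Set G)) (hH : Odd (Nat.card ↥H))
    (hK : Odd (Nat.card ↥K)) : Odd (Nat.card ↥(H ⊔ K)) := by
  have hd := Cores.card_sup_dvd_mul (H.subgroupOf (normalizer (K : Set G)))
    (K.subgroupOf (normalizer (K : Set G)))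
  rw [← subgroupOf_sup h le_normalizer, Nat.card_congr (subgroupOfEquivOfLe h).toEquiv,
    Nat.card_congr (subgroupOfEquivOfLe le_normalizer).toEquiv,
    Nat.card_congr (subgroupOfEquivOfLe (sup_le h le_normalizer)).toEquiv] at hd
  exact (hH.mul hK).of_dvd_nat hd

/-- `A` is strongly closed in every Sylow subgroup containing it. -/
theorem closed_of_le (h : Hyp S A) (R : Sylow 2 G) (hR : A ≤ (R : Subgroup G)) :
    Cfsg.IsStronglyClosed A (R : Subgroup G) := by
  haveI : Fact (Nat.Prime 2) := ⟨Nat.prime_two⟩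
  obtain ⟨k, hk⟩ := MulAction.exists_smul_eq G R S
  have hkA : ∀ b ∈ A, k * b * k⁻¹ ∈ A := fun b hb =>
    h.closed.2 b hb k (ZStar.Elements.smul_mem hk (hR hb))
  have hmap : A.map (MulAut.conj k).toMonoidHom = A := by
    refine Subgroup.eq_of_le_of_card_ge ?_ ?_
    · rintro _ ⟨b, hb, rfl⟩
      exact hkA b hb
    · rw [Subgroup.card_map_of_injective (f := (MulAut.conj k).toMonoidHom)
        (MulAut.conj k).injective]
  refine ⟨hR, fun x hx g hg => ?_⟩
  have h0 : k * (g * x * g⁻¹) * k⁻¹ = k * g * x * (k * g)⁻¹ := by group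
  have h1 : k * g * x * (k * g)⁻¹ ∈ A :=
    h.closed.2 x hx _ (h0 ▸ ZStar.Elements.smul_mem hk hg)
  rw [← h0] at h1
  obtain ⟨b, hb, he⟩ := hmap.ge h1
  have hbe : b = g * x * g⁻¹ := (MulAut.conj k).injective he
  exact hbe ▸ hb

theorem le_centralizer (h : Hyp S A) (hB : B ≤ A) : A ≤ centralizer (B : Set G) :=
  fun _ ha => mem_centralizer_iff.2 fun _ hb => h.commute (hB hb) ha

theorem centralizer_ne_top (h : Hyp S A) (hB : B ≠ ⊥) : centralizer (B : Set G) ≠ ⊤ := by
  intro he
  refine hB (le_bot_iff.1 fun b hb => h.center_eq_bot ▸ mem_center_iff.2 fun g => ?_)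
  exact (mem_centralizer_iff.1 (he ▸ mem_top g : g ∈ centralizer (B : Set G)) b hb).symm

/-- The layer decomposition in `C(B)` modulo its core. -/
theorem decomp_bar (hX : PropLocal.{u}) (h : Hyp S A) (hB : B ≤ A) (hB1 : B ≠ ⊥) :
    Decomp (imageBar B A) := by
  haveI : Fact (Nat.Prime 2) := ⟨Nat.prime_two⟩
  set C := centralizer (B : Set G) with hC
  have hAC : A ≤ C := le_centralizer h hB
  have hp : IsPGroup 2 ↥(A.subgroupOf C) :=
    (PGroups.elemAb_isPGroup h.elem).of_equiv (subgroupOfEquivOfLe hAC).symm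
  obtain ⟨T, hT⟩ := hp.exists_le_sylow
  obtain ⟨R, hR⟩ := (T.2.map C.subtype).exists_le_sylow
  have hAR : A ≤ (R : Subgroup G) := fun a ha =>
    hR ⟨⟨a, hAC ha⟩, hT (show (⟨a, hAC ha⟩ : ↥C) ∈ A.subgroupOf C from ha), rfl⟩
  have hcl : Cfsg.IsStronglyClosed (A.subgroupOf C) (T : Subgroup ↥C) := by
    refine ⟨hT, fun x hx g hg => mem_subgroupOf.2 ?_⟩
    simpa using (closed_of_le h R hAR).2 (x : G) hx (g : G) (by simpa using hR ⟨_, hg, rfl⟩)
  have hlt : Nat.card (CBar B) < Nat.card G := by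
    refine lt_of_le_of_lt (Nat.le_of_dvd Nat.card_pos (card_quotient_dvd_card _)) ?_
    exact lt_of_le_of_ne (card_le_card_group C)
      fun e => centralizer_ne_top h hB1 (eq_top_of_card_eq C e)
  refine hX (CBar B) (Nat.card G) (Walter.barCore B) hlt h.below
    (T.mapSurjective (Walter.proj_surjective B)) _ ⟨⟨⟨?_⟩⟩, ?_⟩ ?_
  · rintro ⟨_, x, hx, rfl⟩ ⟨_, y, hy, rfl⟩
    apply Subtype.ext
    show proj B x * proj B y = proj B y * proj B x
    rw [← map_mul, ← map_mul]
    exact congrArg _ (Subtype.ext (h.commute (mem_subgroupOf.1 hx) (mem_subgroupOf.1 hy)))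
  · rintro _ ⟨x, hx, rfl⟩
    rw [← map_pow, show x ^ 2 = 1 from Subtype.ext (by
      rw [SubgroupClass.coe_pow, OneMemClass.coe_one]
      exact h.elem.2 _ (mem_subgroupOf.1 hx)), map_one]
  · rw [Sylow.coe_mapSurjective]
    exact Cfsg.Agent.S1250.result T (A.subgroupOf C) hcl _

/-- For `|A| = 4` the image of `A` is normal. -/
theorem normal_bar (hL : PropFacts.{u}) (hX : PropLocal.{u}) (h : Hyp S A)
    (h4 : Nat.card ↥A = 4) {a : G} (ha : a ∈ A) (ha1 : a ≠ 1) :
    (imageBar (zpowers a) A).Normal := by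
  haveI : Fact (Nat.Prime 2) := ⟨Nat.prime_two⟩
  have hB : zpowers a ≤ A := zpowers_le.2 ha
  have hd := decomp_bar hX h hB (zpowers_ne_bot.2 ha1)
  have haC : a ∈ centralizer (zpowers a : Set G) := le_centralizer h hB ha
  set z := proj (zpowers a) ⟨a, haC⟩ with hz
  have hzA : z ∈ imageBar (zpowers a) A := Walter.mem_imageBar haC ha
  have hz1 : z ≠ 1 := by
    intro e
    have h1 := (Walter.proj_eq_one_iff haC).1 e
    have h2 : orderOf a ∣ Nat.card ↥(coreC (zpowers a)) := Subgroup.orderOf_dvd_natCard _ h1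
    rw [orderOf_eq_prime (PGroups.elemAb_pow h.elem ha) ha1] at h2
    exact Nat.not_odd_iff_even.2 (even_iff_two_dvd.2 h2) (Walter.odd_coreC _)
  have hzc : ∀ y : CBar (zpowers a), y * z = z * y := by
    intro y
    obtain ⟨⟨y₀, hy₀⟩, rfl⟩ := Walter.proj_surjective _ y
    rw [hz, ← map_mul, ← map_mul]
    exact congrArg _ (Subtype.ext (mem_centralizer_iff.1 hy₀ a (mem_zpowers a)).symm)
  have hcard : Nat.card ↥(imageBar (zpowers a) A) ≤ 4 :=
    (Nat.le_of_dvd Nat.card_pos Walter.card_imageBar_dvd).trans h4.le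
  have hcent : ∀ K : Subgroup (CBar (zpowers a)), Cfsg.IsComponent K →
      imageBar (zpowers a) A ≤ centralizer (K : Set (CBar (zpowers a))) := by
    intro K hK
    refine (hd.cases K hK).resolve_right ?_
    rintro ⟨hkn, P, hP⟩
    set X := (imageBar (zpowers a) A).subgroupOf K with hXdef
    have h1 : 4 ≤ Nat.card ↥(X.map (QuotientGroup.mk' (center ↥K))) := by
      rw [hP]
      exact (hL _ hkn).four_le P
    have h2 : Nat.card ↥(X.map (QuotientGroup.mk' (center ↥K))) ≤ Nat.card ↥X :=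
      Nat.le_of_dvd Nat.card_pos (card_map_dvd _ _)
    have hmap : X.map K.subtype = imageBar (zpowers a) A := by
      refine Subgroup.eq_of_le_of_card_ge ((subgroupOf_map_subtype _ K).le.trans inf_le_left) ?_
      rw [card_map_of_injective (subtype_injective K)]
      exact hcard.trans (h1.trans h2)
    obtain ⟨⟨x, hxK⟩, hx, hxe⟩ := hmap.ge hzA
    have hinj : Function.Injective ((QuotientGroup.mk' (center ↥K)).subgroupMap X) := by
      refine ((Nat.bijective_iff_surjective_and_card _).2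
        ⟨MonoidHom.subgroupMap_surjective _ X, le_antisymm ?_ h2⟩).1
      refine le_trans (le_trans ?_ hcard) h1
      rw [← hmap, card_map_of_injective (subtype_injective K)]
    refine hz1 ?_
    have h3 : (⟨⟨x, hxK⟩, hx⟩ : ↥X) = 1 := hinj (Subtype.ext ((QuotientGroup.eq_one_iff _).2
      (mem_center_iff.2 fun k => Subtype.ext (by
        show (k : CBar (zpowers a)) * x = x * k
        rw [show x = z from hxe]
        exact hzc k))))
    exact hxe.symm.trans (congrArg (fun w : ↥X => ((w : ↥K) : CBar (zpowers a))) h3)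
  have hlay : Cfsg.layer (CBar (zpowers a)) ≤
      centralizer (imageBar (zpowers a) A : Set (CBar (zpowers a))) :=
    sSup_le fun K hK => le_centralizer_iff.1 (hcent K hK)
  refine ⟨fun x hx g => ?_⟩
  obtain ⟨k, hk, hn⟩ := hd.frattini g
  have h1 := (mem_normalizer_iff.1 hn x).1 hx
  have h2 := mem_centralizer_iff.1 (hlay hk) _ h1
  have e : g * x * g⁻¹ = k⁻¹ * (k * g * x * (k * g)⁻¹ * k) := by group
  rw [e, h2, inv_mul_cancel_left]
  exact h1

/-- An element of `C(B)` moves `A` inside `coreC B` times `A`. -/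
theorem exists_core_mul_normalizer (h : Hyp S A) (hB : B ≤ A) (hN : (imageBar B A).Normal) {g : G}
    (hg : g ∈ centralizer (B : Set G)) :
    ∃ c ∈ coreC B, c * g ∈ normalizer (A : Set G) := by
  haveI : Fact (Nat.Prime 2) := ⟨Nat.prime_two⟩
  have hAC : A ≤ centralizer (B : Set G) := le_centralizer h hB
  have hAK : A ≤ normalizer (coreC B : Set G) :=
    hAC.trans (Walter.centralizer_le_normalizer_coreC B)
  obtain ⟨j, hj⟩ := IsPGroup.iff_card.1 (PGroups.elemAb_isPGroup h.elem)
  have hcop : (Nat.card ↥A).Coprime (Nat.card ↥(coreC B)) := by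
    rw [hj]
    exact (Nat.coprime_two_left.2 (Walter.odd_coreC B)).pow_left j
  have hle : MulAut.conj g • A ≤ A ⊔ coreC B := by
    intro x hx
    rw [Coprime.mem_conj_smul] at hx
    set a := g⁻¹ * x * g with ha
    have hm : proj B ⟨g, hg⟩ * proj B ⟨a, hAC hx⟩ * (proj B ⟨g, hg⟩)⁻¹ ∈ imageBar B A :=
      hN.conj_mem _ (Walter.mem_imageBar (hAC hx) hx) _
    obtain ⟨⟨a', ha'C⟩, ha', he⟩ := hm
    rw [← map_inv, ← map_mul, ← map_mul] at he
    have h1 : proj B ((⟨a', ha'C⟩ : ↥(centralizer (B : Set G)))⁻¹ *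
        (⟨g, hg⟩ * ⟨a, hAC hx⟩ * ⟨g, hg⟩⁻¹)) = 1 := by
      rw [map_mul, map_inv, he, inv_mul_cancel]
    have h2 : a'⁻¹ * (g * a * g⁻¹) ∈ coreC B :=
      (Walter.proj_eq_one_iff (mul_mem (inv_mem ha'C)
        (mul_mem (mul_mem hg (hAC hx)) (inv_mem hg)))).1 h1
    have e : x = a' * (a'⁻¹ * (g * a * g⁻¹)) := by rw [ha]; group
    rw [e]
    exact mul_mem (mem_sup_left (mem_subgroupOf.1 ha')) (mem_sup_right h2)
  obtain ⟨c, hc, hcA⟩ := Coprime.exists_conj_eq_of_coprime hAK hcop
    (Or.inr (OddOrder.FeitThompson.isSolvable_of_odd_card (Walter.odd_coreC B))) hle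
    (Coprime.card_conj_smul _ _)
  refine ⟨c⁻¹, inv_mem hc, mem_normalizer_iff_map_conj_eq.2 ?_⟩
  have e : MulAut.conj (c⁻¹ * g) • A = A := by
    rw [Coprime.conj_smul_mul, ← hcA, ← Coprime.conj_smul_mul, inv_mul_cancel]
    simp
  ext x
  constructor
  · rintro ⟨y, hy, rfl⟩
    rw [← e, Coprime.mem_conj_smul]
    simpa [mul_assoc] using hy
  · intro hx
    rw [← e, Coprime.mem_conj_smul] at hx
    exact ⟨_, hx, by simp [mul_assoc]⟩

/-- An element of `N(A)` centralising an involution of `A` centralises `A`. -/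
theorem mem_centralizer_of_normalizer (h : Hyp S A) (h4 : Nat.card ↥A = 4)
    (hcA : ∀ s ∈ (S : Subgroup G), ∀ a ∈ A, s * a = a * s) {a g : G} (ha : a ∈ A) (ha1 : a ≠ 1)
    (hg : g ∈ normalizer (A : Set G)) (hga : g * a = a * g) :
    g ∈ centralizer (A : Set G) := by
  classical
  haveI : Fact (Nat.Prime 2) := ⟨Nat.prime_two⟩
  set N := normalizer (A : Set G) with hN
  set K := A.normalizerMonoidHom.ker with hK
  have hmemK : ∀ x : ↥N, x ∈ K ↔ (x : G) ∈ centralizer (A : Set G) := by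
    intro x
    rw [hK, MonoidHom.mem_ker, mem_centralizer_iff, MulEquiv.ext_iff]
    exact ⟨fun e b hb => (mul_inv_eq_iff_eq_mul.1 (congrArg Subtype.val (e ⟨b, hb⟩))).symm,
      fun e b => Subtype.ext (mul_inv_eq_iff_eq_mul.2 (e b b.2).symm)⟩
  have hodd : Odd K.index := by
    have hSK : (S : Subgroup G).subgroupOf N ≤ K := fun s hs =>
      (hmemK s).2 (mem_centralizer_iff.2 fun b hb => (hcA _ (mem_subgroupOf.1 hs) b hb).symm)
    have h3 := (S.subtype h.sylow_le_normalizer).not_dvd_index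
    rw [Sylow.coe_subtype] at h3
    exact Nat.not_even_iff_odd.1 fun he =>
      h3 ((even_iff_two_dvd.1 he).trans (index_dvd_of_le hSK))
  set x : ↥N := ⟨g, hg⟩
  have h2 : x ^ 2 ∈ K := by
    refine (hmemK _).2 (mem_centralizer_iff.2 fun b hb => ?_)
    set σ := A.normalizerMonoidHom x with hσ
    have hσa : σ ⟨a, ha⟩ = ⟨a, ha⟩ := Subtype.ext (mul_inv_eq_iff_eq_mul.2 hga)
    have h22 : ∀ c : ↥A, σ (σ c) = c := by
      intro c
      by_contra hne
      have hc1 : σ c ≠ c := fun e => hne (by rw [e, e])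
      have hc2 : σ (σ c) ≠ σ c := fun e => hc1 (σ.injective e)
      have hs : ({1, ⟨a, ha⟩, c, σ c, σ (σ c)} : Finset ↥A).card = 5 := by
        have e1 : ∀ d : ↥A, σ d = d → d ≠ c ∧ d ≠ σ c ∧ d ≠ σ (σ c) := fun d hd =>
          ⟨fun e => hc1 (by rw [← e, hd]),
            fun e => hc2 (by rw [← e, hd]),
            fun e => hc2 (σ.injective (by rw [← e, hd, e]))⟩
        obtain ⟨p1, p2, p3⟩ := e1 1 (map_one σ)
        obtain ⟨q1, q2, q3⟩ := e1 _ hσa
        have ha1' : (1 : ↥A) ≠ ⟨a, ha⟩ := fun e => ha1 (congrArg Subtype.val e).symm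
        rw [Finset.card_insert_of_notMem (by simp [ha1', p1, p2, p3]),
          Finset.card_insert_of_notMem (by simp [q1, q2, q3]),
          Finset.card_insert_of_notMem (by simp [Ne.symm hc1, Ne.symm hne]),
          Finset.card_insert_of_notMem (by simp [Ne.symm hc2]), Finset.card_singleton]
      haveI := Fintype.ofFinite ↥A
      have := Finset.card_le_univ ({1, ⟨a, ha⟩, c, σ c, σ (σ c)} : Finset ↥A)
      rw [hs, ← Nat.card_eq_fintype_card, h4] at this
      omega
    have e := congrArg Subtype.val (h22 ⟨b, hb⟩)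
    replace e : g * (g * b * g⁻¹) * g⁻¹ = b := e
    rw [SubgroupClass.coe_pow, pow_two]
    calc b * (g * g) = g * (g * b * g⁻¹) * g⁻¹ * (g * g) := by rw [e]
      _ = g * g * b := by group
  have hi : x ^ K.index ∈ K := pow_index_mem K x
  obtain ⟨m, hm⟩ := hodd
  rw [hm, pow_add, pow_one, pow_mul] at hi
  exact (hmemK x).1 ((K.mul_mem_cancel_left (pow_mem h2 m)).1 hi)

/-- `C(a) = O(C(a)) C(A)`. -/
theorem exists_core_mul_centralizer (hL : PropFacts.{u}) (hX : PropLocal.{u}) (h : Hyp S A)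
    (h4 : Nat.card ↥A = 4) (hcA : ∀ s ∈ (S : Subgroup G), ∀ a ∈ A, s * a = a * s) {a g : G}
    (ha : a ∈ A) (ha1 : a ≠ 1) (hg : g ∈ centralizer ({a} : Set G)) :
    ∃ c ∈ core a, c * g ∈ centralizer (A : Set G) := by
  obtain ⟨c, hc, hn⟩ := exists_core_mul_normalizer h (zpowers_le.2 ha)
    (normal_bar hL hX h h4 ha ha1) (g := g) (by rwa [Walter.centralizer_zpowers])
  rw [Walter.coreC_zpowers] at hc
  exact ⟨c, hc, mem_centralizer_of_normalizer h h4 hcA ha ha1 hn
    (mem_centralizer_singleton_iff.1 (mul_mem (Walter.core_le a hc) hg))⟩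

/-- `O(C(a)) ∩ C(A) = O(C(A))`. -/
theorem core_inf_eq (hL : PropFacts.{u}) (hX : PropLocal.{u}) (h : Hyp S A)
    (h4 : Nat.card ↥A = 4) (hcA : ∀ s ∈ (S : Subgroup G), ∀ a ∈ A, s * a = a * s) {a : G}
    (ha : a ∈ A) (ha1 : a ≠ 1) :
    core a ⊓ centralizer (A : Set G) = coreC A := by
  have hCA : centralizer (A : Set G) ≤ centralizer ({a} : Set G) :=
    centralizer_le (Set.singleton_subset_iff.2 ha)
  refine le_antisymm (Walter.le_coreC inf_le_right ?_ ?_) (le_inf ?_ (Walter.coreC_le A))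
  · exact (le_inf (hCA.trans (Walter.centralizer_le_normalizer_core a)) le_normalizer).trans
      inf_normalizer_le_normalizer_inf
  · exact (Walter.odd_core a).of_dvd_nat (card_dvd_of_le inf_le_left)
  have hD : coreC A ≤ centralizer ({a} : Set G) := (Walter.coreC_le A).trans hCA
  have hJ : coreC A ⊔ core a ≤ centralizer ({a} : Set G) := sup_le hD (Walter.core_le a)
  refine le_trans le_sup_left (Walter.le_core hJ ?_ ?_)
  · intro g hg
    obtain ⟨c, hc, hcg⟩ := exists_core_mul_centralizer hL hX h h4 hcA ha ha1 hg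
    rw [show g = c⁻¹ * (c * g) by group]
    refine mul_mem (le_normalizer (mem_sup_right (inv_mem hc))) ?_
    exact ((le_inf (Walter.centralizer_le_normalizer_coreC A)
      (hCA.trans (Walter.centralizer_le_normalizer_core a))).trans
      (normalizer_inf_normalizer_le_normalizer_sup _ _)) hcg
  · exact odd_card_sup (hD.trans (Walter.centralizer_le_normalizer_core a))
      (Walter.odd_coreC A) (Walter.odd_core a)

end Cfsg.Agent.Lib.Goldschmidt53.RankTwoCentralizer
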