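import Cfsg.Agent.Lib.Goldschmidt53.Main
import Cfsg.Agent.Lib.Goldschmidt53.RankTwoMin.Case1
import Cfsg.Agent.Lib.Goldschmidt53.RankTwoMin.StructureMain

/-!
# Goldschmidt's theorem on strongly closed abelian 2-subgroups
-/

set_option autoImplicit false

universe u

namespace Cfsg.Agent.Lib.Goldschmidt53

/-- All sections of the proof. -/
theorem sections : Sections.{u} :=
  sections_of (RankTwoMin.rankTwoMin RankTwoMin.structure_ RankTwoMin.propCase1)

/-- The theorem for simple groups. -/
theorem propSimple : PropSimple.{u} :=
  simple_of_sections sections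

end Cfsg.Agent.Lib.Goldschmidt53
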