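import Cfsg.Agent.Lib.Goldschmidt53.Base
import Cfsg.Agent.Lib.Goldschmidt53.Local
import Cfsg.Agent.Lib.Walter.Bar

/-!
# The small case: the data of one component

Owner: helper73.  Section J of `notes/goldschmidt_keystone.md`.  When `S` centralises `A` and
`(W, ⟨b⟩)` is a pair with `|W| = 4`, the parts `T` of `S` in the component and `C` of `S` centralising
it are recorded as subgroups of `G`.
-/

set_option autoImplicit false
set_option linter.style.haveILetI false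
set_option linter.unusedSectionVars false

universe u

namespace Cfsg.Agent.Lib.Goldschmidt53.Small

open Subgroup
open Cfsg.Agent.Lib.Walter (CBar liftBar coreC proj proj_surjective mem_liftBar proj_eq_one_iff
  barCore eq_one_of_mem_coreC)

variable {G : Type u} [Group G] [Finite G] {S : Sylow 2 G} {A : Subgroup G}

/-- Elements of `S` centralise `A` when `N(A)` acts with odd order. -/
theorem sylow_le_centralizer (h : Hyp S A) (hodd : OddAction A) :
    (S : Subgroup G) ≤ centralizer (A : Set G) := by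
  intro s hs
  obtain ⟨m, hm, hfix⟩ := hodd s (h.sylow_le_normalizer hs)
  obtain ⟨k, hk⟩ := IsPGroup.iff_orderOf.1 S.2 ⟨s, hs⟩
  rw [Subgroup.orderOf_mk] at hk
  have hcop : (orderOf s).Coprime m := by
    rw [hk]
    exact (Nat.coprime_two_left.2 hm).pow_left k
  have hmem : s ^ m ∈ centralizer (A : Set G) := mem_centralizer_iff.2 fun x hx =>
    (mul_inv_eq_iff_eq_mul.1 (hfix x hx)).symm
  obtain ⟨j, hj⟩ := exists_pow_eq_self_of_coprime hcop.symm
  rw [← hj]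
  exact pow_mem hmem j

/-- The parts of `S` in a component and in its centraliser. -/
structure Data (S : Sylow 2 G) (A W : Subgroup G) (b : G) (T C : Subgroup G) : Prop where
  T_le : T ≤ (S : Subgroup G)
  C_le : C ≤ (S : Subgroup G)
  T_conj : ∀ s ∈ (S : Subgroup G), ∀ t ∈ T, s * t * s⁻¹ ∈ T
  comm : ∀ t ∈ T, ∀ c ∈ C, t * c = c * t
  W_le : W ≤ A
  W_le_T : W ≤ T
  inter : T ⊓ A ≤ W
  not_mem : b ∉ W
  C_inter : C ⊓ A ≤ zpowers b
  inv : ∀ t ∈ T, t * t = 1 → t ∈ W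
  full : ∀ x ∈ T, x ∉ W → ∀ w ∈ W, ∃ y ∈ T, x * y * x⁻¹ * y⁻¹ = w
  split : ∀ s ∈ (S : Subgroup G), (∀ t ∈ T, t⁻¹ * (s * t * s⁻¹) ∈ W) → ∃ g ∈ T, g⁻¹ * s ∈ C

theorem exists_data (hNC : PropNoCover.{u}) (hF : PropFacts.{u}) (h : Hyp S A)
    (hSA : (S : Subgroup G) ≤ centralizer (A : Set G)) {b : G} (hb : b ∈ A) (hb1 : b ≠ 1)
    {W : Subgroup G} (hp : IsPair A (zpowers b) W (zpowers b)) (hW : Nat.card ↥W = 4) :
    ∃ T C : Subgroup G, Data S A W b T C := by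
  classical
  haveI : Fact (Nat.Prime 2) := ⟨Nat.prime_two⟩
  obtain ⟨hBA, hB1, K, hK, hnc, rfl, hQ⟩ := hp
  have hZ : center ↥K = ⊥ := hNC G S A h (zpowers b) hBA hB1 K hK hnc
  let B := zpowers b
  let C₀ := centralizer (B : Set G)
  have hSC : (S : Subgroup G) ≤ C₀ := fun s hs => by
    refine mem_centralizer_iff.2 fun x hx => ?_
    exact mem_centralizer_iff.1 (hSA hs) x (zpowers_le.2 hb hx)
  have hAC : A ≤ C₀ := h.closed.1.trans hSC
  let T₀ : Sylow 2 (CBar B) := (S.subtype hSC).mapSurjective (proj_surjective B)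
  let Ā : Subgroup (CBar B) := (A.subgroupOf C₀).map (proj B)
  have hmemT : ∀ y, y ∈ (T₀ : Subgroup (CBar B)) ↔
      ∃ x : ↥C₀, (x : G) ∈ (S : Subgroup G) ∧ proj B x = y := fun y => by
    rw [Sylow.coe_mapSurjective, Subgroup.mem_map]
    rfl
  have hinj : ∀ s t : ↥C₀, (s : G) ∈ (S : Subgroup G) → (t : G) ∈ (S : Subgroup G) →
      proj B s = proj B t → s = t := by
    intro s t hs ht e
    have h1 : proj B (s * t⁻¹) = 1 := by rw [map_mul, map_inv, e, mul_inv_cancel]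
    have h2 : ((s * t⁻¹ : ↥C₀) : G) = 1 := eq_one_of_mem_coreC (mul_mem hs (inv_mem ht))
      ((proj_eq_one_iff (s * t⁻¹).2).1 h1)
    exact mul_inv_eq_one.1 (Subtype.ext h2)
  have hlt : Nat.card (CBar B) < Nat.card G := by
    refine lt_of_le_of_lt (Nat.card_le_card_of_surjective _ (proj_surjective B))
      (lt_of_le_of_ne (Subgroup.card_le_card_group _) fun e => hb1 ?_)
    have htop : centralizer (B : Set G) = ⊤ := Subgroup.eq_top_of_card_eq _ e
    have hbc : b ∈ center G := mem_center_iff.2 fun g =>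
      (mem_centralizer_iff.1 (htop ▸ mem_top g : g ∈ centralizer (B : Set G)) b
        (mem_zpowers b)).symm
    rwa [h.center_eq_bot, mem_bot] at hbc
  have hel : Cfsg.IsElementaryAbelian 2 Ā := by
    haveI : IsMulCommutative ↥(A.subgroupOf C₀) := ⟨⟨fun x y =>
      Subtype.ext (Subtype.ext (h.commute x.2 y.2))⟩⟩
    refine ⟨⟨⟨fun x y => Subtype.ext ?_⟩⟩, ?_⟩
    · obtain ⟨x, hx, ex⟩ := x.2
      obtain ⟨y, hy, ey⟩ := y.2
      rw [Subgroup.coe_mul, Subgroup.coe_mul, ← ex, ← ey, ← map_mul, ← map_mul]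
      exact congrArg _ (Subtype.ext (h.commute hx hy))
    · rintro _ ⟨x, hx, rfl⟩
      rw [← map_pow, show x ^ 2 = 1 from Subtype.ext (h.elem.2 x hx), map_one]
  have hcl : Cfsg.IsStronglyClosed Ā (T₀ : Subgroup (CBar B)) := by
    have h1 : Cfsg.IsStronglyClosed (A.subgroupOf C₀) (S.subtype hSC : Subgroup ↥C₀) := by
      refine ⟨fun x hx => ?_, fun x hx g hg => ?_⟩
      · rw [Sylow.coe_subtype, mem_subgroupOf]; exact h.closed.1 hx
      · rw [Sylow.coe_subtype, mem_subgroupOf] at hg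
        exact h.closed.2 (x : G) hx (g : G) hg
    have h2 := Cfsg.Agent.S1250.result (S.subtype hSC) (A.subgroupOf C₀) h1
      (Cfsg.oddCore ↥C₀)
    rw [Sylow.coe_mapSurjective]
    exact h2
  have hloc : LocalSetting T₀ Ā (Nat.card G) := ⟨barCore B, hlt, h.below, hel, hcl⟩
  have hcen : ¬ ∀ x : ↥K, (x : CBar B) ∈ Ā → x ∈ Subgroup.center ↥K := fun hall =>
    hnc fun a ha => mem_liftBar.2 ⟨hAC ha, hloc.le_centralizer hK hall
      (mem_map_of_mem _ (mem_subgroupOf.2 ha))⟩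
  obtain ⟨hkn, P', hOm'⟩ := hloc.known_simple hK hcen hZ
  have hf := hF _ hkn
  obtain ⟨P, hP⟩ := Walter.Pairs.exists_sylow_subnormal T₀ hK.1
  have hOm : Ā.subgroupOf K = Om P := by
    refine Subgroup.eq_of_le_of_card_ge (fun x hx => Subgroup.subset_closure ⟨?_, ?_⟩) ?_
    · rw [hP, mem_subgroupOf]; exact hcl.1 hx
    · exact Subtype.ext (hel.2 (x : CBar B) hx)
    · obtain ⟨g, hg⟩ := MulAction.exists_smul_eq ↥K P' P
      have e : (P : Subgroup ↥K) = (P' : Subgroup ↥K).map (MulAut.conj g).toMonoidHom := by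
        rw [← hg, Sylow.coe_subgroup_smul]
        rfl
      rw [hOm']
      show Nat.card ↥(Cfsg.omegaOne 2 (P : Subgroup ↥K)) ≤ _
      rw [e, ← PGroups.map_omegaOne_of_injective (MulAut.conj g).toMonoidHom (MulAut.conj g).injective,
        Subgroup.card_map_of_injective (MulAut.conj g).injective]
  haveI := hf.simple
  have hKZ : ∀ y ∈ K, y ∈ centralizer (K : Set (CBar B)) → y = 1 := by
    intro y hy hyc
    have hc : (⟨y, hy⟩ : ↥K) ∈ center ↥K := mem_center_iff.2 fun z =>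
      Subtype.ext (mem_centralizer_iff.1 hyc z z.2)
    rw [hZ, mem_bot] at hc
    exact congrArg Subtype.val hc
  set T := (S : Subgroup G) ⊓ liftBar B K with hTdef
  set C := (S : Subgroup G) ⊓ liftBar B (centralizer (K : Set (CBar B))) with hCdef
  -- `K` is normalised by `S`
  obtain ⟨w₀, hw₀, hw₀1⟩ : ∃ w ∈ A ⊓ liftBar B K, w ≠ 1 := by
    refine ((A ⊓ liftBar B K).bot_or_exists_ne_one.resolve_left fun e => ?_)
    rw [e, Subgroup.card_bot] at hW
    omega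
  have hnormK : ∀ s : ↥C₀, (s : G) ∈ (S : Subgroup G) →
      K.map (MulAut.conj (proj B s)).toMonoidHom = K := by
    intro s hs
    by_contra hne
    obtain ⟨hwC, hwK⟩ := mem_liftBar.1 hw₀.2
    have hfix : proj B s * proj B ⟨w₀, hwC⟩ * (proj B s)⁻¹ = proj B ⟨w₀, hwC⟩ := by
      rw [← map_inv, ← map_mul, ← map_mul]
      refine congrArg _ (Subtype.ext ?_)
      show (s : G) * w₀ * (s : G)⁻¹ = w₀
      rw [← mem_centralizer_iff.1 (hSA hs) w₀ hw₀.1, mul_inv_cancel_right]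
    have h1 := Components.Component.le_centralizer_of_ne (Components.Component.conj hK (proj B s)) hK
      hne ⟨_, hwK, hfix⟩
    have h2 : proj B ⟨w₀, hwC⟩ = 1 := hKZ _ hwK h1
    exact hw₀1 (eq_one_of_mem_coreC (h.closed.1 hw₀.1) ((proj_eq_one_iff hwC).1 h2))
  have hWT : A ⊓ liftBar B K ≤ T := le_inf (inf_le_left.trans h.closed.1) inf_le_right
  -- elements of the Sylow subgroup of `K` come from `T`, those of `Ω₁` from `W`
  have hliftT : ∀ y : ↥K, y ∈ (P : Subgroup ↥K) →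
      ∃ t : ↥C₀, (t : G) ∈ T ∧ proj B t = (y : CBar B) := by
    intro y hy
    rw [hP, mem_subgroupOf] at hy
    obtain ⟨t, ht, hty⟩ := (hmemT _).1 hy
    exact ⟨t, ⟨ht, mem_liftBar.2 ⟨t.2, by rw [hty]; exact y.2⟩⟩, hty⟩
  have hOmW : ∀ t : ↥C₀, (t : G) ∈ T → ∀ hk : proj B t ∈ K,
      (⟨proj B t, hk⟩ : ↥K) ∈ Om P → (t : G) ∈ A ⊓ liftBar B K := by
    intro t ht hk hy
    rw [← hOm, mem_subgroupOf] at hy
    obtain ⟨a, ha, hat⟩ := hy
    have := hinj a t (h.closed.1 (mem_subgroupOf.1 ha)) ht.1 hat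
    rw [← this]
    exact ⟨mem_subgroupOf.1 ha, mem_liftBar.2 ⟨a.2, by rw [hat]; exact hk⟩⟩
  have hWOm : ∀ w : ↥C₀, (w : G) ∈ A ⊓ liftBar B K → ∀ hk : proj B w ∈ K,
      (⟨proj B w, hk⟩ : ↥K) ∈ Om P := by
    intro w hw hk
    rw [← hOm, mem_subgroupOf]
    exact mem_map_of_mem _ (mem_subgroupOf.2 hw.1)
  have hTP : ∀ t : ↥C₀, (t : G) ∈ T → ∃ hk : proj B t ∈ K,
      (⟨proj B t, hk⟩ : ↥K) ∈ (P : Subgroup ↥K) := by
    intro t ht
    obtain ⟨_, hk⟩ := mem_liftBar.1 ht.2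
    refine ⟨hk, ?_⟩
    rw [hP, mem_subgroupOf]
    exact (hmemT _).2 ⟨t, ht.1, rfl⟩
  have hcard : Nat.card ↥(Om P) = 4 := by
    rw [← hW]
    let f : ↥(A ⊓ liftBar B K : Subgroup G) → ↥(Om P) := fun w =>
      ⟨⟨proj B ⟨w, hAC w.2.1⟩, (mem_liftBar.1 w.2.2).2⟩, hWOm ⟨w, hAC w.2.1⟩ w.2 _⟩
    refine (Nat.card_congr (Equiv.ofBijective f ⟨fun w w' e => ?_, fun y => ?_⟩)).symm
    · have e' : proj B ⟨(w : G), hAC w.2.1⟩ = proj B ⟨(w' : G), hAC w'.2.1⟩ :=
        congrArg (fun z : ↥(Om P) => ((z : ↥K) : CBar B)) e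
      have h3 := congrArg Subtype.val
        (hinj ⟨(w : G), hAC w.2.1⟩ ⟨(w' : G), hAC w'.2.1⟩ (h.closed.1 w.2.1) (h.closed.1 w'.2.1) e')
      exact Subtype.ext h3
    · obtain ⟨t, ht, hty⟩ := hliftT y.1 (PGroups.omegaOne_le 2 _ y.2)
      obtain ⟨y, hy⟩ := y
      have hk : proj B t ∈ K := hty ▸ y.2
      have he : (⟨proj B t, hk⟩ : ↥K) = y := Subtype.ext hty
      exact ⟨⟨t, hOmW t ht hk (he ▸ hy)⟩, Subtype.ext he⟩
  refine ⟨T, C,
    { T_le := inf_le_left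
      C_le := inf_le_left
      T_conj := fun s hs t ht => ?_
      comm := fun t ht c hc => ?_
      W_le := inf_le_left
      W_le_T := hWT
      inter := fun x hx => ⟨hx.2, hx.1.2⟩
      not_mem := fun hbW => ?_
      C_inter := fun x hx => hQ ▸ (⟨hx.2, hx.1.2⟩ : x ∈ A ⊓ liftBar B _)
      inv := fun t ht h2 => ?_
      full := fun x hx hxW w hw => ?_
      split := fun s hs hst => ?_ }⟩
  · obtain ⟨htC, htK⟩ := mem_liftBar.1 ht.2
    refine ⟨mul_mem (mul_mem hs ht.1) ((S : Subgroup G).inv_mem hs), mem_liftBar.2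
      ⟨mul_mem (mul_mem (hSC hs) htC) (inv_mem (hSC hs)), ?_⟩⟩
    show proj B (⟨s, hSC hs⟩ * ⟨t, htC⟩ * ⟨s, hSC hs⟩⁻¹) ∈ K
    rw [map_mul, map_mul, map_inv, ← hnormK ⟨s, hSC hs⟩ hs]
    exact mem_map_of_mem (MulAut.conj (proj B ⟨s, hSC hs⟩)).toMonoidHom htK
  · obtain ⟨htC, htK⟩ := mem_liftBar.1 ht.2
    obtain ⟨hcC, hcK⟩ := mem_liftBar.1 hc.2
    have := hinj (⟨t, htC⟩ * ⟨c, hcC⟩) (⟨c, hcC⟩ * ⟨t, htC⟩) (mul_mem ht.1 hc.1) (mul_mem hc.1 ht.1)
      (by rw [map_mul, map_mul]; exact mem_centralizer_iff.1 hcK _ htK)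
    exact congrArg Subtype.val this
  · obtain ⟨hbC, hbK⟩ := mem_liftBar.1 hbW.2
    have hbQ : b ∈ A ⊓ liftBar B (centralizer (K : Set (CBar B))) := hQ ▸ mem_zpowers b
    obtain ⟨_, hbQ'⟩ := mem_liftBar.1 hbQ.2
    exact hb1 (eq_one_of_mem_coreC (h.closed.1 hb) ((proj_eq_one_iff hbC).1 (hKZ _ hbK hbQ')))
  · obtain ⟨hk, hp⟩ := hTP ⟨t, hSC ht.1⟩ ht
    refine hOmW ⟨t, hSC ht.1⟩ ht hk (Subgroup.subset_closure ⟨hp, Subtype.ext ?_⟩)
    show proj B ⟨t, hSC ht.1⟩ ^ 2 = 1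
    rw [pow_two, ← map_mul, ← map_one (proj B)]
    exact congrArg _ (Subtype.ext h2)
  · obtain ⟨hk, hp⟩ := hTP ⟨x, hSC hx.1⟩ hx
    have hwk : proj B ⟨w, hAC hw.1⟩ ∈ K := (mem_liftBar.1 hw.2).2
    obtain ⟨y, hy, hxy⟩ := hf.full P hcard ⟨_, hk⟩ hp
      (fun e => hxW (hOmW ⟨x, hSC hx.1⟩ hx hk e)) ⟨_, hwk⟩ (hWOm ⟨w, hAC hw.1⟩ hw hwk)
    obtain ⟨t, ht, hty⟩ := hliftT y hy
    refine ⟨t, ht, ?_⟩
    have h1 := congrArg Subtype.val hxy
    simp only [Subgroup.coe_mul, InvMemClass.coe_inv, ← hty, ← map_inv, ← map_mul] at h1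
    exact congrArg Subtype.val (hinj (⟨x, hSC hx.1⟩ * t * ⟨x, hSC hx.1⟩⁻¹ * t⁻¹) ⟨w, hAC hw.1⟩
      (mul_mem (mul_mem (mul_mem hx.1 ht.1) ((S : Subgroup G).inv_mem hx.1)) ((S : Subgroup G).inv_mem ht.1)) (h.closed.1 hw.1) h1)
  · set σ := proj B ⟨s, hSC hs⟩
    have hσ : σ ∈ normalizer (K : Set (CBar B)) :=
      mem_normalizer_iff_map_conj_eq.2 (hnormK ⟨s, hSC hs⟩ hs)
    let α : MulAut ↥K := K.normalizerMonoidHom ⟨σ, hσ⟩
    have hα : ∀ y : ↥K, ((α y : ↥K) : CBar B) = σ * y * σ⁻¹ := fun y => rfl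
    obtain ⟨g, hgP, hg⟩ := hf.split P α (by
        obtain ⟨k, hk⟩ := IsPGroup.iff_orderOf.1 S.2 ⟨s, hs⟩
        rw [Subgroup.orderOf_mk] at hk
        have hd : orderOf α ∣ 2 ^ k := by
          refine orderOf_dvd_of_pow_eq_one ?_
          show K.normalizerMonoidHom ⟨σ, hσ⟩ ^ 2 ^ k = 1
          rw [← map_pow, ← map_one K.normalizerMonoidHom]
          refine congrArg _ (Subtype.ext ?_)
          show σ ^ 2 ^ k = 1
          rw [← map_pow, ← map_one (proj B)]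
          exact congrArg _ (Subtype.ext (by rw [← hk]; exact pow_orderOf_eq_one s))
        obtain ⟨j, -, hj⟩ := (Nat.dvd_prime_pow Nat.prime_two).1 hd
        exact ⟨j, hj⟩)
      (fun y hy => by
        rw [← hOm, mem_subgroupOf] at hy
        obtain ⟨a, ha, hay⟩ := hy
        refine Subtype.ext ?_
        rw [hα, ← hay, ← map_inv, ← map_mul, ← map_mul]
        refine congrArg _ (Subtype.ext ?_)
        show s * (a : G) * s⁻¹ = a
        rw [← mem_centralizer_iff.1 (hSA hs) a (mem_subgroupOf.1 ha), mul_inv_cancel_right])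
      (fun y hy => by
        obtain ⟨t, ht, hty⟩ := hliftT y hy
        have h1 := hst t ht
        obtain ⟨hC', hK'⟩ := mem_liftBar.1 h1.2
        have h2 := hWOm ⟨_, hC'⟩ h1 hK'
        convert h2 using 2
        rw [Subgroup.coe_mul, InvMemClass.coe_inv, hα, ← hty, ← map_inv, ← map_inv, ← map_mul,
          ← map_mul, ← map_mul]
        rfl)
    obtain ⟨t, ht, htg⟩ := hliftT g hgP
    refine ⟨t, ht, mul_mem ((S : Subgroup G).inv_mem ht.1) hs, mem_liftBar.2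
      ⟨mul_mem (inv_mem t.2) (hSC hs), ?_⟩⟩
    show proj B (t⁻¹ * ⟨s, hSC hs⟩) ∈ centralizer (K : Set (CBar B))
    rw [map_mul, map_inv, htg]
    refine mem_centralizer_iff.2 fun y hy => ?_
    have h1 := congrArg (fun z : ↥K => (z : CBar B)) (hg ⟨y, hy⟩)
    simp only [hα, Subgroup.coe_mul, InvMemClass.coe_inv] at h1
    calc y * ((g : CBar B)⁻¹ * σ) = (g : CBar B)⁻¹ * ((g : CBar B) * y * (g : CBar B)⁻¹) * σ := by group
      _ = (g : CBar B)⁻¹ * (σ * y * σ⁻¹) * σ := by rw [h1]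
      _ = (g : CBar B)⁻¹ * σ * y := by group

end Cfsg.Agent.Lib.Goldschmidt53.Small
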